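import Mathlib.AlgebraicGeometry.Geometrically.Reduced
import Mathlib.AlgebraicGeometry.Geometrically.Irreducible
import Mathlib.AlgebraicGeometry.Geometrically.Connected
import Mathlib.AlgebraicGeometry.Morphisms.Flat
import Mathlib.AlgebraicGeometry.Fiber

/-!
Descent of geometrically reduced / irreducible / connected along surjective base change,
and the resulting base change formula for the corresponding fibre loci.
-/

universe u

open CategoryTheory Limits AlgebraicGeometry MorphismProperty

namespace Groth.Agent.FlatMor.GeomDescent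

/-- Reducedness descends along flat surjective morphisms. -/
theorem isReduced_of_flat_surjective {X Y : Scheme.{u}} (f : X ⟶ Y) [Flat f] [Surjective f]
    [IsReduced X] : IsReduced Y := by
  have (y : Y) : _root_.IsReduced (Y.presheaf.stalk y) := by
    obtain ⟨x, rfl⟩ := f.surjective y
    algebraize [(f.stalkMap x).hom]
    have : Module.FaithfullyFlat (Y.presheaf.stalk (f x)) (X.presheaf.stalk x) :=
      @Module.FaithfullyFlat.of_flat_of_isLocalHom _ _ _ _ _ _ _
        (Flat.stalkMap f x) (f.toLRSHom.prop x)
    exact isReduced_of_injective _ (RingHom.FaithfullyFlat.injective (f := (f.stalkMap x).hom) ‹_›)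
  exact isReduced_of_isReduced_stalk Y

/-- If `P` descends along flat surjective morphisms, then `geometrically P` descends along
surjective base change. -/
theorem geometrically_of_surjective {P : ObjectProperty Scheme.{u}}
    (hP : ∀ {Z' Z : Scheme.{u}} (π : Z' ⟶ Z) [Flat π] [Surjective π], P Z' → P Z)
    {X Y X' Y' : Scheme.{u}} {f : X ⟶ Y} {g : Y' ⟶ Y} [Surjective g] {f' : X' ⟶ Y'} {g' : X' ⟶ X}
    (hc : IsPullback g' f' f g) (h : geometrically P f') : geometrically P f := by
  intro K _ y Z fst snd hZ
  obtain ⟨s⟩ : Nonempty (Spec (CommRingCat.of K)) := inferInstance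
  obtain ⟨s', hs'⟩ := g.surjective (y s)
  obtain ⟨w, -, -⟩ := Scheme.Pullback.exists_preimage_pullback (f := y) (g := g) s s' hs'.symm
  let Ω := (pullback y g).residueField w
  let a : Spec (CommRingCat.of Ω) ⟶ Spec (CommRingCat.of K) :=
    (pullback y g).fromSpecResidueField w ≫ pullback.fst y g
  let b : Spec (CommRingCat.of Ω) ⟶ Y' :=
    (pullback y g).fromSpecResidueField w ≫ pullback.snd y g
  have hab : a ≫ y = b ≫ g := by simp [a, b, pullback.condition]
  have : IsIntegral (Spec (CommRingCat.of K)) := inferInstance
  have : Surjective a := ⟨fun t => ⟨default, Subsingleton.elim _ _⟩⟩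
  have h1 : IsPullback (pullback.fst snd a ≫ fst) (pullback.snd snd a) f (a ≫ y) :=
    (IsPullback.of_hasPullback snd a).paste_horiz hZ
  rw [hab] at h1
  refine hP (pullback.fst snd a) (h b (hc.lift (pullback.fst snd a ≫ fst) (pullback.snd snd a ≫ b)
    (by rw [h1.w]; simp [b])) (pullback.snd snd a) ?_)
  exact IsPullback.of_right (by rwa [hc.lift_fst]) (hc.lift_snd _ _ _) hc

/-- Base change formula for the locus of points over which the fibre has `geometrically P`. -/
theorem fibre_locus_baseChange {P : ObjectProperty Scheme.{u}}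
    (hP : ∀ {Z' Z : Scheme.{u}} (π : Z' ⟶ Z) [Flat π] [Surjective π], P Z' → P Z)
    {X Y X' Y' : Scheme.{u}} {f : X ⟶ Y} {g : Y' ⟶ Y} {f' : X' ⟶ Y'} {g' : X' ⟶ X}
    (hc : IsPullback g' f' f g) :
    {y' : ↑Y' | geometrically P (f'.fiberToSpecResidueField y')} =
      g ⁻¹' {y : ↑Y | geometrically P (f.fiberToSpecResidueField y)} := by
  ext y'
  have h := isPullback_fiberToSpecResidueField_of_isPullback hc y'
  have : Surjective (Spec.map (g.residueFieldMap y')) := ⟨fun t => ⟨default, Subsingleton.elim _ _⟩⟩
  exact ⟨fun H => geometrically_of_surjective hP h H, fun H => MorphismProperty.of_isPullback (P := geometrically P) h H⟩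

theorem irreducibleSpace_of_surjective {Z' Z : Scheme.{u}} (π : Z' ⟶ Z) [Surjective π]
    (h : IrreducibleSpace Z') : IrreducibleSpace Z := by
  have : Nonempty Z := ⟨π (Classical.arbitrary Z')⟩
  have : PreirreducibleSpace Z := by
    constructor
    rw [← π.surjective.range_eq, ← Set.image_univ]
    exact (PreirreducibleSpace.isPreirreducible_univ).image _ π.continuous.continuousOn
  exact ⟨inferInstance⟩

theorem connectedSpace_of_surjective {Z' Z : Scheme.{u}} (π : Z' ⟶ Z) [Surjective π]
    (h : ConnectedSpace Z') : ConnectedSpace Z :=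
  π.surjective.connectedSpace π.continuous

end Groth.Agent.FlatMor.GeomDescent
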