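import Groth.Agent.FlatMor.GenericPts
import Groth.Agent.RegLoc.Basic
import Mathlib.RingTheory.Flat.TorsionFree
import Mathlib.RingTheory.DiscreteValuationRing.TFAE
import Mathlib.AlgebraicGeometry.Stalk

/-!
Flatness over a base whose local rings are regular of dimension at most one.
-/

universe u

open AlgebraicGeometry CategoryTheory TopologicalSpace

namespace Groth.Agent.FlatMor.DimOne

theorem isPrincipalIdealRing (R : Type u) [CommRing R] [IsRegularLocalRing R]
    (h : ringKrullDim R ≤ 1) : IsPrincipalIdealRing R := by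
  have := RegLoc.isDomain R
  refine ((tfae_of_isNoetherianRing_of_isLocalRing_of_isDomain R).out 5 0).mp ?_
  have h1 := (IsRegularLocalRing.iff_finrank_cotangentSpace R).mp ‹_›
  rw [← h1] at h
  exact_mod_cast h

/-- A ring map out of a regular local ring of dimension at most one under which every nonzero
element becomes a nonzerodivisor is flat. -/
theorem flat_of_regular {R A : Type u} [CommRing R] [CommRing A] [IsRegularLocalRing R]
    (h : ringKrullDim R ≤ 1) (φ : R →+* A) (hreg : ∀ b : R, b ≠ 0 → ∀ a : A, φ b * a = 0 → a = 0) :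
    φ.Flat := by
  have := RegLoc.isDomain R
  have := isPrincipalIdealRing R h
  letI := φ.toAlgebra
  show Module.Flat R A
  rw [Module.Flat.flat_iff_torsion_eq_bot_of_isBezout, eq_bot_iff]
  rintro a ⟨⟨b, hb⟩, hba⟩
  exact hreg b (nonZeroDivisors.ne_zero hb) a hba

theorem flat_of_stalk_regular {X Y : Scheme.{u}} (f : X ⟶ Y)
    (hreg : ∀ y : Y, IsRegularLocalRing (Y.presheaf.stalk y))
    (hdim : ∀ y : Y, ringKrullDim (Y.presheaf.stalk y) ≤ 1)
    (h : ∀ (x : X) (b : Y.presheaf.stalk (f x)), b ≠ 0 → ∀ a : X.presheaf.stalk x,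
      (f.stalkMap x).hom b * a = 0 → a = 0) : Flat f := by
  rw [Flat.iff_flat_stalkMap]
  intro x
  have := hreg (f x)
  exact flat_of_regular (hdim _) _ (h x)

/-- The image in `Y` of the generization of `x` given by a prime `q` of `O_{X,x}` is given by the
contracted prime. -/
theorem apply_fromSpecStalk {X Y : Scheme.{u}} (f : X ⟶ Y) (x : X) (q : Spec (X.presheaf.stalk x)) :
    f (X.fromSpecStalk x q) = Y.fromSpecStalk (f x) (Spec.map (f.stalkMap x) q) := by
  rw [← Scheme.Hom.comp_apply, ← Scheme.SpecMap_stalkMap_fromSpecStalk]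
  rfl

theorem fromSpecStalk_specializes {X : Scheme.{u}} (x : X) (q : Spec (X.presheaf.stalk x)) :
    X.fromSpecStalk x q ⤳ x := by
  have : X.fromSpecStalk x q ∈ Set.range (X.fromSpecStalk x) := ⟨q, rfl⟩
  rwa [Scheme.range_fromSpecStalk] at this

theorem closure_fromSpecStalk_mem_iff {X : Scheme.{u}} (x : X) (q : PrimeSpectrum (X.presheaf.stalk x)) :
    closure {X.fromSpecStalk x q} ∈ irreducibleComponents X ↔
      q.asIdeal ∈ minimalPrimes (X.presheaf.stalk x) := by
  rw [GenericPts.closure_mem_irreducibleComponents_iff, ← PrimeSpectrum.isMin_iff]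
  constructor
  · intro h p hp
    rw [PrimeSpectrum.le_iff_specializes] at hp ⊢
    exact (X.fromSpecStalk x).isEmbedding.isInducing.specializes_iff.1
      (h _ (hp.map (X.fromSpecStalk x).continuous))
  · intro h z hz
    have : z ∈ Set.range (X.fromSpecStalk x) := by
      rw [Scheme.range_fromSpecStalk]; exact hz.trans (fromSpecStalk_specializes x q)
    obtain ⟨p, rfl⟩ := this
    have hpq := (X.fromSpecStalk x).isEmbedding.isInducing.specializes_iff.1 hz
    exact ((PrimeSpectrum.le_iff_specializes _ _).mp (h ((PrimeSpectrum.le_iff_specializes _ _).mpr hpq))).map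
      (X.fromSpecStalk x).continuous

/-- A nonzero element of a regular (hence domain) stalk of `Y` avoids every prime of `O_{X,x}` whose
point maps to the generic point of a component of `Y`. -/
theorem notMem_of_generic {X Y : Scheme.{u}} (f : X ⟶ Y) {x : X}
    [IsDomain (Y.presheaf.stalk (f x))] (q : PrimeSpectrum (X.presheaf.stalk x))
    (hq : closure {f (X.fromSpecStalk x q)} ∈ irreducibleComponents Y)
    {b : Y.presheaf.stalk (f x)} (hb : b ≠ 0) : (f.stalkMap x).hom b ∉ q.asIdeal := by
  rw [apply_fromSpecStalk] at hq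
  have h := (closure_fromSpecStalk_mem_iff (f x) _).mp hq
  rw [IsDomain.minimalPrimes_eq_singleton_bot, Set.mem_singleton_iff] at h
  intro hmem
  exact hb ((Submodule.mem_bot _).mp (h ▸ hmem : b ∈ (⊥ : Ideal (Y.presheaf.stalk (f x)))))

end Groth.Agent.FlatMor.DimOne
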