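import Mathlib.AlgebraicGeometry.Morphisms.UniversallyOpen
import Mathlib.AlgebraicGeometry.Morphisms.Flat
import Mathlib.AlgebraicGeometry.Noetherian
import Mathlib.Topology.Sober

/-!
Generic points of irreducible components: minimality characterisation, membership in dense opens,
behaviour under generalizing (e.g. flat) maps.
-/

universe u

open AlgebraicGeometry CategoryTheory TopologicalSpace Topology

namespace Groth.Agent.FlatMor.GenericPts

variable {α : Type*} [TopologicalSpace α]

theorem closure_mem_irreducibleComponents_iff [QuasiSober α] (y : α) :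
    closure {y} ∈ irreducibleComponents α ↔ ∀ z, z ⤳ y → y ⤳ z := by
  constructor
  · intro h z hz
    have h1 : closure {y} ⊆ closure {z} := specializes_iff_closure_subset.mp hz
    exact specializes_iff_closure_subset.mpr (h.2 (isIrreducible_singleton.closure) h1)
  · intro h
    refine ⟨isIrreducible_singleton.closure, fun T hT hle => ?_⟩
    set z := hT.genericPoint
    have hz := hT.isGenericPoint_genericPoint_closure
    have : z ⤳ y := hz.specializes (subset_closure (hle (subset_closure rfl)))
    calc T ⊆ closure T := subset_closure
      _ = closure {z} := hz.def.symm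
      _ ⊆ closure {y} := specializes_iff_closure_subset.mp (h z this)

theorem exists_generic_specializes [QuasiSober α] (x : α) :
    ∃ η : α, closure {η} ∈ irreducibleComponents α ∧ η ⤳ x := by
  have h := irreducibleComponent_mem_irreducibleComponents x
  have hg := h.1.isGenericPoint_genericPoint isClosed_irreducibleComponent
  refine ⟨h.1.genericPoint, ?_, hg.specializes mem_irreducibleComponent⟩
  rw [hg.def]; exact h

/-- With finitely many irreducible components a dense open contains every generic point. -/
theorem mem_of_dense_of_finite (hfin : (irreducibleComponents α).Finite) {U : Set α}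
    (hUo : IsOpen U) (hU : Dense U) {η : α} (hη : closure {η} ∈ irreducibleComponents α) : η ∈ U := by
  set O : Set α := (⋃₀ (irreducibleComponents α \ {closure {η}}))ᶜ with hO
  have hOo : IsOpen O := by
    rw [hO, Set.sUnion_eq_biUnion, isOpen_compl_iff]
    exact hfin.sdiff.isClosed_biUnion fun W hW ↦ isClosed_of_mem_irreducibleComponents W hW.1
  have hcl := closure_sUnion_irreducibleComponents_sdiff_singleton hfin _ hη
  have hne : O.Nonempty := by
    rw [← closure_nonempty_iff, ← hO.symm.trans rfl, hcl]
    exact ⟨η, subset_closure rfl⟩
  obtain ⟨z, hzO, hzU⟩ := hU.inter_open_nonempty O hOo hne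
  have hz : z ∈ closure {η} := hcl ▸ subset_closure hzO
  exact (specializes_iff_mem_closure.mpr hz).mem_open hUo hzU

theorem generic_of_generalizingMap {β : Type*} [TopologicalSpace β] [QuasiSober α] [QuasiSober β]
    {f : α → β} (hf : GeneralizingMap f) (hc : Continuous f) {η : α}
    (hη : closure {η} ∈ irreducibleComponents α) : closure {f η} ∈ irreducibleComponents β := by
  rw [closure_mem_irreducibleComponents_iff] at hη ⊢
  intro z hz
  obtain ⟨w, hw, rfl⟩ := hf hz
  exact (hη w hw).map hc

/-- In a locally Noetherian scheme a dense open contains every generic point. -/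
theorem mem_of_dense {Y : Scheme.{u}} [IsLocallyNoetherian Y] {U : Y.Opens} (hU : Dense (U : Set Y))
    {η : Y} (hη : closure {η} ∈ irreducibleComponents Y) : η ∈ U := by
  obtain ⟨_, ⟨V, hV, rfl⟩, hηV, -⟩ := Y.isBasis_affineOpens.exists_subset_of_mem_open
    (Set.mem_univ η) isOpen_univ
  have : IsAffine (Scheme.Opens.toScheme V) := hV
  have : CompactSpace (Scheme.Opens.toScheme V) := inferInstance
  have : IsLocallyNoetherian (Scheme.Opens.toScheme V) := inferInstance
  have : IsNoetherian (Scheme.Opens.toScheme V) := {}
  let η' : (Scheme.Opens.toScheme V) := ⟨η, hηV⟩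
  have h1 : closure ({η'} : Set (Scheme.Opens.toScheme V)) ∈ irreducibleComponents (Scheme.Opens.toScheme V) := by
    rw [closure_mem_irreducibleComponents_iff] at hη ⊢
    intro z hz
    exact (subtype_specializes_iff ..).mpr (hη z.1 ((subtype_specializes_iff ..).mp hz))
  refine mem_of_dense_of_finite (α := Scheme.Opens.toScheme V) NoetherianSpace.finite_irreducibleComponents
    (U.2.preimage (Scheme.Opens.ι V).continuous) ?_ h1
  exact hU.preimage (Scheme.Opens.ι V).isOpenEmbedding.isOpenMap

end Groth.Agent.FlatMor.GenericPts
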