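import Groth.Agent.S14361
import Groth.Agent.S14362
import Mathlib.AlgebraicGeometry.Morphisms.SchemeTheoreticallyDominant
import Mathlib.AlgebraicGeometry.Morphisms.Immersion

/-!
Scheme-theoretic dominance and scheme-theoretic image when the morphism is quasi-compact
or has reduced source.
-/

universe u

open AlgebraicGeometry CategoryTheory Limits TopologicalSpace

namespace Groth.Agent.FlatMor.SchDom

set_option backward.isDefEq.respectTransparency false
set_option backward.defeqAttrib.useBackward true

variable {X Y : Scheme.{u}} (f : X ⟶ Y)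

theorem ker_apply' (hyp : QuasiCompact f ∨ IsReduced X) (U : Y.affineOpens) :
    f.ker.ideal U = RingHom.ker (f.app U).hom :=
  hyp.elim (fun _ => f.ker_apply U) (fun _ => Groth.Agent.S14361.result X Y f U)

theorem closure_range_eq_support (hyp : QuasiCompact f ∨ IsReduced X) :
    (f.ker.support : Set Y) = closure (Set.range f) :=
  hyp.elim (fun _ => f.support_ker) (fun _ => Groth.Agent.S14362.result X Y f)

theorem app_injective' (hyp : QuasiCompact f ∨ IsReduced X) [IsSchemeTheoreticallyDominant f]
    (U : Y.Opens) : Function.Injective (f.app U) := by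
  wlog hU : IsAffineOpen U generalizing U; swap
  · rw [RingHom.injective_iff_ker_eq_bot, ← ker_apply' f hyp ⟨U, hU⟩, f.ker_eq_bot]
    simp
  rw [injective_iff_map_eq_zero]
  intro s hs
  refine Y.IsSheaf.section_ext fun x hx ↦ ?_
  obtain ⟨_, ⟨V, hV, rfl⟩, hxV, hVU : V ≤ U⟩ :=
    Y.isBasis_affineOpens.exists_subset_of_mem_open hx U.isOpen
  refine ⟨V, hVU, hxV, this V hV ?_⟩
  rw [← ConcreteCategory.comp_apply, f.naturality]
  simp [hs]

/-- A scheme-theoretically dominant morphism from a reduced scheme has reduced target. -/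
theorem isReduced_of_dominant [IsReduced X] [IsSchemeTheoreticallyDominant f] : IsReduced Y :=
  ⟨fun _ => isReduced_of_injective _ (app_injective' f (Or.inr inferInstance) _)⟩

theorem denseRange_of_dominant (hyp : QuasiCompact f ∨ IsReduced X)
    [IsSchemeTheoreticallyDominant f] : DenseRange f := by
  rw [DenseRange, dense_iff_closure_eq, ← closure_range_eq_support f hyp, f.ker_eq_bot,
    Scheme.IdealSheafData.support_bot, TopologicalSpace.Closeds.coe_top]

theorem toImage_app_injective' (hyp : QuasiCompact f ∨ IsReduced X) (U : Y.affineOpens) :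
    Function.Injective (f.toImage.app (f.imageι ⁻¹ᵁ U)) := by
  simp only [f.toImage_app U, CommRingCat.hom_comp, CommRingCat.hom_ofHom, RingHom.coe_comp]
  exact (RingHom.lift_injective_of_ker_le_ideal _ _ (by rw [ker_apply' f hyp U])).comp
    (f.ker.subschemeObjIso U).commRingCatIsoToRingEquiv.injective

theorem toImage_dominant (hyp : QuasiCompact f ∨ IsReduced X) :
    IsSchemeTheoreticallyDominant f.toImage := by
  have hyp' : QuasiCompact f.toImage ∨ IsReduced X := hyp.imp (fun (h : QuasiCompact f) =>
    haveI : QuasiCompact (f.toImage ≫ f.imageι) := by rwa [f.toImage_imageι]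
    QuasiCompact.of_comp _ f.imageι) id
  rw [isSchemeTheoreticallyDominant_iff]
  refine Scheme.IdealSheafData.ext_of_iSup_eq_top
    (fun U : Y.affineOpens ↦ ⟨f.imageι ⁻¹ᵁ U.1, U.2.preimage f.imageι⟩) ?_ ?_
  · show (⨆ U : Y.affineOpens, f.imageι ⁻¹ᵁ U.1) = ⊤
    rw [← Scheme.Hom.preimage_iSup, iSup_affineOpens_eq_top]
    rfl
  · intro U
    rw [ker_apply' f.toImage hyp']
    simp only [Scheme.IdealSheafData.ideal_bot, Pi.bot_apply]
    exact (RingHom.injective_iff_ker_eq_bot _).mp (toImage_app_injective' f hyp U)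

theorem isPullback_toImage_liftCoborder' [IsImmersion f] (hyp : QuasiCompact f ∨ IsReduced X) :
    IsPullback f.toImage f.liftCoborder f.imageι f.coborderRange.ι := by
  refine (isPullback_of_isClosedImmersion _ _ _ _ (by simp) ?_).flip
  rw [Scheme.Hom.imageι, Scheme.IdealSheafData.ker_subschemeι]
  ext U : 2
  simp only [Scheme.IdealSheafData.ideal_comap_of_isOpenImmersion, Scheme.Opens.ι_appIso, Iso.refl_inv,
    ker_apply' f hyp, Scheme.Hom.ker_apply, RingHom.comap_ker, ← CommRingCat.hom_comp]
  dsimp [Scheme.Opens.toScheme_presheaf_obj]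
  rw [RingHomCompTriple.comp_eq, AlgebraicGeometry.liftCoborder_app,
    CommRingCat.hom_comp, RingHom.ker_comp_of_injective]
  rw [← ConcreteCategory.mono_iff_injective_of_preservesPullback]
  infer_instance

theorem isOpenImmersion_toImage' [IsImmersion f] (hyp : QuasiCompact f ∨ IsReduced X) :
    IsOpenImmersion f.toImage :=
  MorphismProperty.of_isPullback (isPullback_toImage_liftCoborder' f hyp).flip inferInstance

theorem homOfLE_inf_dominant {Z : Scheme.{u}} (j : Z ⟶ X) [IsOpenImmersion j]
    [IsSchemeTheoreticallyDominant j] (hyp : QuasiCompact j ∨ IsReduced Z) (W : X.Opens) :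
    IsSchemeTheoreticallyDominant (X.homOfLE (inf_le_right : j.opensRange ⊓ W ≤ W)) := by
  have h1 : IsSchemeTheoreticallyDominant (j ∣_ W) := by
    rcases hyp with h | h
    · exact IsSchemeTheoreticallyDominant.of_isPullback (isPullback_morphismRestrict j W).flip
    · have : IsReduced X := isReduced_of_dominant j
      have : IsReduced W.toScheme := isReduced_of_isOpenImmersion W.ι
      have hd := denseRange_of_dominant j (Or.inr h)
      have : IsDominant (j ∣_ W) := by
        refine ⟨?_⟩
        rw [DenseRange, dense_iff_inter_open]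
        rintro O hO ⟨w, hw⟩
        obtain ⟨z, ⟨w', hw', hzw⟩⟩ := hd.exists_mem_open (W.ι.isOpenEmbedding.isOpenMap O hO) ⟨_, w, hw, rfl⟩
        have hzW : z ∈ j ⁻¹ᵁ W := show j z ∈ W from hzw ▸ w'.2
        refine ⟨w', hw', ⟨⟨z, hzW⟩, ?_⟩⟩
        apply W.ι.isOpenEmbedding.injective
        rw [← Scheme.Hom.comp_apply, morphismRestrict_ι]
        exact hzw.symm
      exact IsSchemeTheoreticallyDominant.of_isDominant _
  let e := X.isoOfEq (j.image_preimage_eq_opensRange_inf W).symm ≪≫ (j.isoImage (j ⁻¹ᵁ W)).symm
  have he : X.homOfLE (inf_le_right : j.opensRange ⊓ W ≤ W) = e.hom ≫ (j ∣_ W) := by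
    rw [← cancel_mono W.ι]
    simp [e]
  rw [he]
  infer_instance

end Groth.Agent.FlatMor.SchDom
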