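import Mathlib.RingTheory.Flat.Equalizer
import Mathlib.RingTheory.Flat.Stability
import Mathlib.LinearAlgebra.TensorProduct.Prod

/-!
Small flatness lemmas: products, kernels of surjections between flat modules.
-/

universe u v w

namespace Groth.Agent.FlatMor.FlatLemmas

open TensorProduct

/-- The product of two flat modules is flat. -/
theorem flat_prod {R : Type u} [CommRing R] {M : Type v} {N : Type w} [AddCommGroup M] [AddCommGroup N]
    [Module R M] [Module R N] [Module.Flat R M] [Module.Flat R N] : Module.Flat R (M × N) := by
  rw [Module.Flat.iff_lTensor_preserves_injective_linearMap]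
  intro P P' _ _ _ _ g hg
  have hM := Module.Flat.lTensor_preserves_injective_linearMap (M := M) g hg
  have hN := Module.Flat.lTensor_preserves_injective_linearMap (M := N) g hg
  have : g.lTensor (M × N) = (TensorProduct.prodLeft R R M N P').symm.toLinearMap ∘ₗ
      ((g.lTensor M).prodMap (g.lTensor N)) ∘ₗ (TensorProduct.prodLeft R R M N P).toLinearMap := by
    apply TensorProduct.ext'
    rintro ⟨m, n⟩ p
    simp
  rw [this]
  simp only [LinearMap.coe_comp, LinearEquiv.coe_coe, EquivLike.comp_injective,
    EquivLike.injective_comp, LinearMap.coe_prodMap]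
  exact hM.prodMap hN

/-- The kernel of a surjection of flat modules is flat. -/
theorem flat_ker {R : Type u} [CommRing R] {M P : Type v} [Small.{v} R] [AddCommGroup M] [AddCommGroup P]
    [Module R M] [Module R P] [Module.Flat R M] [Module.Flat R P] (d : M →ₗ[R] P) (hd : Function.Surjective d) :
    Module.Flat R (LinearMap.ker d) := by
  rw [Module.Flat.iff_lTensor_preserves_injective_linearMap']
  intro N N' _ _ _ _ g hg
  have h1 := LinearMap.lTensor_injective_of_exact_of_flat d hd (LinearMap.ker d).subtype
    (LinearMap.ker d).subtype_injective (LinearMap.exact_subtype_ker_map d) N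
  have h1' : Function.Injective ((LinearMap.ker d).subtype.rTensor N) := by
    rw [← LinearMap.lTensor_inj_iff_rTensor_inj]; exact h1
  have h2 : Function.Injective ((g.lTensor M).comp ((LinearMap.ker d).subtype.rTensor N)) :=
    (Module.Flat.lTensor_preserves_injective_linearMap g hg).comp h1'
  rw [LinearMap.lTensor_comp_rTensor, ← LinearMap.rTensor_comp_lTensor] at h2
  exact Function.Injective.of_comp h2

end Groth.Agent.FlatMor.FlatLemmas
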