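import Groth.Prelude.Def_FlatCA
import Mathlib.RingTheory.Flat.Localization
import Mathlib.RingTheory.Localization.BaseChange
import Mathlib.RingTheory.IsTensorProduct

/-! Flatness at a prime and base change. -/

universe u

open TensorProduct

namespace Groth.Agent.FlatMor.FlatAtBC

theorem flat_tensor (R S : Type u) [CommRing R] [CommRing S] [Algebra R S] (A : Type u) [AddCommGroup A]
    [Module S A] [Module.Flat S A] (N : Type u) [AddCommGroup N] [Module R N] [Module S N]
    [IsScalarTower R S N] [Module.Flat R N] [Module R A] [IsScalarTower R S A] :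
    Module.Flat R (A ⊗[S] N) := by
  rw [Module.Flat.iff_lTensor_preserves_injective_linearMap]
  intro X Y _ _ _ _ f hf
  have h1 : Function.Injective (f.lTensor N) := Module.Flat.lTensor_preserves_injective_linearMap f hf
  let g : N ⊗[R] X →ₗ[S] N ⊗[R] Y := AlgebraTensorModule.lTensor S N f
  have h2 : Function.Injective (g.lTensor A) := Module.Flat.lTensor_preserves_injective_linearMap g h1
  have hc : (f.lTensor (A ⊗[S] N)) = (AlgebraTensorModule.assoc R S S A N Y).symm.toLinearMap.restrictScalars R ∘ₗ
      (g.lTensor A).restrictScalars R ∘ₗ (AlgebraTensorModule.assoc R S S A N X).toLinearMap.restrictScalars R := by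
    apply TensorProduct.ext'
    intro z x
    induction z using TensorProduct.induction_on with
    | zero => rw [TensorProduct.zero_tmul, map_zero, map_zero]
    | tmul a n => simp [g]
    | add z₁ z₂ h₁ h₂ => rw [TensorProduct.add_tmul, map_add, map_add, h₁, h₂]
  rw [hc]
  exact (AlgebraTensorModule.assoc R S S A N Y).symm.injective.comp
    (h2.comp (AlgebraTensorModule.assoc R S S A N X).injective)

theorem flat_localizedModule (R : Type u) {S : Type u} [CommRing R] [CommRing S] [Algebra R S] (T : Submonoid S)
    (N : Type u) [AddCommGroup N] [Module R N] [Module S N] [IsScalarTower R S N] [Module.Flat R N] :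
    Module.Flat R (LocalizedModule T N) := by
  have : Module.Flat S (Localization T) := IsLocalization.flat (Localization T) T
  have := flat_tensor R S (Localization T) N
  exact Module.Flat.of_linearEquiv (((LocalizedModule.equivTensorProduct T N).restrictScalars R))

theorem bijective_of_isLocalizedModule {S : Type u} [CommRing S] (T : Submonoid S) {M M' : Type u}
    [AddCommGroup M] [Module S M] [AddCommGroup M'] [Module S M'] (f : M →ₗ[S] M') [IsLocalizedModule T f]
    (h : ∀ t : T, IsUnit (algebraMap S (Module.End S M) t)) : Function.Bijective f := by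
  constructor
  · intro x y hxy
    obtain ⟨t, ht⟩ := IsLocalizedModule.exists_of_eq (S := T) hxy
    exact ((Module.End.isUnit_iff _).mp (h t)).1 ht
  · intro y
    obtain ⟨⟨m, t⟩, hmt⟩ := IsLocalizedModule.surj T f y
    obtain ⟨m', hm'⟩ := ((Module.End.isUnit_iff _).mp (h t)).2 m
    refine ⟨m', ((Module.End.isUnit_iff _).mp (IsLocalizedModule.map_units f t)).1 ?_⟩
    rw [Module.algebraMap_end_apply] at hm' ⊢
    rw [Module.algebraMap_end_apply]
    simp only [] at hmt
    rw [← map_smul, hm', ← hmt]
    rfl

/-- If `T` acts invertibly on the flat `S`-algebra `P`, localizing at `T` does not change `P ⊗ M`. -/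
noncomputable def tensorLocalizedEquiv {S : Type u} [CommRing S] (T : Submonoid S) (P : Type u) [CommRing P]
    [Algebra S P] (h : ∀ t : T, IsUnit (algebraMap S P t)) (M : Type u) [AddCommGroup M] [Module S M] :
    P ⊗[S] M ≃ₗ[P] P ⊗[S] LocalizedModule T M :=
  haveI : IsLocalizedModule T ((LocalizedModule.mkLinearMap T M).lTensor P) := by
    have : IsLocalizedModule T (AlgebraTensorModule.rTensor S P (LocalizedModule.mkLinearMap T M)) := inferInstance
    have e : (LocalizedModule.mkLinearMap T M).lTensor P = (TensorProduct.comm S (LocalizedModule T M) P).toLinearMap ∘ₗ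
        AlgebraTensorModule.rTensor S P (LocalizedModule.mkLinearMap T M) ∘ₗ (TensorProduct.comm S P M).toLinearMap := by
      ext; simp
    rw [e]
    infer_instance
  LinearEquiv.ofBijective (AlgebraTensorModule.lTensor P P (LocalizedModule.mkLinearMap T M))
    (bijective_of_isLocalizedModule T ((LocalizedModule.mkLinearMap T M).lTensor P) fun t ↦ by
      rw [Module.End.isUnit_iff]
      have : Function.Bijective (fun z : P ⊗[S] M ↦ algebraMap S P t • z) :=
        (Module.End.isUnit_iff _).mp ((h t).map (algebraMap P (Module.End P (P ⊗[S] M))))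
      convert this using 1
      funext z
      exact (algebraMap_smul P (t : S) z).symm)

/-- The base change of a module flat at `q` is flat at every prime over `q`. -/
theorem flatAt_of_baseChange {R S R' S' : Type u} [CommRing R] [CommRing S] [CommRing R'] [CommRing S']
    [Algebra R S] [Algebra R R'] [Algebra S S'] [Algebra R' S'] [Algebra R S'] [IsScalarTower R S S']
    [IsScalarTower R R' S'] [Algebra.IsPushout R S R' S']
    {M M' : Type u} [AddCommGroup M] [Module S M] [Module R M] [IsScalarTower R S M]
    [AddCommGroup M'] [Module S' M'] [Module R' M'] [IsScalarTower R' S' M'] [Module S M'] [IsScalarTower S S' M']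
    (f : M →ₗ[S] M') (hf : IsBaseChange S' f) (q : Ideal S) [q.IsPrime] (q' : Ideal S') [q'.IsPrime]
    (hq : q'.comap (algebraMap S S') = q) (h : FlatCA.FlatAt R q M) : FlatCA.FlatAt R' q' M' := by
  have : Algebra.IsPushout R R' S S' := Algebra.IsPushout.symm inferInstance
  have : Module.Flat R (LocalizedModule q.primeCompl M) := h
  have h1 : Module.Flat R' (S' ⊗[S] LocalizedModule q.primeCompl M) :=
    Module.Flat.of_linearEquiv (Algebra.IsPushout.cancelBaseChange R R' S S' (LocalizedModule q.primeCompl M))
  have : IsScalarTower R' S' (S' ⊗[S] LocalizedModule q.primeCompl M) := inferInstance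
  let P := Localization.AtPrime q'
  have : Module.Flat S' P := IsLocalization.flat P q'.primeCompl
  have h2 : Module.Flat R' (P ⊗[S'] (S' ⊗[S] LocalizedModule q.primeCompl M)) := flat_tensor R' S' P _
  have hu : ∀ t : q.primeCompl, IsUnit (algebraMap S P t) := fun t ↦ by
    rw [IsScalarTower.algebraMap_apply S S' P]
    refine IsLocalization.map_units P (⟨algebraMap S S' t, ?_⟩ : q'.primeCompl)
    intro hm
    exact t.2 (hq ▸ hm)
  let e : LocalizedModule q'.primeCompl M' ≃ₗ[P] P ⊗[S'] (S' ⊗[S] LocalizedModule q.primeCompl M) :=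
    (LocalizedModule.equivTensorProduct q'.primeCompl M') ≪≫ₗ
    AlgebraTensorModule.congr (LinearEquiv.refl P P) hf.equiv.symm ≪≫ₗ
    AlgebraTensorModule.cancelBaseChange S S' P P M ≪≫ₗ
    tensorLocalizedEquiv q.primeCompl P hu M ≪≫ₗ
    (AlgebraTensorModule.cancelBaseChange S S' P P (LocalizedModule q.primeCompl M)).symm
  exact Module.Flat.of_linearEquiv (e.restrictScalars R')

/-- A pushout has a prime over each compatible pair of primes. -/
theorem exists_prime_of_pushout {R S R' S' : Type u} [CommRing R] [CommRing S] [CommRing R'] [CommRing S']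
    [Algebra R S] [Algebra R R'] [Algebra S S'] [Algebra R' S'] [Algebra R S'] [IsScalarTower R S S']
    [IsScalarTower R R' S'] [Algebra.IsPushout R S R' S']
    (p : Ideal R) [p.IsPrime] (q : Ideal S) [q.IsPrime] (p' : Ideal R') [p'.IsPrime]
    (hq : q.comap (algebraMap R S) = p) (hp : p'.comap (algebraMap R R') = p) :
    ∃ q' : Ideal S', q'.IsPrime ∧ q'.comap (algebraMap S S') = q ∧ q'.comap (algebraMap R' S') = p' := by
  let φ₁ : p.ResidueField →ₐ[R] q.ResidueField := Ideal.ResidueField.mapₐ p q (Algebra.ofId R S) hq.symm
  let φ₂ : p.ResidueField →ₐ[R] p'.ResidueField := Ideal.ResidueField.mapₐ p p' (Algebra.ofId R R') hp.symm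
  letI : Algebra p.ResidueField q.ResidueField := φ₁.toRingHom.toAlgebra
  letI : Algebra p.ResidueField p'.ResidueField := φ₂.toRingHom.toAlgebra
  have : IsScalarTower R p.ResidueField q.ResidueField := .of_algebraMap_eq fun x ↦ (φ₁.commutes x).symm
  have : IsScalarTower R p.ResidueField p'.ResidueField := .of_algebraMap_eq fun x ↦ (φ₂.commutes x).symm
  obtain ⟨m, hm⟩ := Ideal.exists_maximal (q.ResidueField ⊗[p.ResidueField] p'.ResidueField)
  letI : Field ((q.ResidueField ⊗[p.ResidueField] p'.ResidueField) ⧸ m) := Ideal.Quotient.field m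
  let a₁ : q.ResidueField →ₐ[R] (q.ResidueField ⊗[p.ResidueField] p'.ResidueField) ⧸ m :=
    (Ideal.Quotient.mkₐ R m).comp (Algebra.TensorProduct.includeLeft)
  let a₂ : p'.ResidueField →ₐ[R] (q.ResidueField ⊗[p.ResidueField] p'.ResidueField) ⧸ m :=
    (Ideal.Quotient.mkₐ R m).comp (Algebra.TensorProduct.includeRight.restrictScalars R)
  let φ := a₁.comp (IsScalarTower.toAlgHom R S q.ResidueField)
  let ψ := a₂.comp (IsScalarTower.toAlgHom R R' p'.ResidueField)
  let θ := Algebra.pushoutDesc S' φ ψ (fun x y ↦ mul_comm _ _)
  refine ⟨RingHom.ker θ.toRingHom, RingHom.ker_isPrime _, ?_, ?_⟩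
  · ext x
    rw [Ideal.mem_comap, RingHom.mem_ker, AlgHom.toRingHom_eq_coe, RingHom.coe_coe, Algebra.pushoutDesc_left]
    show a₁ (algebraMap S q.ResidueField x) = 0 ↔ _
    rw [map_eq_zero_iff a₁ a₁.toRingHom.injective, Ideal.algebraMap_residueField_eq_zero]
  · ext x
    rw [Ideal.mem_comap, RingHom.mem_ker, AlgHom.toRingHom_eq_coe, RingHom.coe_coe, Algebra.pushoutDesc_right]
    show a₂ (algebraMap R' p'.ResidueField x) = 0 ↔ _
    rw [map_eq_zero_iff a₂ a₂.toRingHom.injective, Ideal.algebraMap_residueField_eq_zero]

/-- Descent of flatness at a prime along a base change which is flat at a prime. -/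
theorem flatAt_of_descent {R S R' S' : Type u} [CommRing R] [CommRing S] [CommRing R'] [CommRing S']
    [Algebra R S] [Algebra R R'] [Algebra S S'] [Algebra R' S'] [Algebra R S'] [IsScalarTower R S S']
    [IsScalarTower R R' S'] [Algebra.IsPushout R S R' S']
    {M M' : Type u} [AddCommGroup M] [Module S M] [Module R M] [IsScalarTower R S M]
    [AddCommGroup M'] [Module S' M'] [Module R' M'] [IsScalarTower R' S' M'] [Module S M'] [IsScalarTower S S' M']
    (f : M →ₗ[S] M') (hf : IsBaseChange S' f) (q : Ideal S) [q.IsPrime] (q' : Ideal S') [q'.IsPrime]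
    (hq : q'.comap (algebraMap S S') = q) (p' : Ideal R') [p'.IsPrime] (hp' : q'.comap (algebraMap R' S') = p')
    (hflat : Module.Flat R (Localization.AtPrime p'))
    (h : FlatCA.FlatAt R' q' M') : FlatCA.FlatAt R q M := by
  have : Algebra.IsPushout R R' S S' := Algebra.IsPushout.symm inferInstance
  let P := Localization.AtPrime q'
  let L := Localization.AtPrime p'
  have hu' : ∀ t : R', t ∉ p' → IsUnit (algebraMap R' P t) := fun t ht ↦ by
    rw [IsScalarTower.algebraMap_apply R' S' P]
    exact IsLocalization.map_units P (⟨algebraMap R' S' t, fun hm ↦ ht (hp' ▸ hm)⟩ : q'.primeCompl)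
  have key : ∀ (X Y : Type u) [AddCommGroup X] [AddCommGroup Y] [Module S X] [Module S Y] (g : X →ₗ[S] Y),
      Function.Injective g → Function.Injective (AlgebraTensorModule.lTensor P P g) := by
    intro X Y _ _ _ _ g hg
    letI : Module R X := Module.compHom X (algebraMap R S)
    letI : Module R Y := Module.compHom Y (algebraMap R S)
    have : IsScalarTower R S X := IsScalarTower.of_algebraMap_smul fun _ _ ↦ rfl
    have : IsScalarTower R S Y := IsScalarTower.of_algebraMap_smul fun _ _ ↦ rfl
    let G : S' ⊗[S] X →ₗ[S'] S' ⊗[S] Y := AlgebraTensorModule.lTensor S' S' g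
    let cX := (Algebra.IsPushout.cancelBaseChange R R' S S' X)
    let cY := (Algebra.IsPushout.cancelBaseChange R R' S S' Y)
    let G' : R' ⊗[R] X →ₗ[R'] R' ⊗[R] Y := AlgebraTensorModule.lTensor R' R' (g.restrictScalars R)
    have hG : ∀ w, G' (cX w) = cY (G w) := by
      intro w
      obtain ⟨v, rfl⟩ := cX.symm.surjective w
      rw [cX.apply_symm_apply]
      induction v using TensorProduct.induction_on with
      | zero => rw [map_zero, map_zero, map_zero, map_zero]
      | tmul r x =>
        simp only [G, G', cX, cY, Algebra.IsPushout.cancelBaseChange_symm_tmul, AlgebraTensorModule.lTensor_tmul,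
          LinearMap.coe_restrictScalars]
        rw [← Algebra.IsPushout.cancelBaseChange_symm_tmul R R' S S' Y, LinearEquiv.apply_symm_apply]
      | add a b ha hb => rw [map_add, map_add, map_add, map_add, ha, hb]
    have hker : ∀ v : R' ⊗[R] X, G' v = 0 → ∃ t : R', t ∉ p' ∧ t • v = 0 := by
      intro v hv
      let mX : R' ⊗[R] X →ₗ[R] L ⊗[R] X := (IsScalarTower.toAlgHom R R' L).toLinearMap.rTensor X
      have h1 : mX v = 0 := by
        apply Module.Flat.lTensor_preserves_injective_linearMap (M := L) (g.restrictScalars R) hg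
        rw [map_zero, ← LinearMap.comp_apply, LinearMap.lTensor_comp_rTensor, ← LinearMap.rTensor_comp_lTensor,
          LinearMap.comp_apply]
        exact (congr_arg _ hv).trans (map_zero _)
      have : IsLocalizedModule p'.primeCompl
          (AlgebraTensorModule.rTensor R X (Algebra.linearMap R' L)) := inferInstance
      have h2 : AlgebraTensorModule.rTensor R X (Algebra.linearMap R' L) v = mX v := by
        clear hv h1
        induction v using TensorProduct.induction_on with
        | zero => rw [map_zero, map_zero]
        | tmul r x => simp [mX]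
        | add a b ha hb => rw [map_add, map_add, ha, hb]
      obtain ⟨t, ht⟩ := IsLocalizedModule.exists_of_eq (S := p'.primeCompl)
        (f := AlgebraTensorModule.rTensor R X (Algebra.linearMap R' L)) (x₁ := v) (x₂ := 0)
        (by rw [h2, h1, map_zero])
      exact ⟨t, t.2, by simpa [Submonoid.smul_def] using ht⟩
    let eX := AlgebraTensorModule.cancelBaseChange S S' P P X
    let eY := AlgebraTensorModule.cancelBaseChange S S' P P Y
    have hfac : ∀ w, AlgebraTensorModule.lTensor P P g (eX w) = eY (G.lTensor P w) := by
      intro w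
      induction w using TensorProduct.induction_on with
      | zero => rw [map_zero, map_zero, map_zero, map_zero]
      | tmul a z =>
        induction z using TensorProduct.induction_on with
        | zero => rw [TensorProduct.tmul_zero, map_zero, map_zero, map_zero, map_zero]
        | tmul b x => simp [G, eX, eY]
        | add z₁ z₂ h₁ h₂ => simp only [TensorProduct.tmul_add, map_add, h₁, h₂]
      | add z₁ z₂ h₁ h₂ => simp only [map_add, h₁, h₂]
    have hloc : Function.Injective (G.lTensor P) := by
      let lX : S' ⊗[S] X →ₗ[S'] P ⊗[S'] (S' ⊗[S] X) := TensorProduct.mk S' P _ 1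
      let lY : S' ⊗[S] Y →ₗ[S'] P ⊗[S'] (S' ⊗[S] Y) := TensorProduct.mk S' P _ 1
      have iX : IsLocalizedModule q'.primeCompl lX :=
        (isLocalizedModule_iff_isBaseChange q'.primeCompl P lX).mpr (TensorProduct.isBaseChange S' _ P)
      have iY : IsLocalizedModule q'.primeCompl lY :=
        (isLocalizedModule_iff_isBaseChange q'.primeCompl P lY).mpr (TensorProduct.isBaseChange S' _ P)
      rw [injective_iff_map_eq_zero]
      intro w hw
      obtain ⟨⟨z, s⟩, hz⟩ := IsLocalizedModule.surj q'.primeCompl lX w
      have h3 : lY (G z) = 0 := by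
        rw [show lY (G z) = G.lTensor P (lX z) by simp [lX, lY], ← hz, LinearMap.map_smul_of_tower, hw,
          smul_zero]
      obtain ⟨s', hs'⟩ := IsLocalizedModule.exists_of_eq (S := q'.primeCompl) (f := lY) (x₁ := G z) (x₂ := 0)
        (by rw [h3, map_zero])
      rw [smul_zero] at hs'
      obtain ⟨t, ht, htv⟩ := hker (cX ((s' : S') • z)) (by
        rw [hG, map_smul]
        rw [Submonoid.smul_def] at hs'
        rw [hs', map_zero])
      rw [← map_smul] at htv
      have h4 : t • ((s' : S') • z) = 0 := cX.map_eq_zero_iff.mp htv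
      rw [← algebraMap_smul S' t, smul_smul] at h4
      have h5 : (algebraMap R' S' t * s' : S') • lX z = 0 := by rw [← map_smul, h4, map_zero]
      have h7 : ((algebraMap R' S' t * s' * s : S')) • w = 0 := by
        rw [mul_smul]
        rw [Submonoid.smul_def] at hz
        rw [hz]
        exact h5
      have h8 : IsUnit (algebraMap S' (Module.End S' (P ⊗[S'] (S' ⊗[S] X))) (algebraMap R' S' t * s' * s)) :=
        IsLocalizedModule.map_units lX (⟨_, mul_mem (mul_mem (show algebraMap R' S' t ∈ q'.primeCompl from
          fun hm ↦ ht (hp' ▸ hm)) s'.2) s.2⟩ : q'.primeCompl)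
      exact ((Module.End.isUnit_iff _).mp h8).1 (h7.trans (map_zero _).symm)
    intro a b hab
    obtain ⟨a, rfl⟩ := eX.surjective a
    obtain ⟨b, rfl⟩ := eX.surjective b
    rw [hfac, hfac] at hab
    exact congr_arg eX (hloc (eY.injective hab))
  -- `P` is a faithfully flat local algebra over `Sq`
  let Sq := Localization.AtPrime q
  let Mq := LocalizedModule q.primeCompl M
  have : Module.Flat S P := by
    rw [Module.Flat.iff_lTensor_preserves_injective_linearMap]
    intro X Y _ _ _ _ g hg
    exact key X Y g hg
  letI : Algebra Sq P := (Localization.localRingHom q q' (algebraMap S S') hq.symm).toAlgebra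
  have : IsScalarTower S Sq P := .of_algebraMap_eq fun x ↦ by
    show _ = Localization.localRingHom q q' (algebraMap S S') hq.symm (algebraMap S Sq x)
    rw [Localization.localRingHom_to_map, ← IsScalarTower.algebraMap_apply]
  have : Module.Flat Sq P := (Module.flat_iff_of_isLocalization Sq q.primeCompl P).mpr inferInstance
  have : IsLocalHom (algebraMap Sq P) := Localization.isLocalHom_localRingHom q q' (algebraMap S S') hq.symm
  have : Module.FaithfullyFlat Sq P := Module.FaithfullyFlat.of_flat_of_isLocalHom
  letI : Algebra R P := inferInstance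
  have : IsScalarTower R Sq P := .of_algebraMap_eq fun x ↦ by
    rw [IsScalarTower.algebraMap_apply R S Sq, ← IsScalarTower.algebraMap_apply S Sq P,
      IsScalarTower.algebraMap_apply S S' P, IsScalarTower.algebraMap_apply R S' P,
      ← IsScalarTower.algebraMap_apply R S S']
  have hFM : Module.Flat R (P ⊗[Sq] Mq) := by
    have hM' : Module.Flat R' (LocalizedModule q'.primeCompl M') := h
    have hu : ∀ t : q.primeCompl, IsUnit (algebraMap S P t) := fun t ↦ by
      rw [IsScalarTower.algebraMap_apply S S' P]
      exact IsLocalization.map_units P (⟨algebraMap S S' t, fun hm ↦ t.2 (hq ▸ hm)⟩ : q'.primeCompl)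
    let e : LocalizedModule q'.primeCompl M' ≃ₗ[P] P ⊗[Sq] Mq :=
      (LocalizedModule.equivTensorProduct q'.primeCompl M') ≪≫ₗ
      AlgebraTensorModule.congr (LinearEquiv.refl P P) hf.equiv.symm ≪≫ₗ
      AlgebraTensorModule.cancelBaseChange S S' P P M ≪≫ₗ
      (AlgebraTensorModule.cancelBaseChange S Sq P P M).symm ≪≫ₗ
      AlgebraTensorModule.congr (LinearEquiv.refl P P) (LocalizedModule.equivTensorProduct q.primeCompl M).symm
    have hMR' : Module.Flat R' (P ⊗[Sq] Mq) := Module.Flat.of_linearEquiv (e.restrictScalars R').symm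
    letI : Algebra L P := (Localization.localRingHom p' q' (algebraMap R' S') hp'.symm).toAlgebra
    have : IsScalarTower R' L P := .of_algebraMap_eq fun x ↦ by
      show _ = Localization.localRingHom p' q' (algebraMap R' S') hp'.symm (algebraMap R' L x)
      rw [Localization.localRingHom_to_map, ← IsScalarTower.algebraMap_apply]
    have : Module.Flat L (P ⊗[Sq] Mq) := (Module.flat_iff_of_isLocalization L p'.primeCompl _).mpr hMR'
    have : IsScalarTower R L P := IsScalarTower.to₁₃₄ R R' L P
    exact Module.Flat.trans R L _
  show Module.Flat R Mq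
  rw [Module.Flat.iff_lTensor_preserves_injective_linearMap]
  intro X Y _ _ _ _ g hg
  let G : Mq ⊗[R] X →ₗ[Sq] Mq ⊗[R] Y := AlgebraTensorModule.lTensor Sq Mq g
  have h2 : Function.Injective (G.lTensor P) := by
    have h1 := Module.Flat.lTensor_preserves_injective_linearMap (M := P ⊗[Sq] Mq) g hg
    have hc : ∀ w, (g.lTensor (P ⊗[Sq] Mq)) ((AlgebraTensorModule.assoc R Sq Sq P Mq X).symm w) =
        (AlgebraTensorModule.assoc R Sq Sq P Mq Y).symm (G.lTensor P w) := by
      intro w
      induction w using TensorProduct.induction_on with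
      | zero => simp only [map_zero]
      | tmul a z =>
        induction z using TensorProduct.induction_on with
        | zero => simp only [TensorProduct.tmul_zero, map_zero]
        | tmul b x => simp [G]
        | add z₁ z₂ h₁ h₂ => simp only [TensorProduct.tmul_add, map_add, h₁, h₂]
      | add z₁ z₂ h₁ h₂ => simp only [map_add, h₁, h₂]
    intro a b hab
    apply (AlgebraTensorModule.assoc R Sq Sq P Mq X).symm.injective
    apply h1
    rw [hc, hc, hab]
  exact (Module.FaithfullyFlat.lTensor_injective_iff_injective Sq P G).mp h2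

end Groth.Agent.FlatMor.FlatAtBC
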