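import Groth.Agent.GrpScheme.FlatFib.Scheme
import Groth.Agent.UnramFib.Basic
import Groth.Agent.RadPtLib.Basic
import Mathlib.AlgebraicGeometry.Morphisms.SmoothFiber
import Mathlib.AlgebraicGeometry.Morphisms.FlatMono

/-!
# Properties of `S`-morphisms checked on the fibre maps `X_s ⟶ Y_s`

The base change of `f : X ⟶ Y` along `Y_s ⟶ Y` is the fibre map; every fibre of `f` is a base
change of it, and flatness of `f` follows by the fibrewise criterion.
-/

set_option autoImplicit false

universe u

open AlgebraicGeometry CategoryTheory Limits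

namespace Groth.Agent.FlatMor.FibMap

variable {X Y S : Scheme.{u}}

/-- `X_s` is the base change of `f` along `Y_s ⟶ Y`. -/
theorem isPullback_fiberMap (f : X ⟶ Y) (g : Y ⟶ S) (s : S) :
    IsPullback ((f ≫ g).fiberι s) (MoreMor.fiberMap f g s) f (g.fiberι s) := by
  refine IsPullback.of_bot (v₂₁ := g.fiberToSpecResidueField s) (v₂₂ := g)
    (h₃₁ := S.fromSpecResidueField s) ?_ ?_ ?_
  · have h : MoreMor.fiberMap f g s ≫ g.fiberToSpecResidueField s =
        (f ≫ g).fiberToSpecResidueField s := pullback.lift_snd _ _ _
    rw [h]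
    exact IsPullback.of_hasPullback (f ≫ g) (S.fromSpecResidueField s)
  · exact (pullback.lift_fst _ _ _).symm
  · exact IsPullback.of_hasPullback g (S.fromSpecResidueField s)

theorem fiberMap_of_baseChange (P : MorphismProperty Scheme.{u}) [P.IsStableUnderBaseChange]
    (f : X ⟶ Y) (g : Y ⟶ S) (s : S) (h : P (pullback.snd f (g.fiberι s))) :
    P (MoreMor.fiberMap f g s) := by
  have e := isPullback_fiberMap f g s
  rw [← e.isoPullback_hom_snd]
  exact (P.cancel_left_of_respectsIso _ _).mpr h

/-- The fibre of `f` at `y` is a base change of the fibre map over `g y`. -/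
theorem fiber_of_baseChange (P : MorphismProperty Scheme.{u}) [P.IsStableUnderBaseChange]
    (f : X ⟶ Y) (g : Y ⟶ S) (y : Y) (h : P (pullback.snd f (g.fiberι (g y)))) :
    P (f.fiberToSpecResidueField y) := by
  let l : Spec (Y.residueField y) ⟶ g.fiber (g y) :=
    pullback.lift (Y.fromSpecResidueField y) (Spec.map (g.residueFieldMap y))
      (Scheme.Hom.SpecMap_residueFieldMap_fromSpecResidueField g y).symm
  have hl : l ≫ g.fiberι (g y) = Y.fromSpecResidueField y := pullback.lift_fst _ _ _
  show P (pullback.snd f (Y.fromSpecResidueField y))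
  rw [← hl]
  refine (P.cancel_left_of_respectsIso (pullbackLeftPullbackSndIso f (g.fiberι (g y)) l).hom _).mp ?_
  rw [pullbackLeftPullbackSndIso_hom_snd]
  exact P.pullback_snd _ _ h

variable {g : Y ⟶ S} {h : X ⟶ S} [LocallyOfFinitePresentation g]
  [LocallyOfFinitePresentation h] {f : X ⟶ Y}

theorem lfp (w : f ≫ g = h) : LocallyOfFinitePresentation f := by
  subst w
  exact GrpScheme.FlatFib.locallyOfFinitePresentation_of_comp f g

theorem flat_at [Flat h] (w : f ≫ g = h) (hf : ∀ s : S, Flat (pullback.snd f (g.fiberι s)))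
    (x : X) : (g.stalkMap (f x)).hom.Flat ∧ (f.stalkMap x).hom.Flat := by
  subst w
  have := fiberMap_of_baseChange @Flat f g (g (f x)) (hf _)
  exact GrpScheme.FlatFib.flat_of_fibre f g x (Flat.stalkMap (f ≫ g) x)
    (Flat.stalkMap (MoreMor.fiberMap f g (g (f x))) _)

theorem flat [Flat h] (w : f ≫ g = h) (hf : ∀ s : S, Flat (pullback.snd f (g.fiberι s))) :
    Flat f :=
  Flat.of_stalkMap _ fun x => (flat_at w hf x).2

theorem smooth_iff [Flat h] (w : f ≫ g = h) :
    Smooth f ↔ ∀ s : S, Smooth (pullback.snd f (g.fiberι s)) := by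
  refine ⟨fun _ s => MorphismProperty.pullback_snd _ _ inferInstance, fun hf => ?_⟩
  have := lfp w
  have := flat w fun s => have := hf s; inferInstance
  exact Smooth.of_smooth_fiberToSpecResidueField f fun y =>
    fiber_of_baseChange @Smooth f g y (hf _)

theorem formallyUnramified_of_baseChange [LocallyOfFiniteType f]
    (hf : ∀ s : S, FormallyUnramified (pullback.snd f (g.fiberι s))) : FormallyUnramified f :=
  UnramFib.formallyUnramified_of_fibers f fun y => fiber_of_baseChange @FormallyUnramified f g y (hf _)

theorem etale_iff [Flat h] (w : f ≫ g = h) :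
    Etale f ↔ ∀ s : S, Etale (pullback.snd f (g.fiberι s)) := by
  refine ⟨fun _ s => MorphismProperty.pullback_snd _ _ inferInstance, fun hf => ?_⟩
  have := lfp w
  have := flat w fun s => have := hf s; inferInstance
  have := formallyUnramified_of_baseChange (g := g) (f := f) fun s => have := hf s; inferInstance
  exact Etale.of_formallyUnramified_of_flat f

theorem mono_of_baseChange [LocallyOfFiniteType f]
    (hf : ∀ s : S, Mono (pullback.snd f (g.fiberι s))) : Mono f := by
  have := formallyUnramified_of_baseChange (g := g) (f := f) fun s => have := hf s; inferInstance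
  have hrad : ∀ y, RadPt.IsRadicialAt f y := fun y => (RadPtLib.isRadicialAt_iff_fiber f y).mpr
    (fiber_of_baseChange @UniversallyInjective f g y (have := hf (g y); inferInstance))
  have hui : UniversallyInjective f ↔
      Function.Injective f ∧ ∀ x, (f.residueFieldMap x).hom.IsPurelyInseparable :=
    (tfae_universallyInjective f).out 0 2
  have : UniversallyInjective f :=
    hui.mpr ⟨fun x x' e => (hrad (f x')).1 x x' e rfl, fun x => (hrad (f x)).2 x rfl⟩
  have := (UniversallyInjective.iff_diagonal f).mp this
  have : IsIso (pullback.diagonal f) :=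
    (isIso_iff_isOpenImmersion_and_surjective _).mpr ⟨inferInstance, this⟩
  exact (pullback.isIso_diagonal_iff f).mp this

theorem isOpenImmersion_iff [Flat h] (w : f ≫ g = h) :
    IsOpenImmersion f ↔ ∀ s : S, IsOpenImmersion (pullback.snd f (g.fiberι s)) := by
  refine ⟨fun _ s => MorphismProperty.pullback_snd _ _ inferInstance, fun hf => ?_⟩
  have := lfp w
  have := flat w fun s => have := hf s; inferInstance
  have := mono_of_baseChange (g := g) (f := f) fun s => have := hf s; inferInstance
  exact IsOpenImmersion.of_flat_of_mono f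

theorem isIso_iff [Flat h] (w : f ≫ g = h) :
    IsIso f ↔ ∀ s : S, IsIso (pullback.snd f (g.fiberι s)) := by
  refine ⟨fun _ s => inferInstance, fun hf => ?_⟩
  have := (isOpenImmersion_iff w).mpr fun s => have := hf s; inferInstance
  refine (isIso_iff_isOpenImmersion_and_surjective f).mpr ⟨this, ⟨fun y => ?_⟩⟩
  have hy : y ∈ Set.range (g.fiberι (g y)) := by rw [Scheme.Hom.range_fiberι]; exact rfl
  obtain ⟨z, hz⟩ := hy
  have := hf (g y)
  obtain ⟨t, rfl⟩ := (pullback.snd f (g.fiberι (g y))).surjective z
  refine ⟨pullback.fst f (g.fiberι (g y)) t, Eq.trans ?_ hz⟩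
  rw [← Scheme.Hom.comp_apply, ← Scheme.Hom.comp_apply, pullback.condition]

end Groth.Agent.FlatMor.FibMap
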