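import Groth.Agent.FlatMor.SepDiff
import Groth.Agent.FDesc.BaseChangeStalk

/-!
# The local ring of a fibre

`exists_fibre_stalk`: the local ring of `X_{f x}` at `x` is `O_{X,x}/𝔪_{f x} O_{X,x}`.
-/

set_option autoImplicit false
universe u

open CategoryTheory AlgebraicGeometry Limits IsLocalRing
open scoped TensorProduct

namespace Groth.Agent.FlatMor.FibreStalk

theorem ker_includeRight {A A' B : Type u} [CommRing A] [CommRing A'] [CommRing B] [Algebra A A']
    [Algebra A B] (hs : Function.Surjective (algebraMap A A')) (b : B)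
    (hb : (1 : A') ⊗ₜ[A] b = 0) : b ∈ (RingHom.ker (algebraMap A A')).map (algebraMap A B) := by
  let I := RingHom.ker (algebraMap A A')
  let e : (A ⧸ I) ≃ₐ[A] A' :=
    Ideal.quotientKerAlgEquivOfSurjective (f := Algebra.ofId A A') hs
  have h1 := congrArg ((TensorProduct.quotTensorEquivQuotSMul B I).toLinearMap ∘ₗ
    (e.symm.toLinearMap.rTensor B)) hb
  rw [map_zero, LinearMap.comp_apply, LinearMap.rTensor_tmul, LinearEquiv.coe_coe] at h1
  have h2 : e.symm.toLinearMap (1 : A') = Ideal.Quotient.mk I 1 := map_one e.symm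
  rw [h2, TensorProduct.quotTensorEquivQuotSMul_mk_tmul, one_smul,
    Submodule.Quotient.mk_eq_zero, Ideal.smul_top_eq_map] at h1
  exact h1

theorem ker_stalkMap_fiberι {X S : Scheme.{u}} (f : X ⟶ S) (s : S) (y : f.fiber s) :
    RingHom.ker ((f.fiberι s).stalkMap y).hom =
      (maximalIdeal (S.presheaf.stalk (f (f.fiberι s y)))).map
        (f.stalkMap (f.fiberι s y)).hom := by
  let g := S.fromSpecResidueField s
  let q := f.fiberToSpecResidueField s
  let p := f.fiberι s
  refine le_antisymm (fun b hb => ?_) (Ideal.map_le_iff_le_comap.mpr fun a ha =>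
    SepDiff.stalkMap_fiberι_kills f s y a ha)
  have sq : IsPullback p q f g := IsPullback.of_hasPullback _ _
  have he : g (q y) = f (p y) := by
    rw [← Scheme.Hom.comp_apply, ← Scheme.Hom.comp_apply, sq.w]
  let A := S.presheaf.stalk (f (p y))
  let A' := (Spec (S.residueField s)).presheaf.stalk (q y)
  let φ : A ⟶ A' := S.presheaf.stalkSpecializes (specializes_of_eq he) ≫ g.stalkMap (q y)
  let := (f.stalkMap (p y)).hom.toAlgebra
  let := φ.hom.toAlgebra
  let := (f.stalkMap (p y) ≫ p.stalkMap y).hom.toAlgebra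
  let := (p.stalkMap y).hom.toAlgebra
  let := (q.stalkMap y).hom.toAlgebra
  have : IsScalarTower A (X.presheaf.stalk (p y)) ((f.fiber s).presheaf.stalk y) :=
    IsScalarTower.of_algebraMap_eq' rfl
  have : IsScalarTower A A' ((f.fiber s).presheaf.stalk y) := by
    refine IsScalarTower.of_algebraMap_eq' (congrArg CommRingCat.Hom.hom
      (?_ : f.stalkMap (p y) ≫ p.stalkMap y = φ ≫ q.stalkMap y))
    rw [← Scheme.Hom.stalkMap_comp, Scheme.Hom.stalkMap_congr_hom _ _ sq.w y, Category.assoc,
      Scheme.Hom.stalkMap_comp]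
    rfl
  let ψ : (A' ⊗[A] X.presheaf.stalk (p y)) →ₐ[A] (f.fiber s).presheaf.stalk y :=
    Algebra.TensorProduct.productMap (IsScalarTower.toAlgHom _ _ _) (IsScalarTower.toAlgHom _ _ _)
  have hflat : ψ.toRingHom.Flat := FDesc.BaseChangeStalk.flat_stalk_of_isPullback sq y
    (CommRingCat.ofHom ψ.toRingHom)
    (by ext a; exact Algebra.TensorProduct.productMap_left_apply _ _ a)
    (by ext a; exact Algebra.TensorProduct.productMap_right_apply _ _ a) rfl rfl
  have hsurj : Function.Surjective (algebraMap A A') :=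
    (g.stalkMap_surjective (q y)).comp (ConcreteCategory.bijective_of_isIso
      (S.presheaf.stalkCongr (Inseparable.of_eq he.symm)).hom).2
  have hinc : Function.Surjective
      (Algebra.TensorProduct.includeRight : X.presheaf.stalk (p y) →ₐ[A] A' ⊗[A] X.presheaf.stalk (p y)) :=
    fun z => by
      induction z using TensorProduct.induction_on with
      | zero => exact ⟨0, map_zero _⟩
      | tmul a b =>
        obtain ⟨r, rfl⟩ := hsurj a
        refine ⟨r • b, ?_⟩
        rw [Algebra.TensorProduct.includeRight_apply, TensorProduct.tmul_smul, TensorProduct.smul_tmul',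
          Algebra.smul_def, mul_one]
      | add x z hx hz =>
        obtain ⟨c, rfl⟩ := hx
        obtain ⟨d, rfl⟩ := hz
        exact ⟨c + d, map_add _ _ _⟩
  have hψ : ∀ b, ψ (Algebra.TensorProduct.includeRight b) = p.stalkMap y b := fun b =>
    Algebra.TensorProduct.productMap_right_apply _ _ b
  have hnt : Nontrivial (A' ⊗[A] X.presheaf.stalk (p y)) := ψ.toRingHom.domain_nontrivial
  have := IsLocalRing.of_surjective' (Algebra.TensorProduct.includeRight :
    X.presheaf.stalk (p y) →ₐ[A] A' ⊗[A] X.presheaf.stalk (p y)).toRingHom hinc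
  let := ψ.toRingHom.toAlgebra
  have : Module.Flat (A' ⊗[A] X.presheaf.stalk (p y)) ((f.fiber s).presheaf.stalk y) := hflat
  have : IsLocalHom (algebraMap (A' ⊗[A] X.presheaf.stalk (p y))
      ((f.fiber s).presheaf.stalk y)) := ⟨fun z hz => by
    obtain ⟨c, rfl⟩ := hinc z
    have hu : IsUnit (p.stalkMap y c) := hψ c ▸ hz
    exact (isUnit_of_map_unit (p.stalkMap y).hom c hu).map _⟩
  have := Module.FaithfullyFlat.of_flat_of_isLocalHom (A := A' ⊗[A] X.presheaf.stalk (p y))
    (B := (f.fiber s).presheaf.stalk y)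
  have h0 : (1 : A') ⊗ₜ[A] b = 0 := by
    apply FaithfulSMul.algebraMap_injective (A' ⊗[A] X.presheaf.stalk (p y))
      ((f.fiber s).presheaf.stalk y)
    rw [map_zero]
    exact (hψ b).trans hb
  refine Ideal.map_mono (fun a ha => ?_) (ker_includeRight hsurj b h0)
  by_contra hne
  have : IsUnit (algebraMap A A' a) := (notMem_maximalIdeal.mp hne).map _
  rw [RingHom.mem_ker] at ha
  rw [ha] at this
  exact not_isUnit_zero this

theorem exists_fibre_stalk {X S : Scheme.{u}} (f : X ⟶ S) (x : X) :
    ∃ φ : X.presheaf.stalk x →+* (f.fiber (f x)).presheaf.stalk (f.asFiber x),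
      Function.Surjective φ ∧
      RingHom.ker φ = (maximalIdeal (S.presheaf.stalk (f x))).map (f.stalkMap x).hom := by
  have : ∀ (x' : X) (s : S) (y : f.fiber s), f.fiberι s y = x' →
      ∃ φ : X.presheaf.stalk x' →+* (f.fiber s).presheaf.stalk y, Function.Surjective φ ∧
        RingHom.ker φ = (maximalIdeal (S.presheaf.stalk (f x'))).map (f.stalkMap x').hom := by
    rintro _ s y rfl
    exact ⟨((f.fiberι s).stalkMap y).hom, (f.fiberι s).stalkMap_surjective y,
      ker_stalkMap_fiberι f s y⟩
  exact this x (f x) (f.asFiber x) (f.fiberι_asFiber x)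

/-- `O_{X,x}/𝔪_{f x} O_{X,x}` as the fibre's local ring. -/
theorem exists_fibre_stalk_equiv {X S : Scheme.{u}} (f : X ⟶ S) (x : X) :
    Nonempty ((X.presheaf.stalk x ⧸ (maximalIdeal (S.presheaf.stalk (f x))).map (f.stalkMap x).hom)
      ≃+* (f.fiber (f x)).presheaf.stalk (f.asFiber x)) := by
  obtain ⟨φ, hs, hk⟩ := exists_fibre_stalk f x
  exact ⟨(Ideal.quotEquivOfEq hk.symm).trans (RingHom.quotientKerEquivOfSurjective hs)⟩

end Groth.Agent.FlatMor.FibreStalk
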