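import Groth.Agent.Thick.Unram
import Mathlib.AlgebraicGeometry.ZariskisMainTheorem

/-!
Finiteness properties across thickenings with locally nilpotent ideals.
-/

universe u

open AlgebraicGeometry CategoryTheory Limits

namespace Groth.Agent.FlatMor.Thickening

variable {X X₀ Y Y₀ : Scheme.{u}}

theorem ker_app_eq (i : Y₀ ⟶ Y) [QuasiCompact i] (U : Y.affineOpens) :
    RingHom.ker (i.app U.1).hom = i.ker.ideal U := (i.ker_apply U).symm

/-- A ring map which becomes of finite type after a surjection with finitely generated nilpotent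
kernel is of finite type. -/
theorem finiteType_of_comp_surjective {A B C : Type u} [CommRing A] [CommRing B] [CommRing C]
    (φ : A →+* B) (π : B →+* C) (hπ : Function.Surjective π) (hn : IsNilpotent (RingHom.ker π))
    (hfg : (RingHom.ker π).FG) (h : (π.comp φ).FiniteType) : φ.FiniteType := by
  classical
  let _ := φ.toAlgebra
  let _ := (π.comp φ).toAlgebra
  let g : B →ₐ[A] C := ⟨π, fun _ => rfl⟩
  have : Algebra.FiniteType A C := h
  obtain ⟨t, ht⟩ := this.out
  obtain ⟨s, hs⟩ := hfg
  choose l hl using hπ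
  let S := Algebra.adjoin A ((t.image l ∪ s : Finset B) : Set B)
  have hS : S.map g = ⊤ := by
    refine top_unique (ht ▸ Algebra.adjoin_le fun c hc => ?_)
    exact ⟨l c, Algebra.subset_adjoin (by
      simp only [Finset.coe_union, Finset.coe_image]; exact .inl ⟨c, hc, rfl⟩), hl c⟩
  have hsplit : ∀ b : B, ∃ s₀ ∈ S, b - s₀ ∈ RingHom.ker π := by
    intro b
    obtain ⟨s₀, hs₀, hg⟩ : g b ∈ S.map g := hS ▸ Algebra.mem_top
    exact ⟨s₀, hs₀, by rw [RingHom.mem_ker, map_sub, show π s₀ = π b from hg, sub_self]⟩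
  have key : ∀ n : ℕ, ∀ b : B, ∃ s₀ ∈ S, b - s₀ ∈ RingHom.ker π ^ n := by
    intro n
    induction n with
    | zero => exact fun b => ⟨0, S.zero_mem, by simp⟩
    | succ n ih =>
      intro b
      obtain ⟨s₀, hs₀, hb⟩ := hsplit b
      suffices hI : ∀ x ∈ RingHom.ker π, ∃ s₁ ∈ S, x - s₁ ∈ RingHom.ker π ^ (n + 1) by
        obtain ⟨s₁, hs₁, hx⟩ := hI _ hb
        exact ⟨s₀ + s₁, S.add_mem hs₀ hs₁, by rwa [← sub_sub]⟩
      intro x hx
      change x ∈ RingHom.ker π at hx
      rw [← hs] at hx
      refine Submodule.span_induction ?_ ?_ ?_ ?_ hx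
      · exact fun y hy => ⟨y, Algebra.subset_adjoin (by simp [hy]), by simp⟩
      · exact ⟨0, S.zero_mem, by simp⟩
      · rintro y z - - ⟨a, ha, ha'⟩ ⟨c, hc, hc'⟩
        exact ⟨a + c, S.add_mem ha hc, by rw [add_sub_add_comm]; exact add_mem ha' hc'⟩
      · rintro r y hy ⟨a, ha, ha'⟩
        obtain ⟨r₀, hr₀, hr⟩ := ih r
        refine ⟨r₀ * a, S.mul_mem hr₀ ha, ?_⟩
        have e : r • y - r₀ * a = (r - r₀) * y + r₀ * (y - a) := by rw [smul_eq_mul]; ring
        rw [e, pow_succ]
        refine add_mem (Ideal.mul_mem_mul hr (hs ▸ hy)) ?_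
        rw [← pow_succ]
        exact Ideal.mul_mem_left _ _ ha'
  obtain ⟨n, hn⟩ := hn
  refine Algebra.FiniteType.mk ⟨t.image l ∪ s, eq_top_iff.mpr fun b _ => ?_⟩
  obtain ⟨s₀, hs₀, hb⟩ := key n b
  rw [hn] at hb
  have hb' : b = s₀ := sub_eq_zero.mp (by simpa using hb)
  exact hb'.symm ▸ hs₀

/-- Local finite type is detected after a closed immersion whose ideal is finitely generated and
nilpotent on affine opens. -/
theorem locallyOfFiniteType_of_comp (i : Y₀ ⟶ Y) [IsClosedImmersion i] (F : Y ⟶ X)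
    (hn : ∀ U : Y.affineOpens, IsNilpotent (i.ker.ideal U))
    (hfg : ∀ U : Y.affineOpens, (i.ker.ideal U).FG)
    [LocallyOfFiniteType (i ≫ F)] : LocallyOfFiniteType F := by
  rw [HasRingHomProperty.iff_appLE (P := @LocallyOfFiniteType)]
  intro U V e
  have h := HasRingHomProperty.appLE @LocallyOfFiniteType (i ≫ F) ‹_› U
    ⟨i ⁻¹ᵁ V.1, V.2.preimage i⟩ (fun x hx => e hx)
  refine finiteType_of_comp_surjective _ (i.app V.1).hom (i.app_surjective V.1 V.2)
    (ker_app_eq i V ▸ hn V) (ker_app_eq i V ▸ hfg V) ?_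
  rw [← CommRingCat.hom_comp, i.app_eq_appLE, Scheme.Hom.appLE_comp_appLE]
  exact h

/-- Local finite type ascends along a cartesian thickening with locally nilpotent ideal. -/
theorem locallyOfFiniteType_of_isPullback {F : Y ⟶ X} {F₀ : Y₀ ⟶ X₀} {i : Y₀ ⟶ Y} {j : X₀ ⟶ X}
    [IsClosedImmersion j] (hn : ∀ U : X.affineOpens, IsNilpotent (j.ker.ideal U))
    (hc : IsPullback i F₀ F j) [LocallyOfFiniteType F₀] : LocallyOfFiniteType F := by
  have : IsAffineHom i := MorphismProperty.of_isPullback hc.flip (inferInstanceAs (IsAffineHom j))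
  rw [HasRingHomProperty.iff_appLE (P := @LocallyOfFiniteType)]
  intro V U e
  obtain ⟨h', h⟩ := Thick.Unram.isPushout_appLE hc V.2 U.2 e
  exact Thick.Ring.finiteType_of_nilpotent h (Thick.Unram.app_surjective j V.2)
    (ker_app_eq j V ▸ hn V)
    (HasRingHomProperty.appLE @LocallyOfFiniteType F₀ ‹_› ⟨_, V.2.preimage j⟩
      ⟨_, U.2.preimage i⟩ h')

set_option backward.isDefEq.respectTransparency false in
/-- Separatedness descends along surjective closed immersions. -/
theorem isSeparated_of_comp_surjective (i : Y₀ ⟶ Y) [IsClosedImmersion i] [Surjective i] (F : Y ⟶ X)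
    [IsSeparated (i ≫ F)] : IsSeparated F := by
  refine ⟨?_⟩
  have hm : IsClosedImmersion (pullback.map (i ≫ F) (i ≫ F) F F i i (𝟙 X) (by simp) (by simp)) :=
    MorphismProperty.pullbackMap (P := @IsClosedImmersion) ‹_› ‹_› rfl rfl
  have e : i ≫ pullback.diagonal F =
      pullback.diagonal (i ≫ F) ≫ pullback.map (i ≫ F) (i ≫ F) F F i i (𝟙 X) (by simp) (by simp) := by
    apply pullback.hom_ext <;> simp [pullback.diagonal, pullback.map] <;> exact (Category.id_comp i).symm
  have hc : IsClosedImmersion (i ≫ pullback.diagonal F) := e ▸ inferInstance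
  refine IsClosedImmersion.of_isPreimmersion _ ?_
  have hr : Set.range (pullback.diagonal F) = Set.range (i ≫ pullback.diagonal F) := by
    rw [Scheme.Hom.comp_base, TopCat.coe_comp, i.surjective.range_comp]
  rw [hr]
  exact (i ≫ pullback.diagonal F).isClosedEmbedding.isClosed_range

/-- Finiteness ascends along a cartesian thickening with locally nilpotent ideal. -/
theorem isFinite_of_isPullback {F : Y ⟶ X} {F₀ : Y₀ ⟶ X₀} {i : Y₀ ⟶ Y} {j : X₀ ⟶ X}
    [IsClosedImmersion j] [Surjective j] (hn : ∀ U : X.affineOpens, IsNilpotent (j.ker.ideal U))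
    (hc : IsPullback i F₀ F j) [IsFinite F₀] : IsFinite F := by
  have : IsClosedImmersion i := MorphismProperty.of_isPullback hc.flip ‹IsClosedImmersion j›
  have : Surjective i := MorphismProperty.of_isPullback hc.flip ‹Surjective j›
  have : LocallyOfFiniteType F := locallyOfFiniteType_of_isPullback hn hc
  have : UniversallyClosed F := (Thick.Topo.universallyClosed_iff i j F₀ F hc.w).mp inferInstance
  have : IsSeparated (i ≫ F) := hc.w ▸ inferInstance
  have : IsSeparated F := isSeparated_of_comp_surjective i F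
  have : IsProper F := {}
  have : LocallyQuasiFinite F := (Thick.Topo.locallyQuasiFinite_iff i j F₀ F hc.w).mp inferInstance
  exact IsFinite.of_isProper_of_locallyQuasiFinite F

end Groth.Agent.FlatMor.Thickening
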