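import Groth.Agent.FlatMor.FlatAtBC
import Mathlib.AlgebraicGeometry.Morphisms.Flat
import Mathlib.AlgebraicGeometry.Morphisms.WeaklyEtale
import Mathlib.RingTheory.Etale.Weakly
import Mathlib.AlgebraicGeometry.Pullbacks

/-! Morphisms with flat diagonal. -/

universe u v w

open TensorProduct CategoryTheory Limits AlgebraicGeometry

namespace Groth.Agent.FlatMor.LmulFlat

attribute [local instance] Algebra.TensorProduct.rightAlgebra

theorem flat_tensor' (R S : Type u) [CommRing R] [CommRing S] [Algebra R S] (A : Type w) [AddCommGroup A]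
    [Module S A] [Module.Flat S A] (N : Type v) [AddCommGroup N] [Module R N] [Module S N]
    [IsScalarTower R S N] [Module.Flat R N] [Module R A] [IsScalarTower R S A] :
    Module.Flat R (A ⊗[S] N) := by
  rw [Module.Flat.iff_lTensor_preserves_injective_linearMap]
  intro X Y _ _ _ _ f hf
  have h1 : Function.Injective (f.lTensor N) := Module.Flat.lTensor_preserves_injective_linearMap f hf
  let g : N ⊗[R] X →ₗ[S] N ⊗[R] Y := AlgebraTensorModule.lTensor S N f
  have h2 : Function.Injective (g.lTensor A) := Module.Flat.lTensor_preserves_injective_linearMap g h1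
  have hc : ∀ z, (f.lTensor (A ⊗[S] N)) ((AlgebraTensorModule.assoc R S S A N X).symm z) =
      (AlgebraTensorModule.assoc R S S A N Y).symm (g.lTensor A z) := by
    intro z
    induction z using TensorProduct.induction_on with
    | zero => simp only [map_zero]
    | tmul a w =>
      induction w using TensorProduct.induction_on with
      | zero => simp only [TensorProduct.tmul_zero, map_zero]
      | tmul b x => simp [g]
      | add z₁ z₂ h₁ h₂ => simp only [TensorProduct.tmul_add, map_add, h₁, h₂]
    | add z₁ z₂ h₁ h₂ => simp only [map_add, h₁, h₂]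
  intro a b hab
  obtain ⟨a, rfl⟩ := (AlgebraTensorModule.assoc R S S A N X).symm.surjective a
  obtain ⟨b, rfl⟩ := (AlgebraTensorModule.assoc R S S A N X).symm.surjective b
  rw [hc, hc] at hab
  exact congr_arg _ (h2 ((AlgebraTensorModule.assoc R S S A N Y).symm.injective hab))

/-- A copy of a ring, to tell the two factors of `S ⊗ S` apart. -/
def RingCopy (S : Type u) : Type u := S

instance (S : Type u) [CommRing S] : CommRing (RingCopy S) := inferInstanceAs (CommRing S)

instance (R S : Type u) [CommRing R] [CommRing S] [Algebra R S] : Algebra R (RingCopy S) :=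
  inferInstanceAs (Algebra R S)

/-- The identity from the copy. -/
def ringCopyEquiv (R S : Type u) [CommRing R] [CommRing S] [Algebra R S] : RingCopy S ≃ₐ[R] S :=
  (AlgEquiv.refl : S ≃ₐ[R] S)

theorem flat_aux (R S S₂ E : Type u) [CommRing R] [CommRing S] [CommRing S₂] [CommRing E]
    [Algebra R S] [Algebra R S₂] [Algebra R E] [Algebra S E] [Algebra S₂ E] [IsScalarTower R S E]
    [IsScalarTower R S₂ E] [Algebra.IsPushout R S S₂ E] [Algebra E S] [IsScalarTower S E S] [Module.Flat E S]
    (e₂ : S₂ ≃ₐ[R] S) (he₂ : ∀ x, algebraMap E S (algebraMap S₂ E x) = e₂ x)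
    (M : Type v) [AddCommGroup M] [Module R M] [Module S M] [IsScalarTower R S M] [Module.Flat R M] :
    Module.Flat S M := by
  let _ : Module S₂ M := Module.compHom M e₂.toRingEquiv.toRingHom
  have : IsScalarTower R S₂ M := IsScalarTower.of_algebraMap_smul fun r m ↦ by
    show e₂ (algebraMap R S₂ r) • m = _
    rw [e₂.commutes, algebraMap_smul]
  let _ : Algebra S₂ S := e₂.toRingEquiv.toRingHom.toAlgebra
  have : IsScalarTower S₂ E S := .of_algebraMap_eq fun x ↦ (he₂ x).symm
  have : SMulCommClass S S₂ S := ⟨fun a b c ↦ by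
    show a * (e₂ b * c) = e₂ b * (a * c)
    ring⟩
  let N := E ⊗[S₂] M
  have h1 : Module.Flat S N :=
    Module.Flat.of_linearEquiv (Algebra.IsPushout.cancelBaseChange R S S₂ E M)
  have h2 : Module.Flat S (S ⊗[E] N) := flat_tensor' S E S N
  have h3 : Module.Flat S (S ⊗[S₂] M) :=
    Module.Flat.of_linearEquiv (((AlgebraTensorModule.cancelBaseChange S₂ E E S M).restrictScalars S).symm)
  let bil : S →ₗ[S₂] M →ₗ[S₂] M :=
    { toFun := fun s ↦
        { toFun := fun m ↦ s • m
          map_add' := fun a b ↦ smul_add s a b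
          map_smul' := fun a m ↦ by
            show s • (e₂ a • m) = e₂ a • (s • m)
            rw [smul_comm] }
      map_add' := fun a b ↦ LinearMap.ext fun m ↦ add_smul a b m
      map_smul' := fun a b ↦ LinearMap.ext fun m ↦ by
        show (e₂ a * b) • m = e₂ a • (b • m)
        rw [mul_smul] }
  let fwd : S ⊗[S₂] M →ₗ[S] M :=
    { toFun := TensorProduct.lift bil
      map_add' := map_add _
      map_smul' := fun a z ↦ by
        induction z using TensorProduct.induction_on with
        | zero => simp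
        | tmul b m => exact mul_smul a b m
        | add x y hx hy => simp only [smul_add, map_add, RingHom.id_apply] at hx hy ⊢; rw [hx, hy] }
  let bwd : M →ₗ[S] S ⊗[S₂] M :=
    { toFun := fun m ↦ (1 : S) ⊗ₜ m
      map_add' := fun a b ↦ TensorProduct.tmul_add _ a b
      map_smul' := fun a m ↦ by
        show (1 : S) ⊗ₜ[S₂] (a • m) = a • ((1 : S) ⊗ₜ[S₂] m)
        have : a • m = (e₂.symm a) • m := by
          show _ = e₂ (e₂.symm a) • m
          rw [e₂.apply_symm_apply]
        rw [this, ← TensorProduct.smul_tmul, TensorProduct.smul_tmul']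
        congr 1
        show e₂ (e₂.symm a) * 1 = a * 1
        rw [e₂.apply_symm_apply] }
  exact Module.Flat.of_retract bwd fwd (LinearMap.ext fun m ↦ one_smul S m)

/-- If multiplication `S ⊗[R] S → S` is flat, then an `R`-flat `S`-module is `S`-flat. -/
theorem flat_of_flat_lmul (R S : Type u) [CommRing R] [CommRing S] [Algebra R S]
    (h : (Algebra.TensorProduct.lmul' R (S := S)).Flat)
    (M : Type v) [AddCommGroup M] [Module R M] [Module S M] [IsScalarTower R S M] [Module.Flat R M] :
    Module.Flat S M := by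
  let e₂ : RingCopy S ≃ₐ[R] S := ringCopyEquiv R S
  let μ : S ⊗[R] RingCopy S →ₐ[S] S :=
    Algebra.TensorProduct.lift (AlgHom.id S S) e₂.toAlgHom (fun x y ↦ mul_comm _ _)
  have hμ : μ.toRingHom.Flat := by
    let cg := Algebra.TensorProduct.congr (AlgEquiv.refl : S ≃ₐ[R] S) e₂
    have hcomp : μ.toRingHom = (Algebra.TensorProduct.lmul' R (S := S)).toRingHom.comp
        cg.toRingEquiv.toRingHom := by
      refine RingHom.ext fun z ↦ ?_
      induction z using TensorProduct.induction_on with
      | zero => simp only [map_zero]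
      | tmul a b => rfl
      | add x y hx hy => simp only [map_add, hx, hy]
    rw [hcomp]
    exact RingHom.Flat.comp (RingHom.Flat.of_bijective cg.bijective) h
  let _ : Algebra (S ⊗[R] RingCopy S) S := μ.toRingHom.toAlgebra
  have : Module.Flat (S ⊗[R] RingCopy S) S := hμ
  have : IsScalarTower S (S ⊗[R] RingCopy S) S := .of_algebraMap_eq fun x ↦ (μ.commutes x).symm
  refine flat_aux R S (RingCopy S) (S ⊗[R] RingCopy S) e₂ (fun x ↦ ?_) M
  show μ ((1 : S) ⊗ₜ x) = e₂ x
  rw [show μ ((1 : S) ⊗ₜ x) = (1 : S) * e₂ x from Algebra.TensorProduct.lift_tmul _ _ _ _ _, one_mul]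

/-- The affine form of a morphism with flat diagonal. -/
theorem lmul_flat_appLE {X Y : Scheme.{u}} (f : X ⟶ Y) [hf : Flat (pullback.diagonal f)]
    {U : X.Opens} {V : Y.Opens} (hU : IsAffineOpen U) (hV : IsAffineOpen V) (hUV : U ≤ f ⁻¹ᵁ V) :
    letI := (f.appLE V U hUV).hom.toAlgebra
    (Algebra.TensorProduct.lmul' Γ(Y, V) (S := Γ(X, U))).Flat := by
  let _ := (f.appLE V U hUV).hom.toAlgebra
  let P : MorphismProperty Scheme.{u} := MorphismProperty.diagonal @Flat
  have h1 : P (hU.fromSpec ≫ f) := MorphismProperty.comp_mem P _ _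
    (show Flat (pullback.diagonal hU.fromSpec) from inferInstance) hf
  rw [← IsAffineOpen.SpecMap_appLE_fromSpec f hV hU hUV] at h1
  have sq : IsPullback (𝟙 _) (Spec.map (f.appLE V U hUV))
      (Spec.map (f.appLE V U hUV) ≫ hV.fromSpec) hV.fromSpec :=
    IsPullback.of_horiz_isIso_mono ⟨by simp⟩
  have h2 : P (Spec.map (f.appLE V U hUV)) := MorphismProperty.of_isPullback sq h1
  have h3 : Flat (pullback.diagonal (Spec.map (CommRingCat.ofHom (algebraMap Γ(Y, V) Γ(X, U))))) := h2
  rw [diagonal_SpecMap, MorphismProperty.cancel_right_of_respectsIso (P := @Flat)] at h3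
  exact (HasRingHomProperty.Spec_iff (P := @Flat)).mp h3

/-- A module flat over the local ring downstairs is flat over the local ring of the source. -/
theorem flat_stalk_of_flat_diagonal {X Y : Scheme.{u}} (f : X ⟶ Y) [Flat (pullback.diagonal f)] (x : X)
    (M : Type v) [AddCommGroup M] [Module (X.presheaf.stalk x) M]
    (hM : letI := Module.compHom M (f.stalkMap x).hom; Module.Flat (Y.presheaf.stalk (f x)) M) :
    Module.Flat (X.presheaf.stalk x) M := by
  obtain ⟨V, hV, hxV, -⟩ := exists_isAffineOpen_mem_and_subset (x := f x) (U := ⊤) trivial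
  obtain ⟨U, hU, hxU, hUV⟩ := exists_isAffineOpen_mem_and_subset (x := x) (U := f ⁻¹ᵁ V) hxV
  let _ : Algebra Γ(Y, V) Γ(X, U) := (f.appLE V U hUV).hom.toAlgebra
  let _ : Algebra Γ(X, U) (X.presheaf.stalk x) := (X.presheaf.germ U x hxU).hom.toAlgebra
  let _ : Algebra Γ(Y, V) (Y.presheaf.stalk (f x)) := (Y.presheaf.germ V (f x) hxV).hom.toAlgebra
  have : IsLocalization.AtPrime (X.presheaf.stalk x) (hU.primeIdealOf ⟨x, hxU⟩).asIdeal :=
    hU.isLocalization_stalk ⟨x, hxU⟩
  have : IsLocalization.AtPrime (Y.presheaf.stalk (f x)) (hV.primeIdealOf ⟨f x, hxV⟩).asIdeal :=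
    hV.isLocalization_stalk ⟨f x, hxV⟩
  let _ : Module (Y.presheaf.stalk (f x)) M := Module.compHom M (f.stalkMap x).hom
  let _ : Module Γ(X, U) M := Module.compHom M (algebraMap Γ(X, U) (X.presheaf.stalk x))
  let _ : Module Γ(Y, V) M := Module.compHom M (algebraMap Γ(Y, V) (Y.presheaf.stalk (f x)))
  have : IsScalarTower Γ(X, U) (X.presheaf.stalk x) M := .of_algebraMap_smul fun _ _ ↦ rfl
  have : IsScalarTower Γ(Y, V) (Y.presheaf.stalk (f x)) M := .of_algebraMap_smul fun _ _ ↦ rfl
  have : IsScalarTower Γ(Y, V) Γ(X, U) M := .of_algebraMap_smul fun r m ↦ by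
    show (X.presheaf.germ U x hxU).hom ((f.appLE V U hUV).hom r) • m =
      (f.stalkMap x).hom ((Y.presheaf.germ V (f x) hxV).hom r) • m
    congr 1
    rw [← CommRingCat.comp_apply, ← CommRingCat.comp_apply, Scheme.Hom.germ_stalkMap]
    simp [Scheme.Hom.appLE]
  have h0 : Module.Flat (Y.presheaf.stalk (f x)) M := hM
  have : Module.Flat Γ(Y, V) M :=
    (Module.flat_iff_of_isLocalization (Y.presheaf.stalk (f x)) (hV.primeIdealOf ⟨f x, hxV⟩).asIdeal.primeCompl M).mp h0
  have h1 : Module.Flat Γ(X, U) M :=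
    flat_of_flat_lmul Γ(Y, V) Γ(X, U) (lmul_flat_appLE f hU hV hUV) M
  exact (Module.flat_iff_of_isLocalization (X.presheaf.stalk x) (hU.primeIdealOf ⟨x, hxU⟩).asIdeal.primeCompl M).mpr h1

end Groth.Agent.FlatMor.LmulFlat
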