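import Groth.Agent.FlatMor.FibreStalk
import Groth.Agent.EGA4Lib.DepthFlat
import Groth.Agent.Dim.LocalHom
import Groth.Agent.Thick.FlatCancel
import Groth.Prelude.Def_MoreMor

/-!
# Cohen–Macaulay local rings along flat local homomorphisms

`isCM_iff`: `B` is CM iff `A` and `B/𝔪_A B` are, for `A → B` flat local, Noetherian;
`isCMAt_iff`, `cm_comp`: Cohen–Macaulay morphisms through quotients of stalks.
-/

set_option autoImplicit false
universe u

open IsLocalRing TensorProduct

namespace Groth.Agent.FlatMor.CMFlat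

theorem isCM_of_ringEquiv {R R' : Type u} [CommRing R] [CommRing R'] (e : R ≃+* R')
    (h : LocCoh.IsCohenMacaulayLocalRing R) : LocCoh.IsCohenMacaulayLocalRing R' := by
  have : IsLocalRing R' := e.isLocalRing
  have : IsNoetherianRing R' := isNoetherianRing_of_ringEquiv R e
  let := e.toRingHom.toAlgebra
  have hs : Function.Surjective (algebraMap R R') := e.surjective
  let ℓ : R ≃ₗ[R] R' :=
    { e with map_smul' := fun r x => by simp [Algebra.smul_def, RingHom.algebraMap_toAlgebra] }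
  have : Module.Finite R R' := Module.Finite.equiv ℓ
  exact Depth.isCohenMacaulayLocalRing_iff.mpr ((Depth.isCohenMacaulayModule_iff_of_surjective hs).mpr
    ((Depth.isCohenMacaulayModule_congr ℓ).mp (Depth.isCohenMacaulayModule_self R)))

theorem add_eq_add_iff {a b a' b' : ℕ∞} (ha : a ≤ a') (hb : b ≤ b') (ha' : a' ≠ ⊤) (hb' : b' ≠ ⊤) :
    a + b = a' + b' ↔ a = a' ∧ b = b' := by
  lift a' to ℕ using ha'
  lift b' to ℕ using hb'
  lift a to ℕ using ne_top_of_le_ne_top (ENat.coe_ne_top a') ha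
  lift b to ℕ using ne_top_of_le_ne_top (ENat.coe_ne_top b') hb
  norm_cast at *
  omega

theorem exists_dim (R : Type u) [CommRing R] [IsLocalRing R] [IsNoetherianRing R] :
    ∃ d : ℕ∞, d ≠ ⊤ ∧ ringKrullDim R = d ∧ LocCoh.depth R R ≤ d ∧
      (LocCoh.IsCohenMacaulayLocalRing R ↔ LocCoh.depth R R = d) := by
  obtain ⟨n, hn, -⟩ := RegLoc.exists_natCast_eq_ringKrullDim R
  have h := Depth.depth_le_supportDim (R := R) (M := R)
  rw [Module.supportDim_self_eq_ringKrullDim, hn] at h
  refine ⟨n, ENat.coe_ne_top n, hn, WithBot.coe_le_coe.mp h, ?_⟩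
  rw [Depth.isCohenMacaulayLocalRing_iff, LocCoh.IsCohenMacaulayModule,
    Module.supportDim_self_eq_ringKrullDim, hn]
  exact ⟨fun e => (WithBot.coe_inj.mp e).symm, fun e => by rw [e]; rfl⟩

theorem isCM_iff (A B : Type u) [CommRing A] [CommRing B] [IsNoetherianRing A] [IsNoetherianRing B]
    [IsLocalRing A] [IsLocalRing B] [Algebra A B] [IsLocalHom (algebraMap A B)] [Module.Flat A B] :
    LocCoh.IsCohenMacaulayLocalRing B ↔ LocCoh.IsCohenMacaulayLocalRing A ∧
      LocCoh.IsCohenMacaulayLocalRing (B ⧸ (maximalIdeal A).map (algebraMap A B)) := by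
  let J := (maximalIdeal A).map (algebraMap A B)
  have : Nontrivial (B ⧸ J) := Ideal.Quotient.nontrivial_iff.2 (ne_top_of_le_ne_top
    (Ideal.IsPrime.ne_top') (map_maximalIdeal_le (algebraMap A B)))
  have : IsLocalRing (B ⧸ J) := IsLocalRing.of_surjective' _ Ideal.Quotient.mk_surjective
  obtain ⟨dA, ha, hdA, hleA, hA⟩ := exists_dim A
  obtain ⟨dB, hb, hdB, hleB, hB⟩ := exists_dim B
  obtain ⟨dQ, hq, hdQ, hleQ, hQ⟩ := exists_dim (B ⧸ J)
  rw [hA, hB, hQ]
  have hd : dB = dA + dQ := by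
    have := Dim.ringKrullDim_eq_add_fibre A B
    rw [hdA, hdB, hdQ] at this
    exact_mod_cast this
  have hdep : LocCoh.depth B B = LocCoh.depth A A + LocCoh.depth (B ⧸ J) (B ⧸ J) := by
    have h := EGA4Lib.depth_tensor_of_flat (R := A) (S := B) (N := B) (M := A)
    rw [Depth.depth_eq_idealDepth (M := B ⊗[A] A),
      Depth.idealDepth_congr (AlgebraTensorModule.rid A B B), ← Depth.depth_eq_idealDepth] at h
    rw [h]
    congr 1
    have hsurj : Function.Surjective (algebraMap B (B ⧸ J)) := Ideal.Quotient.mk_surjective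
    rw [Depth.depth_eq_idealDepth (M := B ⧸ J • (⊤ : Submodule B B)),
      Depth.depth_eq_idealDepth (M := B ⧸ J),
      Depth.idealDepth_congr (Submodule.quotEquivOfEq (J • (⊤ : Submodule B B)) J (Ideal.mul_top J)),
      ← IsLocalRing.map_maximalIdeal_of_surjective _ hsurj, Depth.idealDepth_map_of_surjective hsurj]
  rw [hdep, hd]
  exact add_eq_add_iff hleA hleQ ha hq

open CategoryTheory AlgebraicGeometry

theorem isCMAt_iff {X S : Scheme.{u}} (f : X ⟶ S) (x : X) :
    MoreMor.IsCMAt f x ↔ (f.stalkMap x).hom.Flat ∧ LocCoh.IsCohenMacaulayLocalRing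
      (X.presheaf.stalk x ⧸ (maximalIdeal (S.presheaf.stalk (f x))).map (f.stalkMap x).hom) := by
  obtain ⟨e⟩ := FibreStalk.exists_fibre_stalk_equiv f x
  exact and_congr_right fun _ => ⟨isCM_of_ringEquiv e.symm, isCM_of_ringEquiv e⟩

theorem isNoetherianRing_quot {X S : Scheme.{u}} (f : X ⟶ S) (x : X)
    (h : IsLocallyNoetherian (f.fiber (f x))) :
    IsNoetherianRing
      (X.presheaf.stalk x ⧸ (maximalIdeal (S.presheaf.stalk (f x))).map (f.stalkMap x).hom) := by
  obtain ⟨e⟩ := FibreStalk.exists_fibre_stalk_equiv f x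
  exact isNoetherianRing_of_ringEquiv _ e.symm

/-- For `A → B → C` local, `B → C` flat, with Noetherian fibre rings: `C/𝔪_A C` is CM iff both
`B/𝔪_A B` and `C/𝔪_B C` are. -/
theorem cm_comp (A B C : Type u) [CommRing A] [CommRing B] [CommRing C] [IsLocalRing A]
    [IsLocalRing B] [IsLocalRing C] [Algebra A B] [Algebra B C] [Algebra A C] [IsScalarTower A B C]
    [IsLocalHom (algebraMap A B)] [IsLocalHom (algebraMap B C)] [Module.Flat B C]
    [IsNoetherianRing (B ⧸ (maximalIdeal A).map (algebraMap A B))]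
    [IsNoetherianRing (C ⧸ (maximalIdeal A).map (algebraMap A C))] :
    LocCoh.IsCohenMacaulayLocalRing (C ⧸ (maximalIdeal A).map (algebraMap A C)) ↔
      LocCoh.IsCohenMacaulayLocalRing (B ⧸ (maximalIdeal A).map (algebraMap A B)) ∧
      LocCoh.IsCohenMacaulayLocalRing (C ⧸ (maximalIdeal B).map (algebraMap B C)) := by
  let m := maximalIdeal A
  let I := m.map (algebraMap A B)
  let J := m.map (algebraMap A C)
  have hIJ : J = I.map (algebraMap B C) := by
    rw [Ideal.map_map, ← IsScalarTower.algebraMap_eq]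
  have hI : I ≤ maximalIdeal B := map_maximalIdeal_le (algebraMap A B)
  have hJ : J ≤ maximalIdeal C := hIJ ▸ le_trans (Ideal.map_mono hI) (map_maximalIdeal_le (algebraMap B C))
  have : Nontrivial (B ⧸ I) :=
    Ideal.Quotient.nontrivial_iff.2 (ne_top_of_le_ne_top (Ideal.IsPrime.ne_top') hI)
  have : Nontrivial (C ⧸ J) :=
    Ideal.Quotient.nontrivial_iff.2 (ne_top_of_le_ne_top (Ideal.IsPrime.ne_top') hJ)
  have : IsLocalRing (B ⧸ I) := IsLocalRing.of_surjective' _ Ideal.Quotient.mk_surjective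
  have : IsLocalRing (C ⧸ J) := IsLocalRing.of_surjective' _ Ideal.Quotient.mk_surjective
  have hk : I ≤ J.comap (algebraMap B C) := Ideal.le_comap_of_map_le hIJ.ge
  let φ : (B ⧸ I) →+* (C ⧸ J) := Ideal.quotientMap J (algebraMap B C) hk
  let := φ.toAlgebra
  have hφ : IsLocalHom (algebraMap (B ⧸ I) (C ⧸ J)) := ⟨fun z hz => by
    obtain ⟨b, rfl⟩ := Ideal.Quotient.mk_surjective z
    refine IsUnit.map _ (isUnit_of_map_unit (algebraMap B C) b ?_)
    by_contra hne
    have h1 : Ideal.Quotient.mk J (algebraMap B C b) ∈ (maximalIdeal C).map (Ideal.Quotient.mk J) :=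
      Ideal.mem_map_of_mem _ ((mem_maximalIdeal _).mpr hne)
    rw [IsLocalRing.map_maximalIdeal_of_surjective _ Ideal.Quotient.mk_surjective] at h1
    exact (mem_maximalIdeal _).mp h1 hz⟩
  have hflat : Module.Flat (B ⧸ I) (C ⧸ J) := by
    have : IsScalarTower B (B ⧸ I) (C ⧸ J) := IsScalarTower.of_algebraMap_eq' rfl
    let e : (B ⧸ I) ⊗[B] C ≃ₗ[B] C ⧸ J :=
      (quotTensorEquivQuotSMul C I).trans
        ((Submodule.quotEquivOfEq (I • (⊤ : Submodule B C)) (J.restrictScalars B)
          (by rw [Ideal.smul_top_eq_map, hIJ])).trans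
          (Submodule.Quotient.restrictScalarsEquiv B J))
    exact Module.Flat.of_linearEquiv
      (e.symm.extendScalarsOfSurjective (R := B) (S := B ⧸ I) Ideal.Quotient.mk_surjective)
  rw [isCM_iff (B ⧸ I) (C ⧸ J)]
  refine and_congr_right fun _ => ?_
  have h2 : (maximalIdeal (B ⧸ I)).map (algebraMap (B ⧸ I) (C ⧸ J)) =
      ((maximalIdeal B).map (algebraMap B C)).map (Ideal.Quotient.mk J) := by
    rw [← IsLocalRing.map_maximalIdeal_of_surjective _ (Ideal.Quotient.mk_surjective (I := I)),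
      Ideal.map_map, Ideal.map_map]
    rfl
  let e2 := (Ideal.quotEquivOfEq h2).trans
    (DoubleQuot.quotQuotEquivQuotOfLE (hIJ ▸ Ideal.map_mono hI :
      J ≤ (maximalIdeal B).map (algebraMap B C)))
  exact ⟨isCM_of_ringEquiv e2, isCM_of_ringEquiv e2.symm⟩

end Groth.Agent.FlatMor.CMFlat
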