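import Groth.Agent.EtRamLib.Kummer.Monogenic
import Mathlib.RingTheory.Ideal.GoingDown
import Mathlib.FieldTheory.PrimitiveElement
import Mathlib.RingTheory.Localization.Integral
import Mathlib.RingTheory.LocalRing.ResidueField.Ideal
import Mathlib.RingTheory.Polynomial.Nilpotent
import Mathlib.RingTheory.Polynomial.ScaleRoots

/-!
# Finite separable extensions of the generic residue field spread to finite étale covers of an open
-/

set_option autoImplicit false
set_option linter.style.haveILetI false
universe u

open Polynomial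

namespace Groth.Agent.FlatMor.FiniteEtaleSpread

variable {R : Type u} [CommRing R] (p₀ : Ideal R) [p₀.IsPrime]

/-- A generator whose minimal polynomial lifts to a monic polynomial over the base. -/
theorem exists_generator (K : Type u) [Field K] [Algebra p₀.ResidueField K]
    [Module.Finite p₀.ResidueField K] [Algebra.IsSeparable p₀.ResidueField K] :
    ∃ (β : K) (Q : R[X]), Q.Monic ∧ Q.map (algebraMap R p₀.ResidueField) = minpoly p₀.ResidueField β ∧
      IntermediateField.adjoin p₀.ResidueField {β} = ⊤ := by
  classical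
  let κ := p₀.ResidueField
  obtain ⟨α, hα⟩ := Field.exists_primitive_element κ K
  have hint : IsIntegral κ α := Algebra.IsIntegral.isIntegral α
  let P := minpoly κ α
  obtain ⟨⟨b, hb⟩, hbint⟩ := IsLocalization.exist_integer_multiples_of_finset
    (nonZeroDivisors (R ⧸ p₀)) (P.support.image P.coeff : Finset κ)
  let c : κ := algebraMap (R ⧸ p₀) κ b
  have hc : c ≠ 0 := fun h => nonZeroDivisors.ne_zero hb
    ((map_eq_zero_iff _ (IsFractionRing.injective (R ⧸ p₀) κ)).mp h)
  let β : K := algebraMap κ K c * α
  have hadj : IntermediateField.adjoin κ {β} = ⊤ := by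
    rw [eq_top_iff, ← hα, IntermediateField.adjoin_simple_le_iff]
    have h1 : β ∈ IntermediateField.adjoin κ {β} := IntermediateField.mem_adjoin_simple_self κ β
    have h2 : α = (algebraMap κ K c)⁻¹ * β := by
      rw [show β = algebraMap κ K c * α from rfl, inv_mul_cancel_left₀]
      exact (_root_.map_ne_zero _).mpr hc
    rw [h2]
    exact mul_mem (inv_mem ((IntermediateField.adjoin κ {β}).algebraMap_mem c)) h1
  have hintβ : IsIntegral κ β := Algebra.IsIntegral.isIntegral β
  have hP : scaleRoots P c = minpoly κ β := by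
    refine (eq_of_monic_of_dvd_of_natDegree_le (minpoly.monic hintβ)
      ((monic_scaleRoots_iff c).mpr (minpoly.monic hint)) (minpoly.dvd κ β ?_) (le_of_eq ?_)).symm.symm
    · exact scaleRoots_aeval_eq_zero (minpoly.aeval κ α)
    · rw [natDegree_scaleRoots, ← IntermediateField.adjoin.finrank hint,
        ← IntermediateField.adjoin.finrank hintβ, hα, hadj]
  have hrange : ∀ i, (minpoly κ β).coeff i ∈ Set.range (algebraMap R κ) := by
    intro i
    rw [← hP, coeff_scaleRoots]
    have hsurj : ∀ x : R ⧸ p₀, algebraMap (R ⧸ p₀) κ x ∈ (algebraMap R κ).range := fun x => by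
      obtain ⟨r, rfl⟩ := Ideal.Quotient.mk_surjective x
      exact ⟨r, rfl⟩
    show _ ∈ (algebraMap R κ).range
    rcases eq_or_ne (P.coeff i) 0 with h0 | h0
    · rw [h0, zero_mul]; exact zero_mem _
    rcases lt_or_ge i P.natDegree with hlt | hge
    · obtain ⟨d, hd⟩ : ∃ d, P.natDegree - i = d + 1 := ⟨P.natDegree - i - 1, by omega⟩
      rw [hd, pow_succ, mul_comm _ c, ← mul_assoc]
      refine mul_mem ?_ (pow_mem (hsurj b) d)
      obtain ⟨y, hy⟩ := hbint (P.coeff i) (Finset.mem_image.mpr ⟨i, mem_support_iff.mpr h0, rfl⟩)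
      have hy' : algebraMap (R ⧸ p₀) κ y = c * P.coeff i := hy.trans (Algebra.smul_def _ _)
      rw [mul_comm, ← hy']
      exact hsurj y
    · have : i = P.natDegree := le_antisymm (le_natDegree_of_ne_zero h0) hge
      rw [this, Nat.sub_self, pow_zero, mul_one, (minpoly.monic hint).coeff_natDegree]
      exact one_mem _
  obtain ⟨Q, hQ, -, hQm⟩ := lifts_and_degree_eq_and_monic
    ((lifts_iff_coeff_lifts _).mpr hrange) (minpoly.monic hintβ)
  exact ⟨β, Q, hQm, hQ, hadj⟩

set_option maxHeartbeats 800000 in
/-- A finite separable extension of the residue field at the generic point of an irreducible affine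
scheme is the generic residue field of an irreducible finite étale cover of a nonempty principal open. -/
theorem exists_finite_etale_spread (hp₀ : ∀ q : Ideal R, q.IsPrime → p₀ ≤ q) (K : Type u) [Field K]
    [Algebra p₀.ResidueField K] [Module.Finite p₀.ResidueField K] [Algebra.IsSeparable p₀.ResidueField K] :
    ∃ (s : R) (_ : s ∉ p₀) (E : Type u) (_ : CommRing E) (_ : Algebra (Localization.Away s) E)
      (_ : Algebra.Etale (Localization.Away s) E) (_ : Module.Finite (Localization.Away s) E)
      (ψ : E →+* K), (∀ q : Ideal E, q.IsPrime → RingHom.ker ψ ≤ q) ∧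
      Function.Surjective (PrimeSpectrum.comap (algebraMap (Localization.Away s) E)) ∧
      Subfield.closure (Set.range ψ) = ⊤ ∧
      ψ.comp ((algebraMap (Localization.Away s) E).comp (algebraMap R (Localization.Away s))) =
        (algebraMap p₀.ResidueField K).comp (algebraMap R p₀.ResidueField) := by
  classical
  let κ := p₀.ResidueField
  obtain ⟨β, Q, hQ, hQβ, hadj⟩ := exists_generator p₀ K
  have hintβ : IsIntegral κ β := Algebra.IsIntegral.isIntegral β
  obtain ⟨a, b, hab⟩ := (Algebra.IsSeparable.isSeparable κ β : (minpoly κ β).Separable)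
  -- clear denominators
  obtain ⟨⟨t, ht⟩, htint⟩ := IsLocalization.exist_integer_multiples_of_finset (nonZeroDivisors (R ⧸ p₀))
    (a.support.image a.coeff ∪ b.support.image b.coeff : Finset κ)
  obtain ⟨s, rfl⟩ := Ideal.Quotient.mk_surjective t
  have hs : s ∉ p₀ := fun h => nonZeroDivisors.ne_zero ht (Ideal.Quotient.eq_zero_iff_mem.mpr h)
  have hclear : ∀ F : κ[X], F.support.image F.coeff ⊆ a.support.image a.coeff ∪ b.support.image b.coeff →
      ∃ G : R[X], G.map (algebraMap R κ) = C (algebraMap R κ s) * F := by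
    intro F hF
    refine (lifts_iff_coeff_lifts _).mpr fun i => ?_
    rw [coeff_C_mul]
    show _ ∈ (algebraMap R κ).range
    rcases eq_or_ne (F.coeff i) 0 with h0 | h0
    · rw [h0, mul_zero]; exact zero_mem _
    obtain ⟨y, hy⟩ := htint (F.coeff i) (hF (Finset.mem_image.mpr ⟨i, mem_support_iff.mpr h0, rfl⟩))
    obtain ⟨r, rfl⟩ := Ideal.Quotient.mk_surjective y
    exact ⟨r, hy.trans (Algebra.smul_def _ _)⟩
  obtain ⟨A', hA'⟩ := hclear a Finset.subset_union_left
  obtain ⟨B', hB'⟩ := hclear b Finset.subset_union_right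
  let N := A' * Q + B' * derivative Q - C s
  have hN : ∀ i, IsNilpotent (N.coeff i) := by
    intro i
    rw [← mem_nilradical, nilradical_eq_sInf, Ideal.mem_sInf]
    intro q hq
    refine hp₀ q hq ?_
    rw [← Ideal.algebraMap_residueField_eq_zero (I := p₀), ← coeff_map]
    have h0 : N.map (algebraMap R κ) = 0 := by
      simp only [N, Polynomial.map_sub, Polynomial.map_add, Polynomial.map_mul, hA', hB', hQβ,
        ← derivative_map, map_C]
      rw [show Q.map (algebraMap R κ) = minpoly κ β from hQβ]
      linear_combination (C (algebraMap R κ s)) * hab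
    rw [h0, coeff_zero]
  let T := Localization.Away s
  have hu : IsUnit ((C s + N).map (algebraMap R T)) := by
    rw [Polynomial.map_add, map_C]
    refine (Polynomial.isNilpotent_iff.mpr fun i => ?_).isUnit_add_left_of_commute
      ((IsLocalization.Away.algebraMap_isUnit s).map C) (Commute.all _ _)
    rw [coeff_map]
    exact (hN i).map _
  let QT := Q.map (algebraMap R T)
  have hsep : QT.Separable := by
    obtain ⟨v, hv⟩ := hu.exists_left_inv
    refine ⟨v * A'.map (algebraMap R T), v * B'.map (algebraMap R T), ?_⟩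
    rw [derivative_map, mul_assoc, mul_assoc, ← mul_add, ← Polynomial.map_mul, ← Polynomial.map_mul,
      ← Polynomial.map_add, show A' * Q + B' * derivative Q = C s + N by simp [N], hv]
  have hmon : QT.Monic := hQ.map _
  let E := AdjoinRoot QT
  haveI : Algebra.Etale T E := EtRamLib.Kummer.etale_adjoinRoot hmon hsep
  haveI : Module.Finite T E := hmon.finite_adjoinRoot
  have hsu : IsUnit (algebraMap R κ s) :=
    isUnit_iff_ne_zero.mpr fun h => hs (Ideal.algebraMap_residueField_eq_zero.mp h)
  let φ₀ : T →+* κ := IsLocalization.Away.lift s hsu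
  have hφ₀ : ∀ r, φ₀ (algebraMap R T r) = algebraMap R κ r := fun r => IsLocalization.Away.lift_eq s hsu r
  have hroot : QT.eval₂ ((algebraMap κ K).comp φ₀) β = 0 := by
    rw [eval₂_map, RingHom.comp_assoc, show φ₀.comp (algebraMap R T) = algebraMap R κ from RingHom.ext hφ₀,
      ← eval₂_map, hQβ]
    exact minpoly.aeval κ β
  let ψ : E →+* K := AdjoinRoot.lift ((algebraMap κ K).comp φ₀) β hroot
  have hψR : ∀ r, ψ (algebraMap T E (algebraMap R T r)) = algebraMap κ K (algebraMap R κ r) := fun r => by
    rw [AdjoinRoot.algebraMap_eq]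
    exact (AdjoinRoot.lift_of hroot).trans (congrArg (algebraMap κ K) (hφ₀ r))
  have hclosure : Subfield.closure (Set.range ψ) = ⊤ := by
    rw [eq_top_iff]
    intro x _
    have hκ : ∀ c : κ, algebraMap κ K c ∈ Subfield.closure (Set.range ψ) := fun c => by
      obtain ⟨n, d, -, rfl⟩ := IsFractionRing.div_surjective (A := R ⧸ p₀) c
      obtain ⟨n, rfl⟩ := Ideal.Quotient.mk_surjective n
      obtain ⟨d, rfl⟩ := Ideal.Quotient.mk_surjective d
      rw [map_div₀]
      exact div_mem (Subfield.subset_closure ⟨_, hψR n⟩) (Subfield.subset_closure ⟨_, hψR d⟩)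
    let F : IntermediateField κ K := (Subfield.closure (Set.range ψ)).toIntermediateField hκ
    have : IntermediateField.adjoin κ {β} ≤ F := IntermediateField.adjoin_simple_le_iff.mpr
      (Subfield.subset_closure ⟨AdjoinRoot.root QT, AdjoinRoot.lift_root hroot⟩)
    rw [hadj] at this
    exact this (IntermediateField.mem_top : x ∈ ⊤)
  let p₁ : Ideal T := RingHom.ker φ₀
  haveI : p₁.IsPrime := RingHom.ker_isPrime φ₀
  have hp₁ : p₁.comap (algebraMap R T) = p₀ := by
    ext r
    rw [Ideal.mem_comap, RingHom.mem_ker, hφ₀, Ideal.algebraMap_residueField_eq_zero]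
  have hmin : ∀ q : Ideal T, q.IsPrime → p₁ ≤ q := by
    intro q hq
    rw [← IsLocalization.map_comap (Submonoid.powers s) T p₁, ← IsLocalization.map_comap (Submonoid.powers s) T q,
      show p₁.under R = p₀ from hp₁]
    exact Ideal.map_mono (hp₀ _ inferInstance)
  have hker : ∀ q : Ideal E, q.IsPrime → RingHom.ker ψ ≤ q := by
    intro q hq
    obtain ⟨q0, hq0q, hq0, hlo⟩ := Ideal.exists_ideal_le_liesOver_of_le (p := p₁) (q := q.under T) q
      (hmin _ inferInstance)
    let L := q0.ResidueField
    let g : E →+* L := algebraMap E L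
    have hgT : ∀ x : T, φ₀ x = 0 → g (algebraMap T E x) = 0 := fun x hx =>
      Ideal.algebraMap_residueField_eq_zero.mpr (hlo.over ▸ hx : x ∈ q0.under T)
    let h : κ →+* L := Ideal.ResidueField.map p₀ q0 ((algebraMap T E).comp (algebraMap R T)) (by
      rw [← hp₁, hlo.over, ← Ideal.comap_comap])
    letI : Algebra κ L := h.toAlgebra
    let pb : PowerBasis κ K := (IntermediateField.adjoin.powerBasis hintβ).map
      ((IntermediateField.equivOfEq hadj).trans IntermediateField.topEquiv)
    have hgR : ∀ r, h (algebraMap R κ r) = g (algebraMap T E (algebraMap R T r)) := fun r =>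
      Ideal.ResidueField.map_algebraMap p₀ q0 _ _ r
    have hroot' : aeval (g (AdjoinRoot.root QT)) (minpoly κ β) = 0 := by
      rw [aeval_def, ← hQβ, eval₂_map]
      have : h.comp (algebraMap R κ) = (g.comp (algebraMap T E)).comp (algebraMap R T) :=
        RingHom.ext hgR
      rw [show (algebraMap κ L).comp (algebraMap R κ) = _ from this, ← eval₂_map, ← hom_eval₂,
        AdjoinRoot.algebraMap_eq, AdjoinRoot.eval₂_root, map_zero]
    have hgen : pb.gen = β := rfl
    let θ : K →ₐ[κ] L := pb.lift (g (AdjoinRoot.root QT)) (by rw [hgen]; exact hroot')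
    have hgθ : g = θ.toRingHom.comp ψ := by
      refine AdjoinRoot.ringHom_ext ?_ ?_
      · refine IsLocalization.ringHom_ext (Submonoid.powers s) (RingHom.ext fun r => ?_)
        show g (algebraMap T E (algebraMap R T r)) = θ (ψ (algebraMap T E (algebraMap R T r)))
        rw [hψR, θ.commutes]
        exact (hgR r).symm
      · show g _ = θ (ψ (AdjoinRoot.root QT))
        rw [show ψ (AdjoinRoot.root QT) = pb.gen from (AdjoinRoot.lift_root hroot).trans hgen.symm]
        exact (pb.lift_gen _ _).symm
    intro x hx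
    refine hq0q (Ideal.algebraMap_residueField_eq_zero.mp ?_)
    show g x = 0
    rw [hgθ, RingHom.comp_apply, hx, map_zero]
  have hsurj : Function.Surjective (PrimeSpectrum.comap (algebraMap T E)) := by
    intro q
    let m : PrimeSpectrum E := ⟨RingHom.ker ψ, RingHom.ker_isPrime ψ⟩
    have hm : m.asIdeal.comap (algebraMap T E) = p₁ := by
      ext x
      show ψ (algebraMap T E x) = 0 ↔ φ₀ x = 0
      rw [AdjoinRoot.algebraMap_eq, show ψ (AdjoinRoot.of QT x) = algebraMap κ K (φ₀ x) from AdjoinRoot.lift_of hroot,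
        map_eq_zero_iff _ (algebraMap κ K).injective]
    obtain ⟨P, -, hP, hPq⟩ := Ideal.exists_ideal_over_prime_of_isIntegral q.asIdeal m.asIdeal
      (hm.le.trans (hmin _ q.2))
    exact ⟨⟨P, hP⟩, PrimeSpectrum.ext hPq⟩
  exact ⟨s, hs, E, inferInstance, inferInstance, inferInstance, inferInstance, ψ, hker, hsurj, hclosure,
    RingHom.ext hψR⟩

end Groth.Agent.FlatMor.FiniteEtaleSpread
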