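import Groth.Agent.Wt.Pure
import Mathlib.FieldTheory.SeparableDegree
import Mathlib.FieldTheory.PurelyInseparable.Basic
import Mathlib.AlgebraicGeometry.Morphisms.Separated
import Mathlib.AlgebraicGeometry.Morphisms.Finite
import Mathlib.AlgebraicGeometry.Morphisms.Proper

/-!
# Finite parts with purely inseparable residue extensions

* `residue_finite_pureInsep`: a geometrically single point of finite residue extension is purely
  inseparable.
* `exists_pureParts_sep`: for separated morphisms the finite parts can be made clopen and disjoint.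
-/

set_option autoImplicit false
universe u

open CategoryTheory AlgebraicGeometry Limits

namespace Groth.Agent.FlatMor.PureSplit

open Groth.Agent.Wt Groth.Agent.Wt.EtNbhd Groth.Agent.Wt.Parts Groth.Agent.Wt.Pure
  Groth.Agent.Wt.Split

theorem residue_finite_pureInsep {P U : Scheme.{u}} (q : P ⟶ U) (z : P)
    (hfin : (q.residueFieldMap z).hom.Finite) (h : IsGeomSingle q z) :
    letI := (q.residueFieldMap z).hom.toAlgebra
    Module.Finite (U.residueField (q z)) (P.residueField z) ∧
      IsPurelyInseparable (U.residueField (q z)) (P.residueField z) := by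
  letI := (q.residueFieldMap z).hom.toAlgebra
  have hF : Module.Finite (U.residueField (q z)) (P.residueField z) := hfin
  refine ⟨hF, ?_⟩
  rw [isPurelyInseparable_iff_finSepDegree_eq_one]
  let K := AlgebraicClosure (P.residueField z)
  have hss : Subsingleton (Field.Emb (U.residueField (q z)) (P.residueField z)) := by
    constructor
    intro φ ψ
    let pt : ((P.residueField z) →+* K) → (Spec (CommRingCat.of K) ⟶ P) := fun r =>
      Spec.map (CommRingCat.ofHom r) ≫ P.fromSpecResidueField z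
    have hpt : ∀ r, GeomPts.pt (pt r) = z := fun r => by
      show P.fromSpecResidueField z _ = z
      exact Scheme.fromSpecResidueField_apply z _
    have hq : pt φ.toRingHom ≫ q = pt ψ.toRingHom ≫ q := by
      simp only [pt, Category.assoc]
      rw [← Scheme.Hom.SpecMap_residueFieldMap_fromSpecResidueField q z, ← Spec.map_comp_assoc,
        ← Spec.map_comp_assoc]
      congr 2
      exact CommRingCat.hom_ext (φ.comp_algebraMap.trans ψ.comp_algebraMap.symm)
    have he := h K _ _ (hpt φ.toRingHom) (hpt ψ.toRingHom) hq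
    simp only [pt, cancel_mono, Spec.map_inj] at he
    exact AlgHom.coe_ringHom_injective (congrArg CommRingCat.Hom.hom he)
  exact le_antisymm (Finite.card_le_one_iff_subsingleton.mpr hss)
    (Nat.one_le_iff_ne_zero.mpr (NeZero.ne (Field.finSepDegree _ _)))

/-- The parts of `exists_pureParts` have finite purely inseparable residue extensions. -/
theorem pureInsep_of_part {X S U : Scheme.{u}} (f : X ⟶ S) [LocallyOfFiniteType f] (g : U ⟶ S)
    (z : ↥(pullback f g)) (hx : f.QuasiFiniteAt (pullback.fst f g z))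
    (h : IsGeomSingle (pullback.snd f g) z) :
    letI := ((pullback.snd f g).residueFieldMap z).hom.toAlgebra
    Module.Finite (U.residueField (pullback.snd f g z)) ((pullback f g).residueField z) ∧
      IsPurelyInseparable (U.residueField (pullback.snd f g z)) ((pullback f g).residueField z) :=
  residue_finite_pureInsep (pullback.snd f g) z
    (residueFieldMap_finite_of_quasiFiniteAt (pullback.snd f g) z (quasiFiniteAt_snd f g z hx)) h

/-- For separated morphisms: clopen, pairwise disjoint parts. -/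
theorem exists_pureParts_sep {X S : Scheme.{u}} (f : X ⟶ S) [LocallyOfFiniteType f] [IsSeparated f]
    (s : S) (A : Set X) (hA : A.Finite)
    (hs : ∀ x ∈ A, f x = s) (hx : ∀ x ∈ A, f.QuasiFiniteAt x) :
    ∃ (U : Scheme.{u}) (g : U ⟶ S) (u : U), Etale g ∧ g u = s ∧
      ∃ (J : Set ↥(pullback f g)) (W : ↥(pullback f g) → (pullback f g).Opens), J.Finite ∧
        (∀ z ∈ J, IsFinPart (pullback.snd f g) u (W z) z ∧ IsGeomSingle (pullback.snd f g) z ∧
          pullback.fst f g z ∈ A ∧ IsClopen (W z : Set ↥(pullback f g))) ∧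
        (∀ z ∈ J, ∀ z' ∈ J, ((W z : Set ↥(pullback f g)) ∩ W z').Nonempty → z = z') ∧
        ∀ w, pullback.snd f g w = u → pullback.fst f g w ∈ A → w ∈ J := by
  obtain ⟨U, g, u, hg, hgu, J, W, hJ, hJW, hcov⟩ := exists_pureParts f s A hA hs hx
  let q := pullback.snd f g
  have hclosedMap : ∀ z ∈ J, IsClosedMap ((W z).ι ≫ q) := fun z hz => by
    have := (hJW z hz).1.finite
    exact ((W z).ι ≫ q).isClosedMap
  have hclopen : ∀ z ∈ J, IsClopen (W z : Set ↥(pullback f g)) := fun z hz => by
    have := (hJW z hz).1.finite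
    have : IsFinite (W z).ι := IsFinite.of_comp (W z).ι q
    refine ⟨?_, (W z).2⟩
    rw [← Scheme.Opens.range_ι]
    exact (W z).ι.isClosedMap.isClosed_range
  let Bad : Set U := ⋃ p ∈ {p : ↥(pullback f g) × ↥(pullback f g) | p.1 ∈ J ∧ p.2 ∈ J ∧ p.1 ≠ p.2},
    q '' ((W p.1 : Set ↥(pullback f g)) ∩ W p.2)
  have hBad : IsClosed Bad := by
    refine Set.Finite.isClosed_biUnion ((hJ.prod hJ).subset fun p hp => ⟨hp.1, hp.2.1⟩) fun p hp => ?_
    have he : q '' ((W p.1 : Set ↥(pullback f g)) ∩ W p.2) =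
        ((W p.1).ι ≫ q) '' ((W p.1).ι ⁻¹' (W p.2 : Set ↥(pullback f g))) := by
      rw [show (⇑((W p.1).ι ≫ q) : _ → U) = q ∘ (W p.1).ι from rfl, Set.image_comp,
        Set.image_preimage_eq_inter_range, Scheme.Opens.range_ι, Set.inter_comm]
    rw [he]
    exact hclosedMap _ hp.1 _ ((hclopen _ hp.2.1).1.preimage (W p.1).ι.continuous)
  have huBad : u ∉ Bad := by
    simp only [Bad, Set.mem_iUnion]
    rintro ⟨⟨a, b⟩, ⟨ha, hb, hne⟩, w, ⟨hwa, hwb⟩, hwu⟩
    exact hne (((hJW a ha).1.unique w hwa hwu).symm.trans ((hJW b hb).1.unique w hwb hwu))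
  let U' : U.Opens := ⟨Badᶜ, hBad.isOpen_compl⟩
  let u' : U'.toScheme := ⟨u, huBad⟩
  let a := bcMap f U'.ι (g := g) rfl
  have ha := isPullback_bcMap f U'.ι (g := g) rfl
  have hres : Function.Bijective (U'.ι.residueFieldMap u') :=
    ConcreteCategory.bijective_of_isIso _
  have key : ∀ z : J, ∃ z', a z' = z.1 ∧ IsFinPart (pullback.snd f (U'.ι ≫ g)) u' (a ⁻¹ᵁ W z.1) z' :=
    fun z => isFinPart_preimage _ ha u' hres (hJW z.1 z.2).1
  choose z' haz hpart using key
  classical
  let W' : ↥(pullback f (U'.ι ≫ g)) → (pullback f (U'.ι ≫ g)).Opens := fun p => a ⁻¹ᵁ W (a p)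
  haveI : Finite J := hJ.to_subtype
  refine ⟨U', U'.ι ≫ g, u', inferInstance, hgu, Set.range z', W', Set.finite_range _, ?_, ?_, ?_⟩
  · rintro _ ⟨z, rfl⟩
    refine ⟨?_, isGeomSingle_preimage ha (hJW z.1 z.2).2.1 (haz z), ?_, ?_⟩
    · simp only [W', haz]; exact hpart z
    · rw [← fst_bcMap f U'.ι (g := g) rfl]
      show pullback.fst f g (a (z' z)) ∈ A
      rw [haz]
      exact (hJW z.1 z.2).2.2
    · simp only [W', haz]
      exact (hclopen z.1 z.2).preimage a.continuous
  · rintro _ ⟨z₁, rfl⟩ _ ⟨z₂, rfl⟩ ⟨w, hw₁, hw₂⟩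
    simp only [W', haz] at hw₁ hw₂
    by_contra hne
    have hmem : q (a w) ∈ Bad := Set.mem_biUnion
      (x := (z₁.1, z₂.1)) ⟨z₁.2, z₂.2, fun e => hne (congrArg z' (Subtype.ext e))⟩ ⟨a w, ⟨hw₁, hw₂⟩, rfl⟩
    have : q (a w) = U'.ι (pullback.snd f (U'.ι ≫ g) w) := snd_bcMap f U'.ι rfl w
    rw [this] at hmem
    exact (pullback.snd f (U'.ι ≫ g) w).2 hmem
  · intro w hw hwA
    have h1 : a w ∈ J := by
      refine hcov _ ?_ ?_
      · rw [show pullback.snd f g (a w) = U'.ι (pullback.snd f (U'.ι ≫ g) w) from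
          snd_bcMap f U'.ι rfl w, hw]
        rfl
      · rw [show pullback.fst f g (a w) = pullback.fst f (U'.ι ≫ g) w from
          fst_bcMap f U'.ι rfl w]
        exact hwA
    have h2 : w ∈ a ⁻¹ᵁ W (a w) := (hJW (a w) h1).1.mem
    exact ⟨⟨a w, h1⟩, ((hpart ⟨a w, h1⟩).unique w h2 hw).symm⟩

end Groth.Agent.FlatMor.PureSplit
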