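import Groth.Agent.LimTop.PullSec
import Groth.Agent.Props.QTilde

/-!
# Pullback of the sheaf associated to a module along `Spec B ⟶ Spec A`
-/

set_option autoImplicit false
universe u

open CategoryTheory AlgebraicGeometry Opposite
open scoped TensorProduct

namespace Groth.Agent.FlatMor.PullTilde

open Groth.Agent.Props.QTilde

theorem appLE_topRingEquiv {A B : CommRingCat.{u}} (φ : A ⟶ B)
    (h : (⊤ : (Spec B).Opens) ≤ Spec.map φ ⁻¹ᵁ ⊤) (a : A) :
    (Spec.map φ).appLE ⊤ ⊤ h (topRingEquiv A a) = topRingEquiv B (φ a) := by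
  have e : (Spec.map φ).appLE ⊤ ⊤ h = (Spec.map φ).appTop := (Scheme.Hom.app_eq_appLE _).symm
  rw [e]
  exact (congr($(Scheme.ΓSpecIso_inv_naturality φ) a)).symm

theorem nonempty_pullback_tilde {A B : CommRingCat.{u}} (φ : A ⟶ B) (M₀ : ModuleCat.{u} A)
    (N : (Spec B).Modules) [N.IsQuasicoherent]
    (e : letI := φ.hom.toAlgebra; (B : Type u) ⊗[(A : Type u)] M₀ ≃ₗ[(B : Type u)] Γ(N, ⊤)) :
    Nonempty ((Scheme.Modules.pullback (Spec.map φ)).obj (tilde M₀) ≅ N) := by
  let := φ.hom.toAlgebra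
  let g := Spec.map φ
  let N₁ : (Spec B).Modules := (Scheme.Modules.pullback g).obj (tilde M₀)
  have : N₁.IsQuasicoherent := QCoh.isQuasicoherent_pullback g (tilde M₀)
  have h : (⊤ : (Spec B).Opens) ≤ g ⁻¹ᵁ ⊤ := le_top
  let : Module A Γ(N₁, ⊤) := Module.compHom _ φ.hom
  have : IsScalarTower A B Γ(N₁, ⊤) := IsScalarTower.of_algebraMap_smul fun _ _ => rfl
  let v : M₀ →ₗ[(A : Type u)] Γ(N₁, ⊤) :=
    { toFun := fun m => LimTop.unitSec g (tilde M₀) h (topEquiv M₀ m)
      map_add' := fun m m' => by rw [map_add, map_add]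
      map_smul' := fun a m => by
        rw [map_smul, ← topRingEquiv_smul, LimTop.unitSec_smul, appLE_topRingEquiv φ h,
          topRingEquiv_smul]
        rfl }
  let L : (B : Type u) ⊗[(A : Type u)] M₀ →ₗ[(B : Type u)] Γ(N₁, ⊤) := v.liftBaseChange B
  let := (g.appLE ⊤ ⊤ h).hom.toAlgebra
  let := LimTop.secModule g (tilde M₀) h
  have : IsScalarTower Γ(Spec A, ⊤) Γ(Spec B, ⊤) Γ(N₁, ⊤) :=
    IsScalarTower.of_algebraMap_smul fun _ _ => rfl
  have : (tilde M₀).IsQuasicoherent := inferInstance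
  have hbc : IsBaseChange Γ(Spec B, ⊤) (LimTop.unitSecLin g (tilde M₀) h) :=
    LimTop.isBaseChange_unitSec g (tilde M₀) h (isAffineOpen_top _) (isAffineOpen_top _)
  let back : Γ(Spec B, ⊤) ⊗[Γ(Spec A, ⊤)] Γ(tilde M₀, ⊤) →+ (B : Type u) ⊗[(A : Type u)] M₀ :=
    TensorProduct.liftAddHom
      { toFun := fun c =>
          { toFun := fun t => (topRingEquiv B).symm c ⊗ₜ[(A : Type u)] (topEquiv M₀).symm t
            map_zero' := by rw [map_zero, TensorProduct.tmul_zero]
            map_add' := fun t t' => by rw [map_add, TensorProduct.tmul_add] }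
        map_zero' := AddMonoidHom.ext fun t => by
          show (topRingEquiv B).symm 0 ⊗ₜ[(A : Type u)] _ = 0
          rw [map_zero, TensorProduct.zero_tmul]
        map_add' := fun c c' => AddMonoidHom.ext fun t => by
          show (topRingEquiv B).symm (c + c') ⊗ₜ[(A : Type u)] _ = _
          rw [map_add, TensorProduct.add_tmul]
          rfl }
      fun r c t => by
        obtain ⟨a, rfl⟩ := (topRingEquiv A).surjective r
        show (topRingEquiv B).symm (topRingEquiv A a • c) ⊗ₜ[(A : Type u)] (topEquiv M₀).symm t =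
          (topRingEquiv B).symm c ⊗ₜ[(A : Type u)] (topEquiv M₀).symm (topRingEquiv A a • t)
        rw [topRingEquiv_smul, LinearEquiv.map_smul (topEquiv M₀).symm, TensorProduct.tmul_smul,
          TensorProduct.smul_tmul']
        congr 1
        rw [Algebra.smul_def, Algebra.smul_def]
        show (topRingEquiv B).symm (g.appLE ⊤ ⊤ h (topRingEquiv A a) * c) = φ a * _
        rw [appLE_topRingEquiv φ h, map_mul, RingEquiv.symm_apply_apply]
  have hL : ∀ z, L (back z) = hbc.equiv z := fun z => by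
    induction z using TensorProduct.induction_on with
    | zero => simp
    | tmul c t =>
      rw [IsBaseChange.equiv_tmul]
      show L ((topRingEquiv B).symm c ⊗ₜ[(A : Type u)] (topEquiv M₀).symm t) = _
      rw [LinearMap.liftBaseChange_tmul]
      show (topRingEquiv B).symm c • LimTop.unitSec g (tilde M₀) h (topEquiv M₀ ((topEquiv M₀).symm t)) = _
      rw [LinearEquiv.apply_symm_apply, ← topRingEquiv_smul, RingEquiv.apply_symm_apply]
      rfl
    | add z z' hz hz' => rw [map_add, map_add, map_add, hz, hz']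
  have hsurj : Function.Surjective L := fun y =>
    ⟨back (hbc.equiv.symm y), by rw [hL, LinearEquiv.apply_symm_apply]⟩
  have hinv : ∀ z, back (hbc.equiv.symm (L z)) = z := fun z => by
    induction z using TensorProduct.induction_on with
    | zero => simp
    | tmul b m =>
      have h1 : hbc.equiv.symm (L (b ⊗ₜ[(A : Type u)] m)) = topRingEquiv B b ⊗ₜ topEquiv M₀ m := by
        rw [LinearEquiv.symm_apply_eq, IsBaseChange.equiv_tmul, LinearMap.liftBaseChange_tmul]
        exact (topRingEquiv_smul N₁ b _).symm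
      rw [h1]
      show (topRingEquiv B).symm (topRingEquiv B b) ⊗ₜ[(A : Type u)] (topEquiv M₀).symm (topEquiv M₀ m) = _
      rw [RingEquiv.symm_apply_apply, LinearEquiv.symm_apply_apply]
    | add z z' hz hz' => rw [map_add, map_add, map_add, hz, hz']
  let E : Γ(N₁, ⊤) ≃ₗ[(B : Type u)] Γ(N, ⊤) :=
    (LinearEquiv.ofBijective L ⟨Function.LeftInverse.injective (g := fun y => back (hbc.equiv.symm y)) hinv, hsurj⟩).symm.trans e
  let Ei : (moduleSpecΓFunctor (R := B)).obj N₁ ≅ (moduleSpecΓFunctor (R := B)).obj N := E.toModuleIso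
  have i1 : IsIso N₁.fromTildeΓ := Scheme.Modules.isIso_fromTildeΓ_of_isQuasicoherent N₁
  have i2 : IsIso N.fromTildeΓ := Scheme.Modules.isIso_fromTildeΓ_of_isQuasicoherent N
  let u₁ := @asIso _ _ _ _ N₁.fromTildeΓ i1
  let u₂ := @asIso _ _ _ _ N.fromTildeΓ i2
  exact ⟨u₁.symm ≪≫ (tilde.functor B).mapIso Ei ≪≫ u₂⟩

end Groth.Agent.FlatMor.PullTilde
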