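import Mathlib.RingTheory.Etale.Kaehler
import Mathlib.RingTheory.RingHom.Smooth
import Mathlib.RingTheory.Etale.Locus
import Mathlib.RingTheory.Kaehler.Polynomial
import Mathlib.RingTheory.LocalRing.Module
import Mathlib.RingTheory.Smooth.StandardSmoothCotangent
import Mathlib.RingTheory.Localization.AtPrime.Basic
import Mathlib.RingTheory.Flat.Basic
import Mathlib.RingTheory.Smooth.Flat
import Mathlib.RingTheory.Polynomial.Quotient

/-!
A function with nonzero differential on a smooth algebra cuts out, locally, a smooth effective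
Cartier divisor: it is part of a system of etale coordinates.
-/

universe u

open TensorProduct

namespace Groth.Agent.FlatMor.SmoothCartier

variable {A B L : Type u} [CommRing A] [CommRing B] [Algebra A B]
  [CommRing L] [Algebra B L] [Algebra A L] [IsScalarTower A B L]

/-- A polynomial algebra whose variables give a basis of differentials of a formally smooth algebra
maps to it formally etale. -/
theorem formallyEtale_of_basis [Algebra.FormallySmooth A L] {σ : Type u}
    [Algebra (MvPolynomial σ A) L] [IsScalarTower A (MvPolynomial σ A) L]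
    (b : Module.Basis σ L Ω[L⁄A])
    (hb : ∀ i, b i = KaehlerDifferential.D A L (algebraMap (MvPolynomial σ A) L (.X i))) :
    Algebra.FormallyEtale (MvPolynomial σ A) L := by
  let bp := (KaehlerDifferential.mvPolynomialBasis A σ).baseChange L
  have heq : KaehlerDifferential.mapBaseChange A (MvPolynomial σ A) L =
      (bp.equiv b (Equiv.refl σ)).toLinearMap := by
    refine bp.ext fun i => ?_
    rw [LinearEquiv.coe_coe, Module.Basis.equiv_apply, Module.Basis.baseChange_apply,
      KaehlerDifferential.mvPolynomialBasis_apply, KaehlerDifferential.mapBaseChange_tmul,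
      KaehlerDifferential.map_D, one_smul, Equiv.refl_apply, hb]
  have hinj : Function.Injective (KaehlerDifferential.mapBaseChange A (MvPolynomial σ A) L) :=
    heq ▸ (bp.equiv b (Equiv.refl σ)).injective
  have hsurj : Function.Surjective (KaehlerDifferential.mapBaseChange A (MvPolynomial σ A) L) :=
    heq ▸ (bp.equiv b (Equiv.refl σ)).surjective
  rw [Algebra.formallyEtale_iff]
  constructor
  · refine subsingleton_of_forall_eq 0 fun x => ?_
    obtain ⟨y, rfl⟩ := KaehlerDifferential.map_surjective A (MvPolynomial σ A) L x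
    obtain ⟨z, rfl⟩ := hsurj y
    exact (KaehlerDifferential.exact_mapBaseChange_map A (MvPolynomial σ A) L _).mpr ⟨z, rfl⟩
  · have : Subsingleton (Algebra.H1Cotangent A L) := Algebra.FormallySmooth.subsingleton_h1Cotangent
    refine subsingleton_of_forall_eq 0 fun x => ?_
    have h0 : Algebra.H1Cotangent.δ A (MvPolynomial σ A) L x = 0 :=
      hinj (((Algebra.H1Cotangent.exact_δ_mapBaseChange A (MvPolynomial σ A) L _).mpr ⟨x, rfl⟩).trans
        (map_zero _).symm)
    obtain ⟨y, rfl⟩ := (Algebra.H1Cotangent.exact_map_δ A (MvPolynomial σ A) L x).mp h0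
    rw [Subsingleton.elim y 0, map_zero]

/-- Etale coordinates with a prescribed first coordinate. -/
theorem exists_coordinates [Algebra.Smooth A B] (q : Ideal B) [q.IsPrime]
    [IsLocalization.AtPrime L q] [IsLocalRing L] (h : B)
    (hd : (1 : IsLocalRing.ResidueField L) ⊗ₜ[L] KaehlerDifferential.D A L (algebraMap B L h) ≠ 0) :
    ∃ (σ : Type u) (_ : Finite σ) (g : σ → B) (i₀ : σ) (s : B), g i₀ = h ∧ s ∉ q ∧
      (letI := ((algebraMap B (Localization.Away s)).comp (MvPolynomial.aeval (R := A) g).toRingHom).toAlgebra
       Algebra.Etale (MvPolynomial σ A) (Localization.Away s)) := by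
  classical
  have : Algebra.FormallySmooth B L := Algebra.FormallySmooth.of_isLocalization q.primeCompl
  have : Algebra.FormallySmooth A L := Algebra.FormallySmooth.comp A B L
  have : Algebra.EssFiniteType B L := Algebra.EssFiniteType.of_isLocalization _ q.primeCompl
  have : Algebra.EssFiniteType A L := Algebra.EssFiniteType.comp A B L
  have : Module.FinitePresentation L Ω[L⁄A] := Module.finitePresentation_of_projective L _
  let κ := IsLocalRing.ResidueField L
  let v : B → Ω[L⁄A] := fun b => KaehlerDifferential.D A L (algebraMap B L b)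
  let w : B → κ ⊗[L] Ω[L⁄A] := fun b => TensorProduct.mk L κ _ 1 (v b)
  have hv : Submodule.span L (Set.range v) = ⊤ := by
    refine (congrArg (fun s => Submodule.span L (Set.range s)) (funext fun b => ?_)).trans
      (KaehlerDifferential.span_range_map_derivation_of_isLocalization A B L q.primeCompl)
    exact (KaehlerDifferential.map_D A A B L b).symm
  have hw : Submodule.span κ (Set.range w) = ⊤ := by
    have := (IsLocalRing.map_tensorProduct_mk_eq_top (N := Submodule.span L (Set.range v))).mpr hv
    rw [← Submodule.span_image, ← Set.range_comp, eq_top_iff, ← SetLike.coe_subset_coe,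
      Submodule.top_coe] at this
    rw [eq_top_iff]
    exact Set.Subset.trans this (Submodule.span_subset_span L κ _)
  have hli0 : LinearIndepOn κ id ({w h} : Set (κ ⊗[L] Ω[L⁄A])) := LinearIndepOn.singleton hd
  have hsub : ({w h} : Set (κ ⊗[L] Ω[L⁄A])) ⊆ Set.range w := Set.singleton_subset_iff.mpr ⟨h, rfl⟩
  let S := hli0.extend hsub
  have hS : S ⊆ Set.range w := hli0.extend_subset hsub
  have hSli : LinearIndepOn κ id S := hli0.linearIndepOn_extend hsub
  have hh : w h ∈ S := hli0.subset_extend hsub rfl
  let g : S → B := Function.update (fun z => (hS z.2).choose) ⟨w h, hh⟩ h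
  have hg : ∀ z : S, w (g z) = z.1 := by
    intro z
    by_cases hz : z = ⟨w h, hh⟩
    · subst hz; simp [g]
    · simpa [g, Function.update_of_ne hz] using (hS z.2).choose_spec
  have hwg : TensorProduct.mk L κ _ 1 ∘ (v ∘ g) = (Subtype.val : S → _) := funext hg
  have hspan : Submodule.span κ (Set.range (TensorProduct.mk L κ _ 1 ∘ (v ∘ g))) = ⊤ := by
    rw [hwg, Subtype.range_coe, ← hw]
    exact hli0.span_extend_eq_span hsub
  obtain ⟨b, hb⟩ := Module.exists_basis_of_basis_baseChange (v ∘ g) (hwg ▸ hSli.linearIndependent)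
    hspan (Module.Flat.rTensor_preserves_injective_linearMap _ Subtype.val_injective)
  have : Finite S := Module.Finite.finite_basis b
  let φ := (MvPolynomial.aeval (R := A) g).toRingHom
  let : Algebra (MvPolynomial S A) B := φ.toAlgebra
  have : IsScalarTower A (MvPolynomial S A) B :=
    .of_algebraMap_eq' (MvPolynomial.aeval (R := A) g).comp_algebraMap.symm
  let : Algebra (MvPolynomial S A) L := ((algebraMap B L).comp φ).toAlgebra
  have : IsScalarTower (MvPolynomial S A) B L := .of_algebraMap_eq' rfl
  have : IsScalarTower A (MvPolynomial S A) L := .to₁₂₄ A (MvPolynomial S A) B L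
  have hX : ∀ z : S, algebraMap (MvPolynomial S A) L (.X z) = algebraMap B L (g z) := fun z =>
    congrArg (algebraMap B L) (MvPolynomial.aeval_X g z)
  have hfe : Algebra.FormallyEtale (MvPolynomial S A) L :=
    formallyEtale_of_basis b fun z => by rw [hX]; exact hb z
  have : Algebra.IsEtaleAt (MvPolynomial S A) q := by
    let e : L ≃ₐ[B] Localization.AtPrime q := IsLocalization.algEquiv q.primeCompl _ _
    exact (Algebra.FormallyEtale.iff_of_equiv (e.restrictScalars (MvPolynomial S A))).mp hfe
  have : Algebra.FinitePresentation (MvPolynomial S A) B :=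
    Algebra.FinitePresentation.of_restrict_scalars_finitePresentation (R := A) (A := MvPolynomial S A) (B := B)
  obtain ⟨s, hs, het⟩ := Algebra.exists_etale_of_isEtaleAt (R := MvPolynomial S A) q
  refine ⟨S, inferInstance, g, ⟨w h, hh⟩, s, by simp [g], hs, ?_⟩
  convert het
  exact Algebra.algebra_ext _ _ fun r => rfl

/-- The coordinate hyperplane is a polynomial ring. -/
theorem smooth_quotient_X {σ : Type u} [Finite σ] (i₀ : σ) :
    Algebra.Smooth A (MvPolynomial σ A ⧸ Ideal.span {(MvPolynomial.X i₀ : MvPolynomial σ A)}) := by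
  classical
  let τ := {i : σ // i ≠ i₀}
  let e : MvPolynomial σ A ≃ₐ[A] Polynomial (MvPolynomial τ A) :=
    (MvPolynomial.renameEquiv A (Equiv.optionSubtypeNe i₀).symm).trans (MvPolynomial.optionEquivLeft A τ)
  have he : e (MvPolynomial.X i₀) = Polynomial.X := by simp [e, τ]
  let e1 := Ideal.quotientEquivAlg (Ideal.span {(MvPolynomial.X i₀ : MvPolynomial σ A)})
    (Ideal.span {(Polynomial.X - Polynomial.C 0 : Polynomial (MvPolynomial τ A))}) e
    (by rw [Ideal.map_span, Set.image_singleton, map_zero, sub_zero]; exact congrArg (fun x => Ideal.span {x}) he.symm)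
  have : Algebra.Smooth A (MvPolynomial τ A) := ⟨inferInstance, inferInstance⟩
  exact Algebra.Smooth.of_equiv
    (e1.trans ((Polynomial.quotientSpanXSubCAlgEquiv (0 : MvPolynomial τ A)).restrictScalars A)).symm

/-- Locally, a function with nonzero differential is a nonzerodivisor with smooth zero locus. -/
theorem exists_cartier [Algebra.Smooth A B] (q : Ideal B) [q.IsPrime]
    [IsLocalization.AtPrime L q] [IsLocalRing L] (h : B)
    (hd : (1 : IsLocalRing.ResidueField L) ⊗ₜ[L] KaehlerDifferential.D A L (algebraMap B L h) ≠ 0) :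
    ∃ s ∉ q, ∀ (Bs : Type u) [CommRing Bs] [Algebra B Bs] [Algebra A Bs] [IsScalarTower A B Bs]
      [IsLocalization.Away s Bs], algebraMap B Bs h ∈ nonZeroDivisors Bs ∧
      ((Ideal.Quotient.mk (Ideal.span {algebraMap B Bs h})).comp (algebraMap A Bs)).Smooth := by
  obtain ⟨σ, _, g, i₀, s, hgi, hs, het⟩ := exists_coordinates (L := L) q h hd
  refine ⟨s, hs, ?_⟩
  intro Bs _ _ _ _ _
  letI : Algebra (MvPolynomial σ A) Bs :=
    ((algebraMap B Bs).comp (MvPolynomial.aeval (R := A) g).toRingHom).toAlgebra
  have het' : Algebra.Etale (MvPolynomial σ A) Bs := by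
    let e := IsLocalization.algEquiv (.powers s) (Localization.Away s) Bs
    letI : Algebra (MvPolynomial σ A) (Localization.Away s) :=
      ((algebraMap B (Localization.Away s)).comp (MvPolynomial.aeval (R := A) g).toRingHom).toAlgebra
    exact Algebra.Etale.of_equiv (R := MvPolynomial σ A) (A := Localization.Away s)
      { e.toRingEquiv with commutes' := fun p => e.commutes (MvPolynomial.aeval (R := A) g p) }
  have : IsScalarTower A (MvPolynomial σ A) Bs := .of_algebraMap_eq fun a => by
    show _ = algebraMap B _ (MvPolynomial.aeval g (algebraMap A (MvPolynomial σ A) a))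
    rw [AlgHom.commutes, ← IsScalarTower.algebraMap_apply]
  have hX : algebraMap (MvPolynomial σ A) Bs (.X i₀) = algebraMap B _ h := by
    show algebraMap B _ (MvPolynomial.aeval g (MvPolynomial.X i₀)) = _
    rw [MvPolynomial.aeval_X, hgi]
  constructor
  · rw [mem_nonZeroDivisors_iff_right, ← hX]
    have h0 : IsSMulRegular (MvPolynomial σ A) (MvPolynomial.X i₀ : MvPolynomial σ A) :=
      fun x y hxy => MvPolynomial.ext _ _ fun m => by
        have := congrArg (MvPolynomial.coeff (Finsupp.single i₀ 1 + m)) hxy
        simpa [MvPolynomial.coeff_X_mul] using this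
    have h1 : IsSMulRegular Bs (MvPolynomial.X i₀ : MvPolynomial σ A) :=
      h0.of_flat
    intro z hz
    refine h1 (?_ : _ • z = _ • (0 : Bs))
    rw [Algebra.smul_def, smul_zero, mul_comm]
    exact hz
  · let I : Ideal (MvPolynomial σ A) := Ideal.span {MvPolynomial.X i₀}
    have hI : I.map (algebraMap (MvPolynomial σ A) Bs) =
        Ideal.span {algebraMap B Bs h} := by
      rw [Ideal.map_span, Set.image_singleton, hX]
    rw [← hI]
    show ((Ideal.Quotient.mk _).comp (algebraMap A Bs)).Smooth
    rw [show (Ideal.Quotient.mk (I.map (algebraMap (MvPolynomial σ A) Bs))).comp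
      (algebraMap A Bs) = algebraMap A _ from rfl, RingHom.smooth_algebraMap]
    have := smooth_quotient_X (A := A) i₀
    have : Algebra.Smooth (MvPolynomial σ A ⧸ I)
        (Bs ⧸ I.map (algebraMap (MvPolynomial σ A) Bs)) :=
      Algebra.Smooth.of_equiv (R := MvPolynomial σ A ⧸ I)
        (A := (MvPolynomial σ A ⧸ I) ⊗[MvPolynomial σ A] Bs)
        (Algebra.TensorProduct.quotIdealMapEquivQuotTensor Bs I).symm
    have : IsScalarTower A (MvPolynomial σ A ⧸ I)
        (Bs ⧸ I.map (algebraMap (MvPolynomial σ A) Bs)) :=
      ⟨fun a x y => by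
        obtain ⟨x, rfl⟩ := Ideal.Quotient.mk_surjective x
        obtain ⟨y, rfl⟩ := Ideal.Quotient.mk_surjective y
        show Ideal.Quotient.mk (I.map (algebraMap (MvPolynomial σ A) Bs))
            (algebraMap (MvPolynomial σ A) Bs (a • x) * y) =
          Ideal.Quotient.mk _ (a • (algebraMap (MvPolynomial σ A) Bs x * y))
        rw [← Algebra.smul_def, ← Algebra.smul_def, smul_assoc]⟩
    exact Algebra.Smooth.comp A (MvPolynomial σ A ⧸ I) _

end Groth.Agent.FlatMor.SmoothCartier
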