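import Groth.Agent.LocFlat.Basic
import Groth.Agent.FlatMor.FibreStalk
import Mathlib.RingTheory.LocalRing.Module

/-!
# Freeness from the fibre, and the map of fibre local rings under base change

* `free_of_free_fibre`: `M` fp over local `B`, flat over local `A`, free on the closed fibre ⇒ free over `B`.
* `exists_fibre_stalk_map`: for a cartesian square, the map of local rings of fibres is flat.
-/

set_option autoImplicit false
universe u

open CategoryTheory AlgebraicGeometry Limits IsLocalRing
open scoped TensorProduct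

namespace Groth.Agent.FlatMor.FreeFibre

theorem free_of_free_fibre (A B : Type u) [CommRing A] [CommRing B] [IsLocalRing A] [IsLocalRing B]
    [Algebra A B] [IsLocalHom (algebraMap A B)] (M : Type u) [AddCommGroup M] [Module B M] [Module A M]
    [IsScalarTower A B M] [Module.FinitePresentation B M] [Module.Flat A M]
    (h : Module.Free (B ⧸ (maximalIdeal A).map (algebraMap A B))
      ((B ⧸ (maximalIdeal A).map (algebraMap A B)) ⊗[B] M)) :
    Module.Free B M := by
  classical
  let J := (maximalIdeal A).map (algebraMap A B)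
  have hJ : J ≤ maximalIdeal B := map_maximalIdeal_le (algebraMap A B)
  let E := B ⧸ J
  have : Nontrivial E := Ideal.Quotient.nontrivial_iff.2 (ne_top_of_le_ne_top (Ideal.IsPrime.ne_top') hJ)
  let b := Module.Free.chooseBasis E (E ⊗[B] M)
  have : Fintype (Module.Free.ChooseBasisIndex E (E ⊗[B] M)) := inferInstance
  let ι := Module.Free.ChooseBasisIndex E (E ⊗[B] M)
  choose v hv using fun i : ι => TensorProduct.mk_surjective B M E Ideal.Quotient.mk_surjective (b i)
  let π : (ι → B) →ₗ[B] M := Fintype.linearCombination B v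
  have hπt : ∀ c : ι → B, (1 : E) ⊗ₜ[B] π c = ∑ i, Ideal.Quotient.mk J (c i) • b i := fun c => by
    rw [Fintype.linearCombination_apply, TensorProduct.tmul_sum]
    refine Finset.sum_congr rfl fun i _ => ?_
    rw [TensorProduct.tmul_smul, ← hv i]
    exact (algebraMap_smul E (c i) _).symm
  have hsurj : Function.Surjective π := by
    rw [← LinearMap.range_eq_top, ← top_le_iff]
    refine Submodule.le_of_le_smul_of_le_jacobson_bot Module.Finite.fg_top
      (maximalIdeal_le_jacobson _) ?_
    intro m _
    choose c hc using fun i : ι => Ideal.Quotient.mk_surjective (b.repr ((1 : E) ⊗ₜ[B] m) i)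
    have h0 : (1 : E) ⊗ₜ[B] (m - π c) = 0 := by
      rw [TensorProduct.tmul_sub, hπt]
      simp only [hc]
      rw [b.sum_repr, sub_self]
    have h1 := congrArg (TensorProduct.quotTensorEquivQuotSMul M J) h0
    rw [map_zero, show (1 : E) = Ideal.Quotient.mk J 1 from rfl,
      TensorProduct.quotTensorEquivQuotSMul_mk_tmul, one_smul, Submodule.Quotient.mk_eq_zero] at h1
    refine Submodule.mem_sup.mpr ⟨π c, ⟨c, rfl⟩, m - π c, Submodule.smul_mono_left hJ h1, ?_⟩
    abel
  let K := LinearMap.ker π
  have hK : K.FG := Module.FinitePresentation.fg_ker π hsurj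
  have hinjA : Function.Injective ((K.subtype.restrictScalars A).lTensor (A ⧸ maximalIdeal A)) :=
    LocFlat.lTensor_injective_of_flat_coker (K.subtype.restrictScalars A) (π.restrictScalars A)
      (LinearMap.exact_subtype_ker_map π) hsurj K.injective_subtype _
  have hKbot : K = ⊥ := by
    refine Submodule.eq_bot_of_le_smul_of_le_jacobson_bot (maximalIdeal B) K hK ?_
      (maximalIdeal_le_jacobson _)
    intro k hk
    have hπk : π k = 0 := hk
    have hcoord : ∀ i, k i ∈ J := fun i => by
      have h2 := hπt k
      rw [hπk, TensorProduct.tmul_zero] at h2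
      exact Ideal.Quotient.eq_zero_iff_mem.mp
        (Fintype.linearIndependent_iff.mp b.linearIndependent _ h2.symm i)
    have hkA : (k : ι → B) ∈ maximalIdeal A • (⊤ : Submodule A (ι → B)) := by
      rw [show k = ∑ i, Pi.single i (k i) from (Finset.univ_sum_single k).symm]
      refine Submodule.sum_mem _ fun i _ => ?_
      have hi : k i ∈ maximalIdeal A • (⊤ : Submodule A B) := by
        rw [Ideal.smul_top_eq_map]; exact hcoord i
      have h3 := Submodule.mem_map_of_mem (f := LinearMap.single A (fun _ : ι => B) i) hi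
      rw [Submodule.map_smul''] at h3
      exact Submodule.smul_mono le_rfl le_top h3
    have h4 : (1 : A ⧸ maximalIdeal A) ⊗ₜ[A] (⟨k, hk⟩ : K) = 0 := by
      apply hinjA
      rw [map_zero, LinearMap.lTensor_tmul]
      apply (TensorProduct.quotTensorEquivQuotSMul (ι → B) (maximalIdeal A)).injective
      rw [map_zero, show (1 : A ⧸ maximalIdeal A) = Ideal.Quotient.mk _ 1 from rfl,
        TensorProduct.quotTensorEquivQuotSMul_mk_tmul, one_smul]
      exact (Submodule.Quotient.mk_eq_zero _).mpr hkA
    have h5 := congrArg (TensorProduct.quotTensorEquivQuotSMul K (maximalIdeal A)) h4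
    rw [map_zero, show (1 : A ⧸ maximalIdeal A) = Ideal.Quotient.mk _ 1 from rfl,
      TensorProduct.quotTensorEquivQuotSMul_mk_tmul, one_smul, Submodule.Quotient.mk_eq_zero] at h5
    have h6 : (⟨k, hk⟩ : K) ∈ maximalIdeal B • (⊤ : Submodule B K) := by
      refine Submodule.smul_induction_on h5 (fun a ha y _ => ?_) fun y z hy hz => add_mem hy hz
      rw [← algebraMap_smul B a y]
      exact Submodule.smul_mem_smul (map_nonunit (algebraMap A B) a ha) trivial
    have h7 := Submodule.mem_map_of_mem (f := K.subtype) h6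
    rw [Submodule.map_smul'', Submodule.map_subtype_top] at h7
    exact h7
  exact Module.Free.of_equiv (LinearEquiv.ofBijective π ⟨LinearMap.ker_eq_bot.mp hKbot, hsurj⟩)

/-- For a cartesian square and a point of a fibre upstairs: the composite `O_{X,x} → O_{X'_{s'},x'}`
factors through the fibre's local ring by a flat local homomorphism. -/
theorem exists_fibre_stalk_map {X S X' S' : Scheme.{u}} {f : X ⟶ S} {g : S' ⟶ S} {f' : X' ⟶ S'}
    {g' : X' ⟶ X} (hc : IsPullback g' f' f g) (s' : S') (y' : f'.fiber s') :
    ∃ (E : Type u) (_ : CommRing E) (φ₀ : X.presheaf.stalk (g' (f'.fiberι s' y')) →+* E)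
      (σ : E →+* (f'.fiber s').presheaf.stalk y'),
      Function.Surjective φ₀ ∧
      RingHom.ker φ₀ = (maximalIdeal (S.presheaf.stalk (f (g' (f'.fiberι s' y'))))).map
        (f.stalkMap (g' (f'.fiberι s' y'))).hom ∧
      σ.Flat ∧ IsLocalHom σ ∧
      σ.comp φ₀ = ((f'.fiberι s').stalkMap y').hom.comp (g'.stalkMap (f'.fiberι s' y')).hom := by
  let k := Spec.map (g.residueFieldMap s')
  have hk : k ≫ S.fromSpecResidueField (g s') = S'.fromSpecResidueField s' ≫ g :=
    Scheme.Hom.SpecMap_residueFieldMap_fromSpecResidueField g s'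
  let h : f'.fiber s' ⟶ f.fiber (g s') :=
    pullback.lift (f'.fiberι s' ≫ g') (f'.fiberToSpecResidueField s' ≫ k) (by
      rw [Category.assoc, hc.w, ← Category.assoc, f'.fiber_fac, Category.assoc, Category.assoc, hk])
  have hfst : h ≫ f.fiberι (g s') = f'.fiberι s' ≫ g' := pullback.lift_fst _ _ _
  have hsnd : h ≫ f.fiberToSpecResidueField (g s') = f'.fiberToSpecResidueField s' ≫ k :=
    pullback.lift_snd _ _ _
  have h1 : IsPullback (f'.fiberToSpecResidueField s') (f'.fiberι s' ≫ g')
      (k ≫ S.fromSpecResidueField (g s')) f := by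
    rw [hk]
    exact ((IsPullback.of_hasPullback f' (S'.fromSpecResidueField s')).paste_horiz hc).flip
  have h2 : IsPullback (f'.fiberToSpecResidueField s') h k (f.fiberToSpecResidueField (g s')) := by
    refine IsPullback.of_bot ?_ hsnd.symm (IsPullback.of_hasPullback f (S.fromSpecResidueField (g s'))).flip
    exact hfst.symm ▸ h1
  have : Flat k := by
    rw [HasRingHomProperty.Spec_iff (P := @Flat)]
    algebraize [(g.residueFieldMap s').hom]
    exact inferInstanceAs (Module.Flat (S.residueField (g s')) (S'.residueField s'))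
  have : Flat h := MorphismProperty.of_isPullback (P := @Flat) h2 ‹Flat k›
  have key : ∀ (q : f'.fiber s' ⟶ X), h ≫ f.fiberι (g s') = q →
      ∃ (E : Type u) (_ : CommRing E) (φ₀ : X.presheaf.stalk (q y') →+* E)
        (σ : E →+* (f'.fiber s').presheaf.stalk y'),
        Function.Surjective φ₀ ∧
        RingHom.ker φ₀ = (maximalIdeal (S.presheaf.stalk (f (q y')))).map (f.stalkMap (q y')).hom ∧
        σ.Flat ∧ IsLocalHom σ ∧ σ.comp φ₀ = (q.stalkMap y').hom := by
    rintro q rfl
    refine ⟨(f.fiber (g s')).presheaf.stalk (h y'), inferInstance,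
      ((f.fiberι (g s')).stalkMap (h y')).hom, (h.stalkMap y').hom,
      (f.fiberι (g s')).stalkMap_surjective (h y'),
      FibreStalk.ker_stalkMap_fiberι f (g s') (h y'), Flat.stalkMap h y', inferInstance, ?_⟩
    rw [Scheme.Hom.stalkMap_comp]
    rfl
  obtain ⟨E, iE, φ₀, σ, hs, hker, hfl, hloc, heq⟩ := key _ hfst
  refine ⟨E, iE, φ₀, σ, hs, hker, hfl, hloc, heq.trans ?_⟩
  rw [Scheme.Hom.stalkMap_comp]
  rfl

end Groth.Agent.FlatMor.FreeFibre
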