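import Groth.Agent.FlatMor.SmoothCartier
import Mathlib.AlgebraicGeometry.Morphisms.Smooth
import Mathlib.AlgebraicGeometry.Stalk

/-!
Effective Cartier divisors cut out by functions with nonzero differential on smooth morphisms.
-/

universe u

open AlgebraicGeometry CategoryTheory TensorProduct

namespace Groth.Agent.FlatMor.SmoothCartier

theorem smooth_appLE {X S : Scheme.{u}} (f : X ⟶ S) {W : X.Opens} (hW : Smooth (W.ι ≫ f))
    {U : X.Opens} (hU : IsAffineOpen U) (hUW : U ≤ W) {V : S.Opens} (hV : IsAffineOpen V)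
    (hle : U ≤ f ⁻¹ᵁ V) : (f.appLE V U hle).hom.Smooth := by
  have h1 : Smooth (U.ι ≫ f) := by
    rw [← X.homOfLE_ι hUW, Category.assoc]; infer_instance
  have : IsAffine U.toScheme := hU
  have : IsAffine V.toScheme := hV
  have h2 : Smooth (f.resLE V U hle) := by
    have : Smooth (f.resLE V U hle ≫ V.ι) := by rw [Scheme.Hom.resLE_comp_ι]; exact h1
    exact MorphismProperty.of_isPullback (P := @Smooth)
      (show IsPullback (𝟙 _) (f.resLE V U hle) (f.resLE V U hle ≫ V.ι) V.ι from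
        IsPullback.of_vert_isIso_mono ⟨by simp⟩ |>.flip) this
  rw [HasRingHomProperty.iff_of_isAffine (P := @Smooth)] at h2
  exact (RingHom.Smooth.respectsIso.arrow_mk_iso_iff (arrowResLEAppIso f V U hle)).mp h2

/-- The geometric form. -/
theorem exists_cartier_scheme {X S : Scheme.{u}} (f : X ⟶ S) (x : X)
    (W : X.Opens) (hxW : x ∈ W) (hW : Smooth (W.ι ≫ f))
    (h : ↑(X.presheaf.stalk x)) (hm : h ∈ IsLocalRing.maximalIdeal ↑(X.presheaf.stalk x))
    (hd : letI := (f.stalkMap x).hom.toAlgebra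
      (1 : IsLocalRing.ResidueField ↑(X.presheaf.stalk x)) ⊗ₜ[↑(X.presheaf.stalk x)]
          (KaehlerDifferential.D ↑(S.presheaf.stalk (f x)) ↑(X.presheaf.stalk x) h) ≠ 0) :
    ∃ (U : X.Opens) (hU : IsAffineOpen U) (hx : x ∈ U) (h' : Γ(X, U)), X.presheaf.germ U x hx h' = h ∧
      h' ∈ nonZeroDivisors Γ(X, U) ∧
      Smooth (Spec.map (CommRingCat.ofHom (Ideal.Quotient.mk (Ideal.span {h'}))) ≫ hU.fromSpec ≫ f) := by
  obtain ⟨U1, hxU1, h1, h1e⟩ := X.presheaf.exists_germ_eq h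
  obtain ⟨_, ⟨V, hV, rfl⟩, hxV, -⟩ := S.isBasis_affineOpens.exists_subset_of_mem_open
    (Set.mem_univ (f x)) isOpen_univ
  obtain ⟨_, ⟨U, hU, rfl⟩, hxU, hUle⟩ := X.isBasis_affineOpens.exists_subset_of_mem_open
    (show x ∈ ((U1 ⊓ W ⊓ f ⁻¹ᵁ V : X.Opens) : Set X) from ⟨⟨hxU1, hxW⟩, hxV⟩) (U1 ⊓ W ⊓ f ⁻¹ᵁ V).isOpen
  have hU1 : U ≤ U1 := fun y hy => (hUle hy).1.1
  have hUW : U ≤ W := fun y hy => (hUle hy).1.2
  have hle : U ≤ f ⁻¹ᵁ V := fun y hy => (hUle hy).2
  let h0 : Γ(X, U) := X.presheaf.map (homOfLE hU1).op h1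
  have h0e : X.presheaf.germ U x hxU h0 = h := by
    rw [TopCat.Presheaf.germ_res_apply]; exact h1e
  let q := hU.primeIdealOf ⟨x, hxU⟩
  let L := X.presheaf.stalk x
  let _ : Algebra Γ(X, U) L := (X.presheaf.germ U x hxU).hom.toAlgebra
  have : IsLocalization.AtPrime L q.asIdeal := hU.isLocalization_stalk ⟨x, hxU⟩
  let _ : Algebra Γ(S, V) Γ(X, U) := (f.appLE V U hle).hom.toAlgebra
  let _ : Algebra Γ(S, V) L := ((algebraMap Γ(X, U) L).comp (algebraMap Γ(S, V) Γ(X, U))).toAlgebra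
  have : IsScalarTower Γ(S, V) Γ(X, U) L := .of_algebraMap_eq fun _ => rfl
  have : Algebra.Smooth Γ(S, V) Γ(X, U) :=
    RingHom.smooth_algebraMap.mp (smooth_appLE f hW hU hUW hV hle)
  let _ : Algebra (S.presheaf.stalk (f x)) L := (f.stalkMap x).hom.toAlgebra
  let _ : Algebra Γ(S, V) (S.presheaf.stalk (f x)) := (S.presheaf.germ V (f x) hxV).hom.toAlgebra
  have : IsScalarTower Γ(S, V) (S.presheaf.stalk (f x)) L := .of_algebraMap_eq fun a => by
    show X.presheaf.germ U x hxU (f.appLE V U hle a) = f.stalkMap x (S.presheaf.germ V (f x) hxV a)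
    rw [Scheme.Hom.germ_stalkMap_apply, Scheme.Hom.appLE, CommRingCat.comp_apply,
      TopCat.Presheaf.germ_res_apply]
  have hd0 : (1 : IsLocalRing.ResidueField L) ⊗ₜ[L]
      KaehlerDifferential.D Γ(S, V) L (algebraMap Γ(X, U) L h0) ≠ 0 := by
    intro h2
    apply hd
    have h3 := congrArg ((KaehlerDifferential.map Γ(S, V) (S.presheaf.stalk (f x)) L L).lTensor
      (IsLocalRing.ResidueField L)) h2
    rw [LinearMap.lTensor_tmul, map_zero, KaehlerDifferential.map_D] at h3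
    rw [← h3]
    congr 2
    exact h0e.symm
  obtain ⟨s, hs, hprop⟩ := exists_cartier (L := L) q.asIdeal h0 hd0
  have hxs : x ∈ X.basicOpen s := by
    have h' : hU.primeIdealOf ⟨x, hxU⟩ ∈ hU.fromSpec ⁻¹ᵁ X.basicOpen s := by
      rw [hU.fromSpec_preimage_basicOpen]; exact hs
    have h'' : hU.fromSpec (hU.primeIdealOf ⟨x, hxU⟩) ∈ X.basicOpen s := h'
    rwa [hU.fromSpec_primeIdealOf] at h''
  have : IsLocalization.Away s Γ(X, X.basicOpen s) := hU.isLocalization_basicOpen s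
  let _ : Algebra Γ(S, V) Γ(X, X.basicOpen s) :=
    ((algebraMap Γ(X, U) Γ(X, X.basicOpen s)).comp (algebraMap Γ(S, V) Γ(X, U))).toAlgebra
  have : IsScalarTower Γ(S, V) Γ(X, U) Γ(X, X.basicOpen s) := .of_algebraMap_eq fun _ => rfl
  obtain ⟨hn, hsm⟩ := hprop Γ(X, X.basicOpen s)
  refine ⟨X.basicOpen s, hU.basicOpen s, hxs, algebraMap Γ(X, U) Γ(X, X.basicOpen s) h0, ?_, hn, ?_⟩
  · exact (X.presheaf.germ_res_apply _ _ _ _).trans h0e
  · have hle' : X.basicOpen s ≤ f ⁻¹ᵁ V := (X.basicOpen_le s).trans hle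
    rw [← IsAffineOpen.SpecMap_appLE_fromSpec f hV (hU.basicOpen s) hle', ← Spec.map_comp_assoc]
    have h4 : Smooth (Spec.map (f.appLE V (X.basicOpen s) hle' ≫
        CommRingCat.ofHom (Ideal.Quotient.mk (Ideal.span {algebraMap Γ(X, U) Γ(X, X.basicOpen s) h0})))) := by
      rw [HasRingHomProperty.Spec_iff (P := @Smooth)]
      have e : f.appLE V (X.basicOpen s) hle' =
          CommRingCat.ofHom (algebraMap Γ(S, V) Γ(X, X.basicOpen s)) := by
        refine (Scheme.Hom.appLE_map f hle (homOfLE (X.basicOpen_le s)).op).symm.trans ?_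
        rfl
      rw [e]
      exact hsm
    infer_instance

end Groth.Agent.FlatMor.SmoothCartier
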