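import Groth.Agent.RegImm44.KoszulMor
import Groth.Agent.KReg44.Smooth
import Mathlib.RingTheory.FiniteType

/-!
# Chartwise lci ring maps versus Koszul morphisms
-/

set_option autoImplicit false
set_option linter.style.haveILetI false

universe u

open AlgebraicGeometry CategoryTheory Limits TopologicalSpace
open Groth.Agent.RegImm44

namespace Groth.Agent.FlatMor.LCIChart

variable {X Y : Scheme.{u}} (f : X ⟶ Y)

/-- An lci chart gives the factorisation through a Koszul-regular immersion. -/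
theorem isKoszulAt_of_isLCI {U : X.Opens} {V : Y.Opens} (hU : IsAffineOpen U) (hV : IsAffineOpen V)
    (e : U ≤ f ⁻¹ᵁ V)
    (h : letI := (f.appLE V U e).hom.toAlgebra; LCI.IsLCI Γ(Y, V) Γ(X, U))
    (x : X) (hx : x ∈ U) : Synt.IsKoszulAt f x := by
  letI := (f.appLE V U e).hom.toAlgebra
  obtain ⟨-, n, α, hα, hker⟩ := h
  let c := CommRingCat.ofHom (MvPolynomial.C : Γ(Y, V) →+* MvPolynomial (Fin n) Γ(Y, V))
  let a := CommRingCat.ofHom (α.toRingHom : MvPolynomial (Fin n) Γ(Y, V) →+* Γ(X, U))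
  have hca : c ≫ a = f.appLE V U e := by
    ext r; exact α.commutes r
  haveI := hV.isOpenImmersion_fromSpec
  haveI := smooth_specMap_C Γ(Y, V) n
  haveI : IsClosedImmersion (Spec.map a) := IsClosedImmersion.spec_of_surjective a hα
  have hreg : RegImm.IsRegularImmersion .koszul (hU.isoSpec.hom ≫ Spec.map a) :=
    isRegularImmersion_open_comp _ _ (isRegularImmersion_specMap a hα hker)
  have hfac : (hU.isoSpec.hom ≫ Spec.map a) ≫ Spec.map c ≫ hV.fromSpec = U.ι ≫ f := by
    rw [Category.assoc, ← Spec.map_comp_assoc, hca, IsAffineOpen.SpecMap_appLE_fromSpec f hV hU e,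
      IsAffineOpen.fromSpec, Category.assoc, Iso.hom_inv_id_assoc]
  refine ⟨U, _, hU.isoSpec.hom ≫ Spec.map a, Spec.map c ≫ hV.fromSpec, hx, ?_, hreg, inferInstance, hfac⟩
  rw [← hfac]
  infer_instance

/-- Koszul morphisms are lci on every chart. -/
theorem isLCI_of_isKoszulAt (h : ∀ x, Synt.IsKoszulAt f x) (U : X.Opens) (V : Y.Opens)
    (hU : IsAffineOpen U) (hV : IsAffineOpen V) (e : U ≤ f ⁻¹ᵁ V) :
    letI := (f.appLE V U e).hom.toAlgebra
    LCI.IsLCI Γ(Y, V) Γ(X, U) := by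
  letI := (f.appLE V U e).hom.toAlgebra
  haveI := locallyOfFiniteType_of_isKoszulAt h
  have hft : (f.appLE V U e).hom.FiniteType := f.finiteType_appLE hV hU e
  obtain ⟨n, α, hα⟩ := Algebra.FiniteType.iff_quotient_mvPolynomial''.1 hft
  refine ⟨hft, n, α, hα, ?_⟩
  let c := CommRingCat.ofHom (MvPolynomial.C : Γ(Y, V) →+* MvPolynomial (Fin n) Γ(Y, V))
  let a := CommRingCat.ofHom (α.toRingHom : MvPolynomial (Fin n) Γ(Y, V) →+* Γ(X, U))
  have hca : c ≫ a = f.appLE V U e := by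
    ext r; exact α.commutes r
  haveI := hV.isOpenImmersion_fromSpec
  haveI := smooth_specMap_C Γ(Y, V) n
  haveI : IsClosedImmersion (Spec.map a) := IsClosedImmersion.spec_of_surjective a hα
  have hfac : Spec.map a ≫ Spec.map c ≫ hV.fromSpec = hU.fromSpec ≫ f := by
    rw [← Spec.map_comp_assoc, hca, IsAffineOpen.SpecMap_appLE_fromSpec f hV hU e]
  haveI := hU.isOpenImmersion_fromSpec
  have hreg : RegImm.IsRegularImmersion .koszul (Spec.map a) :=
    isRegularImmersion_of_isKoszulAt (fun z => isKoszulAt_open_comp hU.fromSpec z (h _))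
      (Spec.map c ≫ hV.fromSpec) (Spec.map a) hfac
  haveI : IsClosedImmersion (Spec.map a ∣_ ⊤) := inferInstance
  have hk := isKoszulRegularIdeal_ker (Spec.map a) hreg.2 (isAffineOpen_top _)
  let R := CommRingCat.of (MvPolynomial (Fin n) Γ(Y, V))
  let eR := (Scheme.ΓSpecIso R).commRingCatIsoToRingEquiv
  have hnat : (Spec.map a).appTop ≫ (Scheme.ΓSpecIso Γ(X, U)).hom = (Scheme.ΓSpecIso R).hom ≫ a :=
    Scheme.ΓSpecIso_naturality a
  refine KReg44.isKoszulRegularIdeal_of_equiv eR.symm ?_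
  convert hk using 1
  ext y
  rw [Ideal.mem_map_iff_of_surjective eR.symm.toRingHom eR.symm.surjective]
  have hy : ∀ z : Γ(Spec R, ⊤), (Scheme.ΓSpecIso Γ(X, U)).hom.hom (((Spec.map a).app ⊤).hom z) =
      α (eR z) := fun z => ConcreteCategory.congr_hom hnat z
  constructor
  · rintro ⟨p, hp, rfl⟩
    rw [RingHom.mem_ker]
    apply (ConcreteCategory.bijective_of_isIso (Scheme.ΓSpecIso Γ(X, U)).hom).1
    refine (hy (eR.symm p)).trans ?_
    rw [eR.apply_symm_apply]
    exact (RingHom.mem_ker.mp hp).trans (map_zero (Scheme.ΓSpecIso Γ(X, U)).hom.hom).symm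
  · intro hy0
    refine ⟨eR y, ?_, eR.symm_apply_apply y⟩
    rw [RingHom.mem_ker]
    refine (hy y).symm.trans ?_
    exact (congrArg _ (RingHom.mem_ker.mp hy0)).trans (map_zero _)

theorem forall_isKoszulAt_of_charts
    (h : ∀ (U : X.Opens) (V : Y.Opens) (hU : IsAffineOpen U) (hV : IsAffineOpen V) (hUV : U ≤ f ⁻¹ᵁ V),
      letI := (f.appLE V U hUV).hom.toAlgebra
      LCI.IsLCI Γ(Y, V) Γ(X, U)) (x : X) : Synt.IsKoszulAt f x := by
  obtain ⟨V, hV, hxV, -⟩ := exists_isAffineOpen_mem_and_subset (show f x ∈ (⊤ : Y.Opens) from trivial)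
  obtain ⟨U, hU, hxU, e⟩ := exists_isAffineOpen_mem_and_subset (show x ∈ f ⁻¹ᵁ V from hxV)
  exact isKoszulAt_of_isLCI f hU hV e (h U V hU hV e) x hxU

end Groth.Agent.FlatMor.LCIChart
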