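import Groth.Agent.FlatMor.GenericPts
import Mathlib.AlgebraicGeometry.Fiber
import Mathlib.AlgebraicGeometry.FunctionField
import Mathlib.RingTheory.DiscreteValuationRing.Basic
import Mathlib.RingTheory.Flat.TorsionFree
import Mathlib.RingTheory.TensorProduct.Quotient

/-!
Flatness over a discrete valuation ring of a locally Noetherian scheme with reduced special fibre
and dense generic fibre.
-/

universe u

open AlgebraicGeometry CategoryTheory Limits
open scoped TensorProduct

namespace Groth.Agent.FlatMor.DVRFlat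

/-- In a Noetherian ring, an element outside all minimal primes modulo which the ring is reduced is
a nonzerodivisor. -/
theorem eq_zero_of_mul_eq_zero {A : Type*} [CommRing A] [IsNoetherianRing A] {π : A}
    (hmin : ∀ q ∈ minimalPrimes A, π ∉ q) (hred : _root_.IsReduced (A ⧸ Ideal.span {π}))
    {a : A} (ha : π * a = 0) : a = 0 := by
  have key : ∀ n : ℕ, ∀ a : A, π ^ n * a = 0 → ∀ k : ℕ, ∃ b, a = π ^ k * b ∧ π ^ (n + k) * b = 0 := by
    intro n a ha k
    induction k with
    | zero => exact ⟨a, by simp, by simpa using ha⟩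
    | succ k ih =>
      obtain ⟨b, hb, hb'⟩ := ih
      have hnil : b ∈ nilradical A := by
        rw [nilradical, ← Ideal.sInf_minimalPrimes, Submodule.mem_sInf]
        intro q hq
        have hp : Ideal.IsPrime q := Ideal.minimalPrimes_isPrime hq
        exact (hp.mem_or_mem (show π ^ (n + k) * b ∈ q by rw [hb']; exact q.zero_mem)).resolve_left
          fun h => hmin q hq (hp.mem_of_pow_mem _ h)
      have : Ideal.Quotient.mk (Ideal.span {π}) b = 0 :=
        hred.eq_zero _ ((mem_nilradical.mp hnil).map _)
      obtain ⟨c, rfl⟩ := Ideal.mem_span_singleton'.mp (Ideal.Quotient.eq_zero_iff_mem.mp this)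
      exact ⟨c, by rw [hb]; ring, by rw [← hb']; ring⟩
  let F : ℕ →o Ideal A := ⟨fun n => LinearMap.ker (LinearMap.lsmul A A (π ^ n)), monotone_nat_of_le_succ
    fun n x hx => by
      simp only [LinearMap.mem_ker, LinearMap.lsmul_apply, smul_eq_mul] at hx ⊢
      rw [pow_succ', mul_assoc, hx, mul_zero]⟩
  obtain ⟨m, hm⟩ := monotone_stabilizes_iff_noetherian.mpr ‹IsNoetherianRing A› F
  obtain ⟨b, rfl, hb⟩ := key 1 a (by simpa using ha) m
  have : b ∈ F m := by
    rw [hm (1 + m) (Nat.le_add_left _ _)]
    simpa [F] using hb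
  simpa [F] using this

/-- If the fibre of `Spec A → Spec R` at a maximal ideal `m` is reduced, then so is `A / m A`. -/
theorem isReduced_quotient_of_fiber {R A : Type u} [CommRing R] [CommRing A] [Algebra R A]
    (m : PrimeSpectrum R) [m.asIdeal.IsMaximal]
    (h : IsReduced ((Spec.map (CommRingCat.ofHom <| algebraMap R A)).fiber m)) :
    _root_.IsReduced (A ⧸ m.asIdeal.map (algebraMap R A)) := by
  have e := (Spec.fiberToSpecResidueFieldIso R A m)
  have : IsReduced (Spec (CommRingCat.of (m.asIdeal.Fiber A))) :=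
    @isReduced_of_isOpenImmersion _ _ (Arrow.leftFunc.mapIso e).inv _ h
  have hF : _root_.IsReduced (m.asIdeal.Fiber A) := (affine_isReduced_iff _).mp this
  let ε : (R ⧸ m.asIdeal) ≃ₐ[R] m.asIdeal.ResidueField :=
    .ofBijective (IsScalarTower.toAlgHom R (R ⧸ m.asIdeal) m.asIdeal.ResidueField)
      m.asIdeal.bijective_algebraMap_quotient_residueField
  let e' : (A ⧸ m.asIdeal.map (algebraMap R A)) ≃ₐ[R] m.asIdeal.Fiber A :=
    ((Algebra.TensorProduct.quotIdealMapEquivTensorQuot A m.asIdeal).restrictScalars R).trans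
      ((Algebra.TensorProduct.comm R A _).trans (Algebra.TensorProduct.congr ε AlgEquiv.refl))
  exact isReduced_of_injective e' e'.injective

/-- Flatness over a DVR from dense generic fibre and reduced special fibre. -/
theorem flat (R : Type u) [CommRing R] [IsDomain R] [IsDiscreteValuationRing R] {X : Scheme.{u}}
    (f : X ⟶ Spec (CommRingCat.of R)) [IsLocallyNoetherian X]
    (hred : IsReduced (f.fiber (IsLocalRing.closedPoint R)))
    (hdense : Dense (f ⁻¹' {genericPoint (Spec (CommRingCat.of R))})) : Flat f := by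
  suffices H : ∀ (A : CommRingCat.{u}) (j : Spec A ⟶ X), IsOpenImmersion j → Flat (j ≫ f) by
    rw [IsZariskiLocalAtSource.iff_of_openCover (P := @Flat) X.affineOpenCover.openCover]
    exact fun i => H _ _ (X.affineOpenCover.map_prop i)
  intro A j _
  generalize hg : j ≫ f = g
  obtain ⟨φ, rfl⟩ := Spec.map_surjective g
  have : IsLocallyNoetherian (Spec A) := isLocallyNoetherian_of_isOpenImmersion j
  have : IsNoetherianRing A := (isLocallyNoetherian_Spec (R := A)).mp inferInstance
  obtain ⟨ϖ, hϖ⟩ := IsDiscreteValuationRing.exists_irreducible R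
  have hm : IsLocalRing.maximalIdeal R = Ideal.span {ϖ} :=
    (IsDiscreteValuationRing.irreducible_iff_uniformizer ϖ).mp hϖ
  rw [HasRingHomProperty.Spec_iff (P := @Flat)]
  letI := φ.hom.toAlgebra
  show Module.Flat R _
  have hred' : IsReduced ((Spec.map φ).fiber (IsLocalRing.closedPoint R)) := by
    rw [← hg]
    exact @isReduced_of_isOpenImmersion _ _ (pullbackRightPullbackFstIso f
      ((Spec (CommRingCat.of R)).fromSpecResidueField (IsLocalRing.closedPoint R))
      j).inv _ (@isReduced_of_isOpenImmersion _ _ (pullback.snd _ _) _ hred)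
  have : (IsLocalRing.closedPoint R).asIdeal.IsMaximal := IsLocalRing.maximalIdeal.isMaximal R
  have hq := isReduced_quotient_of_fiber (R := R) (A := A)
    (IsLocalRing.closedPoint R) hred'
  rw [show (IsLocalRing.closedPoint R).asIdeal = Ideal.span {ϖ} from hm, Ideal.map_span,
    Set.image_singleton] at hq
  have hd : Dense ((Spec.map φ) ⁻¹' {genericPoint (Spec (CommRingCat.of R))}) := by
    rw [← hg, Scheme.Hom.comp_base, TopCat.coe_comp, Set.preimage_comp]
    exact hdense.preimage j.isOpenEmbedding.isOpenMap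
  let U : (Spec A).Opens := PrimeSpectrum.basicOpen (φ.hom ϖ)
  have hU : Dense (U : Set (Spec A)) := by
    refine hd.mono fun p hp hmem => ?_
    rw [Set.mem_preimage, Set.mem_singleton_iff, genericPoint_eq_bot_of_affine] at hp
    have h1 : ϖ ∈ ((Spec.map φ) p).asIdeal := hmem
    rw [hp] at h1
    exact hϖ.ne_zero (by simpa using h1)
  have hmin : ∀ q ∈ minimalPrimes A, φ.hom ϖ ∉ q := by
    intro q hq
    have : q.IsPrime := Ideal.minimalPrimes_isPrime hq
    have h1 : closure ({(⟨q, this⟩ : Spec A)} : Set (Spec A)) ∈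
        irreducibleComponents (Spec A) := by
      refine (GenericPts.closure_mem_irreducibleComponents_iff (α := Spec A) _).mpr ?_
      intro z hz
      have hz' : (z : PrimeSpectrum A).asIdeal ≤ q := (PrimeSpectrum.le_iff_specializes z ⟨q, this⟩).mpr hz
      exact (PrimeSpectrum.le_iff_specializes (⟨q, this⟩ : PrimeSpectrum A) z).mp
        (hq.2 ⟨z.isPrime, bot_le⟩ hz')
    exact GenericPts.mem_of_dense hU h1
  rw [Module.Flat.flat_iff_torsion_eq_bot_of_isBezout, eq_bot_iff]
  rintro a ⟨⟨b, hb⟩, hba⟩
  obtain ⟨n, u, rfl⟩ := IsDiscreteValuationRing.eq_unit_mul_pow_irreducible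
    (nonZeroDivisors.ne_zero hb) hϖ
  change (algebraMap R _) (↑u * ϖ ^ n) * a = 0 at hba
  rw [map_mul, mul_assoc, map_pow] at hba
  replace hba := ((u.isUnit.map (algebraMap R _)).mul_right_eq_zero).mp hba
  clear hb
  induction n with
  | zero => simpa using hba
  | succ n ih =>
    apply ih
    rw [pow_succ', mul_assoc] at hba
    exact eq_zero_of_mul_eq_zero hmin hq hba

end Groth.Agent.FlatMor.DVRFlat
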