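import Groth.Agent.CBC.Deg0Thms
import Groth.Agent.FlatMisc.ValuationFP
import Groth.Agent.LineCoc.Basic
import Groth.Agent.Cube.Seesaw
import Groth.Agent.Wt.GenFibReduced
import Groth.Agent.PicLaw.Basic
import Groth.Agent.ProjTwist.Invertible
import Groth.Agent.Props.QFP
import Mathlib.RingTheory.Bezout

/-!
# Families of functions with unit transition functions, over a valuation ring
-/

set_option autoImplicit false
set_option linter.style.haveILetI false
universe u

open CategoryTheory CategoryTheory.Limits AlgebraicGeometry Opposite TopologicalSpace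

noncomputable section

namespace Groth.Agent.FlatMor.LineValuation

open Groth.Agent.QCoh Groth.Agent.Props.GenLocus Groth.Agent.LineCoc

section Ring

variable {A B : Type u} [CommRing A] [IsDomain A] [CommRing B] [Algebra A B]

theorem eq_zero_of_mul [Module.Flat A B] {a : A} (ha : a ≠ 0) {b : B} (h : algebraMap A B a * b = 0) :
    b = 0 := by
  have := Module.Flat.isSMulRegular_of_isRegular (M := B) (IsRegular.of_ne_zero ha)
  exact this (by simpa [Algebra.smul_def] using h)

theorem exists_ne_zero_mem (J : Ideal B)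
    (h : ∀ P : Ideal B, P.IsPrime → P.comap (algebraMap A B) = ⊥ → ¬ J ≤ P) :
    ∃ c : A, c ≠ 0 ∧ algebraMap A B c ∈ J := by
  by_contra hcon
  push Not at hcon
  obtain ⟨P, hP, hJP, hdisj⟩ := Ideal.exists_le_prime_disjoint J
    ((nonZeroDivisors A).map (algebraMap A B)) (Set.disjoint_left.mpr fun b hb hb' => by
      obtain ⟨c, hc, rfl⟩ := hb'
      exact hcon c (nonZeroDivisors.ne_zero hc) hb)
  refine h P hP (eq_bot_iff.mpr fun c hc => ?_) hJP
  by_contra hc0
  exact Set.disjoint_left.mp hdisj hc ⟨c, mem_nonZeroDivisors_of_ne_zero hc0, rfl⟩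

theorem exists_dvd_algebraMap (g : B)
    (h : ∀ P : Ideal B, P.IsPrime → P.comap (algebraMap A B) = ⊥ → g ∉ P) :
    ∃ c : A, c ≠ 0 ∧ g ∣ algebraMap A B c := by
  obtain ⟨c, hc, hc'⟩ := exists_ne_zero_mem (Ideal.span {g})
    fun P hP hb hle => h P hP hb (hle (Ideal.mem_span_singleton_self g))
  exact ⟨c, hc, Ideal.mem_span_singleton.mp hc'⟩

theorem eq_zero_of_forall [Module.Flat A B] (b : B)
    (h : ∀ P : Ideal B, P.IsPrime → P.comap (algebraMap A B) = ⊥ → ∃ t ∉ P, t * b = 0) : b = 0 := by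
  obtain ⟨c, hc, hc'⟩ := exists_ne_zero_mem (LinearMap.ker (LinearMap.toSpanSingleton B B b))
    fun P hP hb hle => by
      obtain ⟨t, ht, htb⟩ := h P hP hb
      exact ht (hle (by simpa using htb))
  exact eq_zero_of_mul hc (by simpa using hc')

theorem exists_dvd_of_mem_map [ValuationRing A] {x : B}
    (hx : x ∈ (IsLocalRing.maximalIdeal A).map (algebraMap A B)) :
    ∃ a ∈ IsLocalRing.maximalIdeal A, algebraMap A B a ∣ x := by
  induction hx using Submodule.span_induction with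
  | mem x hx => obtain ⟨a, ha, rfl⟩ := hx; exact ⟨a, ha, dvd_rfl⟩
  | zero => exact ⟨0, zero_mem _, dvd_zero _⟩
  | add x y _ _ hx hy =>
    obtain ⟨a, ha, hax⟩ := hx
    obtain ⟨b, hb, hby⟩ := hy
    rcases ValuationRing.dvd_total a b with hab | hab
    · exact ⟨a, ha, dvd_add hax ((map_dvd (algebraMap A B) hab).trans hby)⟩
    · exact ⟨b, hb, dvd_add ((map_dvd (algebraMap A B) hab).trans hax) hby⟩
  | smul r x _ hx => obtain ⟨a, ha, hax⟩ := hx; exact ⟨a, ha, hax.mul_left r⟩

theorem exists_common_dvd [ValuationRing A] {κ : Type*} (s : Finset κ) (a : κ → A)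
    (ha : ∀ k ∈ s, a k ∈ IsLocalRing.maximalIdeal A) :
    ∃ c ∈ IsLocalRing.maximalIdeal A, ∀ k ∈ s, c ∣ a k := by
  classical
  induction s using Finset.induction_on with
  | empty => exact ⟨0, zero_mem _, by simp⟩
  | insert k s _ ih =>
    obtain ⟨c, hc, hcs⟩ := ih fun l hl => ha l (Finset.mem_insert_of_mem hl)
    rcases ValuationRing.dvd_total c (a k) with h | h
    · exact ⟨c, hc, Finset.forall_mem_insert _ _ _ |>.mpr ⟨h, hcs⟩⟩
    · exact ⟨a k, ha k (Finset.mem_insert_self _ _), Finset.forall_mem_insert _ _ _ |>.mpr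
        ⟨dvd_rfl, fun l hl => h.trans (hcs l hl)⟩⟩

/-- A reduced closed fibre makes the extended maximal ideal radical. -/
theorem isRadical_of_isReduced [IsLocalRing A]
    (h : _root_.IsReduced (TensorProduct A (IsLocalRing.maximalIdeal A).ResidueField B)) :
    ((IsLocalRing.maximalIdeal A).map (algebraMap A B)).IsRadical := by
  intro b hb
  obtain ⟨n, hn⟩ := hb
  let J := (IsLocalRing.maximalIdeal A).map (algebraMap A B)
  let ir : B →ₐ[A] TensorProduct A (IsLocalRing.maximalIdeal A).ResidueField B :=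
    Algebra.TensorProduct.includeRight
  have hJ : J ≤ RingHom.ker ir.toRingHom := by
    refine Ideal.map_le_iff_le_comap.mpr fun a ha => ?_
    show ir (algebraMap A B a) = 0
    rw [ir.commutes, IsScalarTower.algebraMap_apply A (IsLocalRing.maximalIdeal A).ResidueField
      (TensorProduct A (IsLocalRing.maximalIdeal A).ResidueField B),
      Ideal.algebraMap_residueField_eq_zero.mpr ha, map_zero]
  have h0 : ir b = 0 := h.eq_zero _ ⟨n, by rw [← map_pow]; exact hJ hn⟩
  let lκ : (IsLocalRing.maximalIdeal A).ResidueField →ₐ[A] B ⧸ J :=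
    Ideal.ResidueField.liftₐ _ (Algebra.ofId A (B ⧸ J))
      (fun a ha => Ideal.Quotient.eq_zero_iff_mem.mpr (Ideal.mem_map_of_mem _ ha))
      (fun a ha => (IsUnit.mem_submonoid_iff _).mpr
        ((IsLocalRing.notMem_maximalIdeal.mp ha).map _))
  let π := Algebra.TensorProduct.productMap lκ (Ideal.Quotient.mkₐ A J)
  have := congrArg π h0
  rw [map_zero, show π (ir b) = Ideal.Quotient.mk J b by simp [π, ir]] at this
  exact Ideal.Quotient.eq_zero_iff_mem.mp this

end Ring

variable {A : Type u} [CommRing A] {X : Scheme.{u}} (f : X ⟶ Spec (CommRingCat.of A))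

/-- Constant functions. -/
def cst (V : X.Opens) : A →+* Γ(X, V) :=
  ((Scheme.ΓSpecIso (CommRingCat.of A)).inv ≫ f.appLE ⊤ V (by simp)).hom

lemma rres_cst {V W : X.Opens} (h : W ≤ V) (a : A) : rres h (cst f V a) = cst f W a :=
  ConcreteCategory.congr_hom (f.appLE_map (U := ⊤) (V := V) (by simp) (homOfLE h).op)
    ((Scheme.ΓSpecIso (CommRingCat.of A)).inv a)

/-- The point of an affine open lies over the pullback of its prime along constants. -/
lemma map_fromSpec {U : X.Opens} (hU : IsAffineOpen U) (P : Spec Γ(X, U)) :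
    f (hU.fromSpec P) = Spec.map (CommRingCat.ofHom (cst f U)) P := by
  have h : hU.fromSpec ≫ f = Spec.map (CommRingCat.ofHom (cst f U)) := by
    rw [← IsAffineOpen.SpecMap_appLE_fromSpec f (isAffineOpen_top _) hU (by simp),
      IsAffineOpen.fromSpec_top, cst, CommRingCat.ofHom_hom, Spec.map_comp]
    congr 1
    rw [Scheme.isoSpec_Spec_inv]
  rw [← h, Scheme.Hom.comp_apply]

lemma isLocalHom_germ {x : X} {U : X.Opens} (hx : x ∈ U) [IsLocalRing A]
    (hfx : f x = IsLocalRing.closedPoint A) {a : A}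
    (h : IsUnit ((X.presheaf.germ U x hx).hom (cst f U a))) : IsUnit a := by
  obtain ⟨_, ⟨W, hW, rfl⟩, hxW, hWU⟩ := X.isBasis_affineOpens.exists_subset_of_mem_open hx U.2
  obtain ⟨P, rfl⟩ : x ∈ Set.range hW.fromSpec := by rw [hW.range_fromSpec]; exact hxW
  have h1 : hW.fromSpec P ∈ X.basicOpen (cst f W a) := by
    refine (X.mem_basicOpen _ _ hxW).mpr ?_
    rwa [← rres_cst f (show W ≤ U from hWU), TopCat.Presheaf.germ_res_apply]
  have h2 : P ∈ hW.fromSpec ⁻¹ᵁ X.basicOpen (cst f W a) := h1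
  rw [hW.fromSpec_preimage_basicOpen] at h2
  rw [map_fromSpec f hW] at hfx
  by_contra ha
  exact h2 ((congrArg PrimeSpectrum.asIdeal hfx).ge ha)

variable [IsDomain A] [ValuationRing A] [Flat f]

theorem flat_cst {U : X.Opens} (hU : IsAffineOpen U) :
    @Module.Flat A Γ(X, U) _ _ (cst f U).toAlgebra.toModule := by
  have h := (f.flat_appLE (isAffineOpen_top _) hU (by simp : U ≤ f ⁻¹ᵁ ⊤))
  have h2 : (cst f U).Flat :=
    RingHom.Flat.comp (RingHom.Flat.of_bijective
      (ConcreteCategory.bijective_of_isIso (Scheme.ΓSpecIso (CommRingCat.of A)).inv)) h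
  exact h2

theorem eq_zero_of_cst_mul {V : X.Opens} {a : A} (ha : a ≠ 0) {b : Γ(X, V)}
    (h : cst f V a * b = 0) : b = 0 := by
  refine X.sheaf.eq_of_locally_eq' (fun U : {U : X.affineOpens // U.1 ≤ V} => U.1.1) V
    (fun U => homOfLE U.2) (fun x hx => ?_) _ _ fun U => ?_
  · obtain ⟨_, ⟨W, hW, rfl⟩, hxW, hWU⟩ := X.isBasis_affineOpens.exists_subset_of_mem_open hx V.2
    exact Opens.mem_iSup.mpr ⟨⟨⟨W, hW⟩, hWU⟩, hxW⟩
  · letI := (cst f U.1.1).toAlgebra
    haveI := flat_cst f U.1.2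
    show rres U.2 b = rres U.2 0
    rw [map_zero]
    refine eq_zero_of_mul (A := A) ha ?_
    rw [RingHom.algebraMap_toAlgebra, ← rres_cst f U.2, ← map_mul, h, map_zero]

theorem cst_mul_cancel {V : X.Opens} {a : A} (ha : a ≠ 0) {b b' : Γ(X, V)}
    (h : cst f V a * b = cst f V a * b') : b = b' :=
  sub_eq_zero.mp (eq_zero_of_cst_mul f ha (by rw [mul_sub, h, sub_self]))

theorem cst_eq_zero {x : X} {V : X.Opens} (hx : x ∈ V) {a : A} (h : cst f V a = 0) : a = 0 := by
  by_contra ha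
  have h1 : (1 : Γ(X, V)) = 0 := eq_zero_of_cst_mul f ha (by rw [h, zero_mul])
  have := congrArg (X.presheaf.germ V x hx).hom h1
  rw [map_one, map_zero] at this
  exact one_ne_zero this

/-- A function not divisible by the maximal ideal is invertible at the generic point of the
closed fibre. -/
theorem isUnit_germ_of_notMem [IsReduced (f.fiber (IsLocalRing.closedPoint A))] {ξ : X}
    (hξ : ∀ x, f x = IsLocalRing.closedPoint A → ξ ⤳ x) {U : X.Opens} (hU : IsAffineOpen U)
    {b : Γ(X, U)} (hb : b ∉ (IsLocalRing.maximalIdeal A).map (cst f U)) :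
    ∃ h : ξ ∈ U, IsUnit ((X.presheaf.germ U ξ h).hom b) := by
  letI := (cst f U).toAlgebra
  let J := (IsLocalRing.maximalIdeal A).map (cst f U)
  let s : Spec (CommRingCat.of A) := IsLocalRing.closedPoint A
  let q : Spec Γ(X, U) ⟶ Spec (CommRingCat.of A) :=
    Spec.map (CommRingCat.ofHom (algebraMap A Γ(X, U)))
  have hq : q = hU.fromSpec ≫ f := by
    rw [← IsAffineOpen.SpecMap_appLE_fromSpec f (isAffineOpen_top _) hU (by simp),
      IsAffineOpen.fromSpec_top]
    simp only [q, RingHom.algebraMap_toAlgebra, cst, CommRingCat.ofHom_hom, Spec.map_comp]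
    congr 1
    rw [Scheme.isoSpec_Spec_inv]
  haveI hred : IsReduced (q.fiber s) := by
    let ι : q.fiber s ⟶ f.fiber s :=
      pullback.map q _ f _ hU.fromSpec (𝟙 _) (𝟙 _) (by rw [Category.comp_id, hq]) (by simp)
    haveI : IsOpenImmersion ι := Scheme.pullback_map_isOpenImmersion ..
    exact isReduced_of_isOpenImmersion ι
  have hrad : J.IsRadical := isRadical_of_isReduced ((Wt.GenFib.isReduced_fiber_iff A Γ(X, U) s).mp hred)
  obtain ⟨P, hP, hJP, hbP⟩ : ∃ P : Ideal Γ(X, U), P.IsPrime ∧ J ≤ P ∧ b ∉ P := by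
    by_contra hcon
    push Not at hcon
    refine hb (hrad ?_)
    rw [Ideal.radical_eq_sInf, Submodule.mem_sInf]
    exact fun P hP => hcon P hP.2 hP.1
  have hx : f (hU.fromSpec ⟨P, hP⟩) = s := by
    rw [map_fromSpec f hU]
    refine PrimeSpectrum.ext ?_
    exact ((IsLocalRing.maximalIdeal.isMaximal A).eq_of_le (hP.comap _).ne_top
      (Ideal.map_le_iff_le_comap.mp hJP)).symm
  have hmem : hU.fromSpec ⟨P, hP⟩ ∈ X.basicOpen b := by
    show (⟨P, hP⟩ : Spec Γ(X, U)) ∈ hU.fromSpec ⁻¹ᵁ X.basicOpen b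
    rw [hU.fromSpec_preimage_basicOpen]
    exact hbP
  have hmem' := (hξ _ hx).mem_open (X.basicOpen b).2 hmem
  exact ⟨X.basicOpen_le b hmem', (X.mem_basicOpen b ξ _).mp hmem'⟩

/-- Finitely presented sections of an invertible module. -/
theorem isFP_of_isInvertible {Y : Scheme.{u}} {L : Y.Modules} (hL : PicF.IsInvertible L) :
    L.IsQuasicoherent ∧ CohB1.IsFP L := by
  haveI : L.IsQuasicoherent := ProjTwist.isQCoh_of_isInvertible hL
  refine ⟨‹_›, Props.QFP.isFP_of_forall_exists _ fun x => ?_⟩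
  obtain ⟨U₀, g, hxU₀, hg⟩ := exists_isGen hL x
  obtain ⟨U, hU, hxU, hle⟩ := exists_isAffineOpen_mem_and_subset (U := U₀) (x := x) hxU₀
  refine ⟨U, hU, hxU, ?_⟩
  exact Module.FinitePresentation.of_equiv (LinearEquiv.ofBijective
    (LinearMap.toSpanSingleton Γ(Y, U) Γ(L, U) (res L hle g)) (hg U hle))

/-- Global sections of an invertible module are finite over the constants. -/
theorem exists_generators [IsProper f] [LocallyOfFinitePresentation f] {N : X.Modules}
    (hN : PicF.IsInvertible N) :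
    ∃ (n : ℕ) (m : Fin n → Γ(N, ⊤)), ∀ s : Γ(N, ⊤), ∃ r : Fin n → A,
      s = ∑ k, cst f ⊤ (r k) • m k := by
  obtain ⟨hqc, hfp⟩ := isFP_of_isInvertible hN
  haveI := hqc
  obtain ⟨⟨V, hV, D, w⟩, hVtop⟩ := CBC.exists_nhd_of_affine hfp
    (Cube.Seesaw.isFlatOver_of_invertible f hN) (isAffineOpen_top (Spec (CommRingCat.of A)))
  subst hVtop
  let R := Γ(Spec (CommRingCat.of A), ⊤)
  let eA : R ≃+* A := (Scheme.ΓSpecIso (CommRingCat.of A)).commRingCatIsoToRingEquiv
  haveI : IsDomain R := eA.toMulEquiv.isDomain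
  haveI : ValuationRing R := ValuationRing.iff_dvd_total.mpr ⟨fun a b => by
    simpa only [map_dvd_iff eA] using ValuationRing.dvd_total (eA a) (eA b)⟩
  have := (w 0).fp
  let u := (w 0).u
  haveI : Module.Finite R (LinearMap.range u) := inferInstance
  haveI : Module.Projective R (LinearMap.range u) :=
    FlatMisc.ValuationFP.projective_of_torsionFree _ fun a m h => by
      by_cases ha : a = 0
      · exact Or.inl ha
      · refine Or.inr (Subtype.ext (funext fun i => ?_))
        have := congrFun (congrArg Subtype.val h) i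
        simpa [ha] using this
  haveI : Module.FinitePresentation R (LinearMap.range u) := Module.finitePresentation_of_projective R _
  have hfg : (LinearMap.ker u).FG := by
    rw [← LinearMap.ker_rangeRestrict u]
    exact Module.FinitePresentation.fg_ker _ u.surjective_rangeRestrict
  haveI : Module.Finite R (LinearMap.ker u) := Module.Finite.iff_fg.mpr hfg
  let e := (CBC.zeroSec N D).symm ≪≫ₗ ((D.K N).hA 0).symm ≪≫ₗ (w 0).e₀
  haveI : Module.Finite R Γ((Coh.push f).obj N, ⊤) := Module.Finite.equiv e.symm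
  obtain ⟨n, m, hm⟩ := Module.Finite.exists_fin (R := R) (M := Γ((Coh.push f).obj N, ⊤))
  refine ⟨n, m, fun s => ?_⟩
  obtain ⟨r, hr⟩ := Submodule.mem_span_range_iff_exists_fun R |>.mp
    (hm.ge (Submodule.mem_top (x := (show Γ((Coh.push f).obj N, ⊤) from s))))
  refine ⟨fun k => eA (r k), hr.symm.trans (Finset.sum_congr rfl fun k _ => ?_)⟩
  show (show Γ(X, ⊤) from f.app ⊤ (r k)) • (show Γ(N, ⊤) from m k) = _
  congr 1
  show _ = f.appLE ⊤ ⊤ _ ((Scheme.ΓSpecIso (CommRingCat.of A)).inv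
    ((Scheme.ΓSpecIso (CommRingCat.of A)).hom (r k)))
  rw [Iso.hom_inv_id_apply, Scheme.Hom.app_eq_appLE]
  rfl

/-- A family of functions with the given transition functions. -/
def IsFam (C : Cocycle X) (g : ∀ i, Γ(X, C.W i)) : Prop :=
  ∀ i j, rres (inf_le_left : C.W i ⊓ C.W j ≤ C.W i) (g i) =
    C.a i j * rres (inf_le_right : C.W i ⊓ C.W j ≤ C.W j) (g j)

/-- The cocycle of inverses. -/
abbrev inv' (C : Cocycle X) : Cocycle X where
  ι := C.ι
  W := C.W
  a i j := rres (inf_comm (C.W i) (C.W j)).le (C.a j i)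
  cover := C.cover
  self i := by
    rw [C.self]
    exact map_one _
  coc i j k V h₁ h₂ h₃ := by
    simp only [rres_rres]
    rw [mul_comm]
    exact C.coc k j i V _ _ _

variable [IsProper f] [LocallyOfFinitePresentation f]
  [IsReduced (f.fiber (IsLocalRing.closedPoint A))] {ξ : X}

theorem exists_sec (C : Cocycle X) (h : ∀ i, Γ(X, C.W i)) (hh : IsFam C h) :
    ∃ t : Γ(mod C, ⊤), ∀ k, rres (le_inf le_top le_rfl : C.W k ≤ ⊤ ⊓ C.W k)
      ((show fam C ⊤ from t).1 k) = h k := by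
  refine ⟨(⟨fun k => rres (inf_le_right : ⊤ ⊓ C.W k ≤ C.W k) (h k), fun k l => ?_⟩ : fam C ⊤),
    fun k => (rres_rres _ _ _).trans (rres_self _ _)⟩
  have := congrArg (rres (inf_le_right : ⊤ ⊓ (C.W k ⊓ C.W l) ≤ C.W k ⊓ C.W l)) (hh k l)
  simp only [map_mul, rres_rres] at this ⊢
  exact this

theorem isFam_sec (C : Cocycle X) (t : Γ(mod C, ⊤)) :
    IsFam C fun k => rres (le_inf le_top le_rfl : C.W k ≤ ⊤ ⊓ C.W k)
      ((show fam C ⊤ from t).1 k) := by
  intro k l
  have := congrArg (rres (le_inf le_top le_rfl : C.W k ⊓ C.W l ≤ ⊤ ⊓ (C.W k ⊓ C.W l)))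
    ((show fam C ⊤ from t).2 k l)
  simp only [map_mul, rres_rres, rres_self] at this ⊢
  exact this

/-- The functions of a proper family with the given generic functions are constant. -/
def HasConst : Prop := Function.Surjective (cst f ⊤)

include f in
/-- A family generically invertible has a primitive partner. -/
theorem exists_partner (hconst : HasConst f) (hfξ : f ξ = IsLocalRing.closedPoint A)
    (hξ : ∀ x, f x = IsLocalRing.closedPoint A → ξ ⤳ x)
    (C : Cocycle X) [Finite C.ι] (haff : ∀ i, IsAffineOpen (C.W i))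
    (g : ∀ i, Γ(X, C.W i)) (hg : IsFam C g)
    (hgen : ∃ c : A, c ≠ 0 ∧ ∀ i, g i ∣ cst f (C.W i) c) :
    ∃ (c₀ : A) (h : ∀ i, Γ(X, C.W i)), c₀ ≠ 0 ∧ IsFam (inv' C) h ∧
      (∀ i, g i * h i = cst f (C.W i) c₀) ∧
      ∀ i (hi : ξ ∈ C.W i), IsUnit ((X.presheaf.germ (C.W i) ξ hi).hom (h i)) := by
  classical
  haveI := Fintype.ofFinite C.ι
  obtain ⟨j₀, hj₀⟩ := Opens.mem_iSup.mp (C.cover (trivial : ξ ∈ (⊤ : X.Opens)))
  have hunit : ∀ i j, C.a i j * rres (inf_comm (C.W i) (C.W j)).le (C.a j i) = 1 := by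
    intro i j
    have := C.coc i j i (C.W i ⊓ C.W j) le_rfl (inf_comm (C.W i) (C.W j)).le
      (le_inf inf_le_left inf_le_left)
    rw [rres_self, C.self, map_one] at this
    exact this
  -- partners of nonzero constants form families for the inverse cocycle
  have hfam : ∀ (c : A), c ≠ 0 → ∀ h : ∀ i, Γ(X, C.W i), (∀ i, g i * h i = cst f (C.W i) c) →
      IsFam (inv' C) h := by
    intro c hc h hgh i j
    refine cst_mul_cancel f hc ?_
    have h1 := congrArg (rres (inf_le_left : C.W i ⊓ C.W j ≤ C.W i)) (hgh i)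
    have h2 := congrArg (rres (inf_le_right : C.W i ⊓ C.W j ≤ C.W j)) (hgh j)
    rw [map_mul, rres_cst] at h1 h2
    change cst f (C.W i ⊓ C.W j) c * _ = cst f (C.W i ⊓ C.W j) c *
      (rres (inf_comm (C.W i) (C.W j)).le (C.a j i) * rres (inf_le_right : C.W i ⊓ C.W j ≤ C.W j) (h j))
    conv_lhs => rw [← h2]
    conv_rhs => rw [← h1, hg i j]
    linear_combination (-(rres (inf_le_left : C.W i ⊓ C.W j ≤ C.W i) (h i)) *
      rres (inf_le_right : C.W i ⊓ C.W j ≤ C.W j) (g j) *
      rres (inf_le_right : C.W i ⊓ C.W j ≤ C.W j) (h j)) * hunit i j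
  -- values of the pairing on a finite set of generators
  obtain ⟨n, m, hm⟩ := exists_generators f (isInvertible (inv' C))
  let H : Γ(mod (inv' C), ⊤) → ∀ i, Γ(X, C.W i) := fun t i =>
    rres (le_inf le_top le_rfl : C.W i ≤ ⊤ ⊓ C.W i) ((show fam (inv' C) ⊤ from t).1 i)
  have hpair : ∀ t, ∃ c : A, ∀ i, g i * H t i = cst f (C.W i) c := by
    intro t
    obtain ⟨G, hG, -⟩ := X.sheaf.existsUnique_gluing' C.W ⊤ (fun i => homOfLE le_top)
      C.cover (fun i => g i * H t i) (fun i j => by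
        show rres (inf_le_left : C.W i ⊓ C.W j ≤ C.W i) (g i * H t i) =
          rres (inf_le_right : C.W i ⊓ C.W j ≤ C.W j) (g j * H t j)
        have h1 := isFam_sec (inv' C) t i j
        change rres (inf_le_left : C.W i ⊓ C.W j ≤ C.W i) (H t i) =
          rres (inf_comm (C.W i) (C.W j)).le (C.a j i) * rres (inf_le_right : C.W i ⊓ C.W j ≤ C.W j) (H t j) at h1
        rw [map_mul, map_mul, hg i j, h1]
        linear_combination (rres (inf_le_right : C.W i ⊓ C.W j ≤ C.W j) (g j) *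
          rres (inf_le_right : C.W i ⊓ C.W j ≤ C.W j) (H t j)) * hunit i j)
    obtain ⟨c, rfl⟩ := hconst G
    exact ⟨c, fun i => (hG i).symm.trans (rres_cst f _ c)⟩
  choose c hc using fun k => hpair (m k)
  have hI : ∀ (a : A) (h : ∀ i, Γ(X, C.W i)), a ≠ 0 → (∀ i, g i * h i = cst f (C.W i) a) →
      a ∈ Ideal.span (Set.range c) := by
    intro a h ha hh
    obtain ⟨t, ht⟩ := exists_sec (inv' C) h (hfam a ha h hh)
    obtain ⟨r, rfl⟩ := hm t
    have hH : ∀ i, h i = ∑ k, cst f (C.W i) (r k) * H (m k) i := by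
      intro i
      rw [← ht i]
      let ev : fam (inv' C) ⊤ →+ Γ(X, C.W i) :=
        { toFun := fun t => rres (le_inf le_top le_rfl : C.W i ≤ ⊤ ⊓ C.W i) (t.1 i)
          map_zero' := map_zero _
          map_add' := fun _ _ => map_add _ _ _ }
      refine (map_sum ev (fun k => cst f ⊤ (r k) • (show fam (inv' C) ⊤ from m k)) _).trans
        (Finset.sum_congr rfl fun k _ => ?_)
      refine (map_mul (rres (le_inf le_top le_rfl : C.W i ≤ ⊤ ⊓ C.W i)).hom _ _).trans ?_
      congr 1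
      exact (rres_rres _ _ _).trans (rres_cst f _ _)
    have h1 : cst f (C.W j₀) a = cst f (C.W j₀) (∑ k, r k * c k) := by
      rw [← hh j₀, hH, Finset.mul_sum, map_sum]
      refine Finset.sum_congr rfl fun k _ => ?_
      rw [map_mul, ← hc k j₀]
      ring
    have h2 : a = ∑ k, r k * c k :=
      sub_eq_zero.mp (cst_eq_zero f hj₀ (by rw [map_sub, h1, sub_self]))
    rw [h2]
    exact sum_mem fun k _ => Ideal.mul_mem_left _ _ (Ideal.subset_span ⟨k, rfl⟩)
  obtain ⟨c₁, hc₁, hdvd⟩ := hgen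
  choose h₁ hh₁ using fun i => hdvd i
  have hc₁I := hI c₁ h₁ hc₁ fun i => (hh₁ i).symm
  obtain ⟨c₀, hc₀⟩ := (IsBezout.isPrincipal_of_FG (Ideal.span (Set.range c))
    (Submodule.fg_span (Set.finite_range c))).principal
  replace hc₀ : Ideal.span (Set.range c) = Ideal.span {c₀} := hc₀
  have hc₀ne : c₀ ≠ 0 := by
    rintro rfl
    rw [hc₀, Ideal.mem_span_singleton] at hc₁I
    exact hc₁ (zero_dvd_iff.mp hc₁I)
  obtain ⟨r, hr⟩ : ∃ r : Fin n → A, ∑ k, r k * c k = c₀ :=
    (Ideal.mem_span_range_iff_exists_fun).mp (hc₀.ge (Ideal.mem_span_singleton_self c₀))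
  let h₀ : ∀ i, Γ(X, C.W i) := fun i => ∑ k, cst f (C.W i) (r k) * H (m k) i
  have hgh : ∀ i, g i * h₀ i = cst f (C.W i) c₀ := by
    intro i
    rw [← hr, map_sum, Finset.mul_sum]
    refine Finset.sum_congr rfl fun k _ => ?_
    rw [map_mul, ← hc k i]
    ring
  have hfam₀ := hfam c₀ hc₀ne h₀ hgh
  refine ⟨c₀, h₀, hc₀ne, hfam₀, hgh, ?_⟩
  obtain ⟨i₁, hi₁⟩ : ∃ i, h₀ i ∉ (IsLocalRing.maximalIdeal A).map (cst f (C.W i)) := by
    by_contra hcon
    push Not at hcon
    choose a ha hah using fun i =>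
      letI := (cst f (C.W i)).toAlgebra
      exists_dvd_of_mem_map (A := A) (B := Γ(X, C.W i)) (hcon i)
    obtain ⟨d, hd, hdvd'⟩ := exists_common_dvd Finset.univ a fun i _ => ha i
    have hdh : ∀ i, cst f (C.W i) d ∣ h₀ i := fun i =>
      (map_dvd _ (hdvd' i (Finset.mem_univ i))).trans (hah i)
    choose h' hh' using hdh
    -- `d` divides `c₀`
    obtain ⟨c', hc'⟩ : d ∣ c₀ := by
      rcases ValuationRing.dvd_total d c₀ with h | ⟨e, he⟩
      · exact h
      · have h3 : cst f (C.W j₀) c₀ * 1 =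
            cst f (C.W j₀) c₀ * (cst f (C.W j₀) e * (g j₀ * h' j₀)) := by
          rw [mul_one, ← mul_assoc, ← map_mul, ← he]
          conv_lhs => rw [← hgh, hh']
          ring
        have h4 : IsUnit (cst f (C.W j₀) e) := IsUnit.of_mul_eq_one _ (cst_mul_cancel f hc₀ne h3).symm
        obtain ⟨v, rfl⟩ := isLocalHom_germ f hj₀ hfξ (h4.map _)
        exact ⟨↑v⁻¹, by rw [he, mul_assoc, Units.mul_inv, mul_one]⟩
    have hdne : d ≠ 0 := by
      rintro rfl
      exact hc₀ne (by rw [hc', zero_mul])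
    have hc'I := hI c' h' (by rintro rfl; exact hc₀ne (by rw [hc', mul_zero])) fun i => by
      refine cst_mul_cancel f hdne ?_
      rw [← map_mul, ← hc', ← hgh i, hh' i]
      ring
    rw [hc₀, Ideal.mem_span_singleton] at hc'I
    obtain ⟨e, he⟩ := hc'I
    have hde : d * e = 1 := by
      refine mul_left_cancel₀ hc₀ne ?_
      rw [mul_one]
      linear_combination -hc' - d * he
    exact hd (IsUnit.of_mul_eq_one _ hde)
  obtain ⟨hξ₁, hu₁⟩ := isUnit_germ_of_notMem f hξ (haff i₁) hi₁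
  intro i hi
  have key := congrArg (X.presheaf.germ (C.W i₁ ⊓ C.W i) ξ ⟨hξ₁, hi⟩).hom (hfam₀ i₁ i)
  rw [map_mul] at key
  erw [TopCat.Presheaf.germ_res_apply, TopCat.Presheaf.germ_res_apply] at key
  have h5 := isUnit_of_mul_isUnit_right (key ▸ hu₁)
  convert h5 using 1
  exact (TopCat.Presheaf.germ_res_apply X.presheaf
    (homOfLE (inf_le_right : C.W i₁ ⊓ C.W i ≤ C.W i)) ξ ⟨hξ₁, hi⟩ (h₀ i)).symm

end Groth.Agent.FlatMor.LineValuation
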