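import Groth.Agent.ProjBundleLib.PnAmple
import Groth.Agent.ProjMor.QProj
import Groth.Agent.AmpleLib.CompLemma
import Groth.Agent.S2331
import Mathlib.AlgebraicGeometry.Morphisms.Proper

/-!
# Projective embeddings over a base with an ample module
-/

set_option autoImplicit false

universe u

open CategoryTheory Limits AlgebraicGeometry

noncomputable section

namespace Groth.Agent.FlatMor.AmpleBase

variable {X S : Scheme.{u}}

/-- A source with a relatively ample module over a base with an ample one has an ample one. -/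
theorem exists_ample (hS : ∃ N : S.Modules, CohB1.IsAmple N) (f : X ⟶ S) {L : X.Modules}
    (hL : RelAmple.IsRelAmple f L) : ∃ M : X.Modules, CohB1.IsAmple M := by
  obtain ⟨N, hN⟩ := hS
  have : CompactSpace S := hN.2.1
  have : QuasiCompact f := hL.1
  obtain ⟨n₀, -, h⟩ := Groth.Agent.S2331.result f (terminal.from S) L N hL
    (AmpleLib.isRelAmple_of_isAmple _ hN)
  refine ⟨_, (AmpleLib.isRelAmple_iff_isAmple (f ≫ terminal.from S)).1 (h n₀ le_rfl)⟩

theorem exists_ample_of_immersion (hS : ∃ N : S.Modules, CohB1.IsAmple N) (f : X ⟶ S) {n : ℕ}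
    (i : X ⟶ CohB1.ProjSpaceOver n S) [IsImmersion i] [QuasiCompact i]
    (hi : i ≫ CohB1.ProjSpaceOver.toBase n S = f) :
    LocallyOfFiniteType f ∧ QuasiCompact f ∧ ∃ M : X.Modules, CohB1.IsAmple M := by
  subst hi
  have := Groth.Agent.ProjProper.Basic.isProper_toBase n S
  refine ⟨inferInstance, inferInstance, ?_⟩
  obtain ⟨-, -, L, hL⟩ := ProjMor.isQuasiProjective_of_immersion _ n i rfl
  exact exists_ample hS _ hL

theorem exists_immersion (f : X ⟶ S) [LocallyOfFiniteType f] [QuasiCompact f] {L : X.Modules}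
    (hL : CohB1.IsAmple L) :
    ∃ (n : ℕ) (i : X ⟶ CohB1.ProjSpaceOver n S), IsImmersion i ∧ QuasiCompact i ∧
      i ≫ CohB1.ProjSpaceOver.toBase n S = f := by
  obtain ⟨d₀, -, hd⟩ := ProjBundleLib.eventually_veryAmplePn_of_isAmple f hL
  obtain ⟨n, i, hi, hif, -⟩ := hd d₀ le_rfl
  have := Groth.Agent.ProjProper.Basic.isProper_toBase n S
  have : QuasiCompact (i ≫ CohB1.ProjSpaceOver.toBase n S) := by
    rw [show i ≫ CohB1.ProjSpaceOver.toBase n S = f from hif]; infer_instance
  exact ⟨n, i, hi, QuasiCompact.of_comp i (CohB1.ProjSpaceOver.toBase n S), hif⟩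

theorem isClosedImmersion_of_comp_proper {n : ℕ} (i : X ⟶ CohB1.ProjSpaceOver n S) [IsImmersion i]
    [IsProper (i ≫ CohB1.ProjSpaceOver.toBase n S)] : IsClosedImmersion i := by
  have := Groth.Agent.ProjProper.Basic.isProper_toBase n S
  have : IsProper i := IsProper.of_comp i (CohB1.ProjSpaceOver.toBase n S)
  exact IsClosedImmersion.of_isPreimmersion i i.isClosedMap.isClosed_range

end Groth.Agent.FlatMor.AmpleBase
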