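import Groth.Agent.AmpleDesc.FibreLocus
import Groth.Agent.S2079
import Groth.Agent.AmpleLib.Rel

/-!
# Ampleness near a fibre with ample restriction, proper morphisms of finite type
-/

set_option autoImplicit false
set_option linter.style.haveILetI false
set_option backward.isDefEq.respectTransparency.types false
set_option backward.isDefEq.respectTransparency false

universe u

open CategoryTheory CategoryTheory.Limits AlgebraicGeometry TopologicalSpace

noncomputable section

namespace Groth.Agent.FlatMor.AmpleNear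

open AmpleDesc AmpleLib FibreIndCons

variable {X Y : Scheme.{u}}

theorem isInvertible_restrict' {L : X.Modules} (hL : PicF.IsInvertible L) (W : X.Opens) :
    PicF.IsInvertible (L.restrict W.ι) :=
  PicCl.isInvertible_of_iso ((Scheme.Modules.restrictFunctorIsoPullback W.ι).app L).symm
    (PicCl.isInvertible_pullback W.ι hL)

theorem isAmple_comp_iso {A B C : Scheme.{u}} {p : A ⟶ B} {q : B ⟶ C} {r : A ⟶ C} (e : p ≫ q = r)
    (L : C.Modules) : CohB1.IsAmple ((Scheme.Modules.pullback p).obj ((Scheme.Modules.pullback q).obj L)) ↔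
      CohB1.IsAmple ((Scheme.Modules.pullback r).obj L) := by
  subst e
  exact ⟨AmpleLib.isAmple_of_iso ((Scheme.Modules.pullbackComp p q).app L),
    AmpleLib.isAmple_of_iso ((Scheme.Modules.pullbackComp p q).app L).symm⟩

theorem ampAt_iff (f : X ⟶ Y) [QuasiCompact f] (L : X.Modules) (y : Y) :
    AmpAt f L y ↔ CohB1.IsAmple ((Scheme.Modules.pullback (pullback.fst f (Y.fromSpecResidueField y))).obj L) :=
  haveI : QuasiCompact (pullback.snd f (Y.fromSpecResidueField y)) := MorphismProperty.pullback_snd _ _ inferInstance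
  AmpleLib.isRelAmple_iff_isAmple _

theorem ampleOn_pullback_iso {X' : Scheme.{u}} (e : X' ⟶ X) [IsIso e] {L : X.Modules}
    (hL : PicF.IsInvertible L) (W : X.Opens) (h : AmpleOn ((Scheme.Modules.pullback e).obj L) (e ⁻¹ᵁ W)) :
    AmpleOn L W := by
  rw [← isAmple_restrict_iff (PicCl.isInvertible_pullback e hL)] at h
  have h' : CohB1.IsAmple ((Scheme.Modules.pullback ((e ⁻¹ᵁ W).ι ≫ e)).obj L) :=
    (isAmple_comp_iso rfl L).1
      (AmpleLib.isAmple_of_iso ((Scheme.Modules.restrictFunctorIsoPullback _).app _) h)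
  rw [AmpleLib.isAmple_pullback_openImmersion_iff hL] at h'
  rwa [Scheme.Hom.opensRange_comp, Scheme.Opens.opensRange_ι, Scheme.Hom.image_preimage_eq_opensRange_inf,
    Scheme.Hom.opensRange_of_isIso, top_inf_eq] at h'

/-- Approximation by a proper finitely presented scheme, over an affine base. -/
theorem exists_ampleOn_of_over {I : Type u} [SmallCategory I] [IsCofiltered I] [IsAffine Y]
    {D : I ⥤ Over Y} {c : Cone D} (hc : IsLimit c)
    (htrans : ∀ (i j : I) (a : i ⟶ j), IsClosedImmersion (D.map a).left)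
    (hD : ∀ i, IsClosedImmersion (c.π.app i).left ∧ IsProper (D.obj i).hom ∧
        LocallyOfFinitePresentation (D.obj i).hom)
    [IsProper c.pt.hom]
    {L : c.pt.left.Modules} (hL : PicF.IsInvertible L) (y : Y) (hy : AmpAt c.pt.hom L y) :
    ∃ U : Y.Opens, IsAffineOpen U ∧ y ∈ U ∧ AmpleOn L (c.pt.hom ⁻¹ᵁ U) := by
  let E := D ⋙ Over.forget Y
  let C := (Over.forget Y).mapCone c
  have hC : IsLimit C := (LimLib.isLimitForget hc).some
  haveI hEa : ∀ (i j : I) (a : i ⟶ j), IsAffineHom (E.map a) := fun i j a =>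
    have := htrans i j a
    inferInstanceAs (IsAffineHom (D.map a).left)
  haveI : ∀ i, IsProper (D.obj i).hom := fun i => (hD i).2.1
  haveI hEc : ∀ i, CompactSpace (E.obj i) := fun i =>
    QuasiCompact.compactSpace_of_compactSpace (D.obj i).hom
  haveI hEq : ∀ i, QuasiSeparatedSpace (E.obj i) := fun i =>
    quasiSeparatedSpace_of_quasiSeparated (D.obj i).hom
  obtain ⟨i₀⟩ := IsCofiltered.nonempty (C := I)
  obtain ⟨j, -, G, hG, ⟨ι⟩⟩ := exists_invertible_model hC i₀ L hL
  let p := Y.fromSpecResidueField y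
  let Y₀ := pullback (D.obj j).hom p
  let g₀ : Y₀ ⟶ E.obj j := pullback.fst _ _
  let g := pullback.fst c.pt.hom p
  let qY : pullback c.pt.hom p ⟶ Y₀ := pullback.lift (g ≫ (c.π.app j).left) (pullback.snd _ _)
    (by rw [Category.assoc, Over.w]; exact pullback.condition)
  have hY : IsPullback qY g g₀ (C.π.app j) := by
    refine IsPullback.of_right (h₁₂ := pullback.snd (D.obj j).hom p) (v₁₃ := p) (h₂₂ := (D.obj j).hom) ?_
      (pullback.lift_fst _ _ _) (IsPullback.of_hasPullback (D.obj j).hom p).flip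
    have e1 : qY ≫ pullback.snd (D.obj j).hom p = pullback.snd c.pt.hom p := pullback.lift_snd _ _ _
    erw [e1, Over.w (c.π.app j)]
    exact (IsPullback.of_hasPullback c.pt.hom p).flip
  haveI : CompactSpace Y₀ := QuasiCompact.compactSpace_of_compactSpace (pullback.snd (D.obj j).hom p)
  haveI : QuasiSeparatedSpace Y₀ := quasiSeparatedSpace_of_quasiSeparated (pullback.snd (D.obj j).hom p)
  haveI : ∀ k : Over j, IsAffineHom (E.map k.hom) := fun k => hEa _ _ _
  haveI : ∀ k : Over j, CompactSpace ((LimLib.bcDiag E j g₀).obj k) := fun k =>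
    QuasiCompact.compactSpace_of_compactSpace (pullback.fst g₀ (E.map k.hom))
  haveI : ∀ k : Over j, QuasiSeparatedSpace ((LimLib.bcDiag E j g₀).obj k) := fun k =>
    quasiSeparatedSpace_of_quasiSeparated (pullback.fst g₀ (E.map k.hom))
  let i₁ : Over j := Over.mk (𝟙 j)
  let r : (LimLib.bcDiag E j g₀).obj i₁ ⟶ E.obj j := pullback.fst g₀ (E.map i₁.hom) ≫ g₀
  have hu : (LimLib.bcCone (c := C) hY).π.app i₁ ≫ r = g ≫ C.π.app j := by
    refine (Category.assoc _ _ _).symm.trans ?_
    refine (congrArg (· ≫ g₀) (show (LimLib.bcCone (c := C) hY).π.app i₁ ≫ pullback.fst g₀ (E.map i₁.hom) = qY from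
      pullback.lift_fst _ _ _)).trans hY.w
  have h0 : CohB1.IsAmple ((Scheme.Modules.pullback (g ≫ C.π.app j)).obj G) :=
    (isAmple_comp_iso rfl G).1 (AmpleLib.isAmple_of_iso ((Scheme.Modules.pullback g).mapIso ι.symm)
      ((ampAt_iff c.pt.hom L y).1 hy))
  obtain ⟨k, hk⟩ := exists_isAmple_descend (LimLib.isLimitBcCone (c := C) hC hY) (i₀ := i₁)
    (PicCl.isInvertible_pullback r hG) ((isAmple_comp_iso hu G).2 h0)
  let m : I := k.left.left
  let φ : m ⟶ j := k.left.hom
  let Gm := (Scheme.Modules.pullback (E.map φ)).obj G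
  have hGm : PicF.IsInvertible Gm := PicCl.isInvertible_pullback _ hG
  have hsq : IsPullback (pullback.snd g₀ (E.map φ)) (pullback.fst g₀ (E.map φ) ≫ pullback.snd (D.obj j).hom p)
      (D.obj m).hom p := by
    have h1 : IsPullback (pullback.fst g₀ (E.map φ) ≫ pullback.snd (D.obj j).hom p) (pullback.snd g₀ (E.map φ))
        p (E.map φ ≫ (D.obj j).hom) :=
      (IsPullback.of_hasPullback g₀ (E.map φ)).paste_horiz (IsPullback.of_hasPullback (D.obj j).hom p).flip
    rw [show E.map φ ≫ (D.obj j).hom = (D.obj m).hom from Over.w (D.map φ)] at h1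
    exact h1.flip
  have hAm : AmpAt (D.obj m).hom Gm y := by
    rw [ampAt_iff]
    let φ' := hsq.isoPullback
    have h3 : CohB1.IsAmple ((Scheme.Modules.pullback (pullback.snd g₀ (E.map φ))).obj Gm) := by
      have h2 := (isAmple_comp_iso rfl G).1 hk
      refine (isAmple_comp_iso rfl G).2 ?_
      have e : ((LimLib.bcDiag E j g₀).map k.hom) ≫ r = pullback.snd g₀ (E.map φ) ≫ E.map φ := by
        refine ((Category.assoc _ _ _).symm.trans ?_).trans pullback.condition
        exact congrArg (· ≫ g₀) (pullback.lift_fst _ _ _)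
      rw [← e]
      exact h2
    have h4 := AmpleLib.isAmple_pullback_of_isInducing φ'.inv
      (L := (Scheme.Modules.pullback (pullback.snd g₀ (E.map φ))).obj Gm)
    haveI : CompactSpace ↑(pullback (D.obj m).hom p) :=
      QuasiCompact.compactSpace_of_compactSpace (pullback.snd (D.obj m).hom p)
    exact (isAmple_comp_iso hsq.isoPullback_inv_fst Gm).1 (h4 φ'.inv.homeomorph.isInducing h3)
  haveI := (hD m).2.2
  obtain ⟨hopen, -, -⟩ := ampAt_of_isAffine (D.obj m).hom hGm
  obtain ⟨U, hU, hyU, hUA⟩ := exists_isAffineOpen_mem_and_subset (X := Y) (x := y) (U := ⟨_, hopen⟩) hAm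
  refine ⟨U, hU, hyU, ?_⟩
  haveI : IsAffine U.toScheme := hU
  haveI : IsProper ((D.obj m).hom ∣_ U) :=
    MorphismProperty.of_isPullback (isPullback_morphismRestrict _ U).flip inferInstance
  haveI : LocallyOfFinitePresentation ((D.obj m).hom ∣_ U) :=
    MorphismProperty.of_isPullback (isPullback_morphismRestrict _ U).flip (hD m).2.2
  have hrel := (ampAt_of_isAffine ((D.obj m).hom ∣_ U) (isInvertible_restrict' hGm _)).2.2
    fun w => (ampAt_restrict hGm U w).2 (hUA w.2)
  have hon : AmpleOn Gm ((D.obj m).hom ⁻¹ᵁ U) :=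
    (isAmple_restrict_iff hGm _).1 ((AmpleLib.isRelAmple_iff_isAmple _).1 hrel)
  have := (hD m).1
  have e' : (c.π.app m).left ⁻¹ᵁ ((D.obj m).hom ⁻¹ᵁ U) = c.pt.hom ⁻¹ᵁ U := by
    rw [← Scheme.Hom.comp_preimage, Over.w]
    rfl
  have h5 := AmpleLib.ampleOn_pullback_of_isInducing hGm (c.π.app m).left (O' := c.pt.hom ⁻¹ᵁ U) e'.ge hon
    (QuasiCompact.isCompact_preimage (f := c.pt.hom) _ U.2 hU.isCompact) (c.π.app m).left.isEmbedding.isInducing
  refine AmpleLib.ampleOn_of_iso ?_ h5
  exact (Scheme.Modules.pullbackComp _ _).app G ≪≫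
    (Scheme.Modules.pullbackCongr (C.w φ)).app G ≪≫ ι

theorem exists_ampleOn_affineBase [IsAffine Y] (f : X ⟶ Y) [IsProper f] {L : X.Modules}
    (hL : PicF.IsInvertible L) (y : Y) (hy : AmpAt f L y) :
    ∃ U : Y.Opens, IsAffineOpen U ∧ y ∈ U ∧ AmpleOn L (f ⁻¹ᵁ U) := by
  obtain ⟨I, _, _, D, c, hc, e, htrans, hD⟩ := Groth.Agent.S2079.result f
  haveI : IsIso e.hom.left := inferInstanceAs (IsIso ((Over.forget Y).map e.hom))
  have hw : e.hom.left ≫ f = c.pt.hom := Over.w e.hom
  haveI : IsProper c.pt.hom := by rw [← hw]; infer_instance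
  have sq : IsPullback e.hom.left c.pt.hom f (𝟙 Y) :=
    IsPullback.of_horiz_isIso ⟨by rw [Category.comp_id, hw]⟩
  obtain ⟨U, hU, hyU, hA⟩ := exists_ampleOn_of_over hc htrans hD (PicCl.isInvertible_pullback e.hom.left hL) y
    ((ampAt_preimage sq hL y).2 hy)
  refine ⟨U, hU, hyU, ampleOn_pullback_iso e.hom.left hL _ ?_⟩
  rwa [← Scheme.Hom.comp_preimage, hw]

/-- An invertible module ample on a fibre of a proper morphism is relatively ample near it. -/
theorem exists_isRelAmple (f : X ⟶ Y) [IsProper f] {L : X.Modules} (hL : PicF.IsInvertible L) (y : Y)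
    (hy : CohB1.IsAmple ((Scheme.Modules.pullback (f.fiberι y)).obj L)) :
    ∃ V : Y.Opens, y ∈ V ∧ RelAmple.IsRelAmple (f ∣_ V) (L.restrict (f ⁻¹ᵁ V).ι) := by
  obtain ⟨W, hW, hyW, -⟩ := exists_isAffineOpen_mem_and_subset (x := y) (U := ⊤) trivial
  haveI : IsAffine W.toScheme := hW
  haveI : IsProper (f ∣_ W) := MorphismProperty.of_isPullback (isPullback_morphismRestrict f W).flip ‹_›
  obtain ⟨U, hU, hyU, hA⟩ := exists_ampleOn_affineBase (f ∣_ W) (isInvertible_restrict' hL _) ⟨y, hyW⟩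
    ((ampAt_restrict hL W ⟨y, hyW⟩).2 ((ampAt_iff_isAmple y).2 hy))
  let V := W.ι ''ᵁ U
  refine ⟨V, ⟨⟨y, hyW⟩, hyU, rfl⟩, ?_⟩
  haveI : IsAffine V.toScheme := hU.image_of_isOpenImmersion W.ι
  haveI : IsProper (f ∣_ V) := MorphismProperty.of_isPullback (isPullback_morphismRestrict f V).flip ‹_›
  rw [AmpleLib.isRelAmple_iff_isAmple, isAmple_restrict_iff hL]
  rw [← isAmple_restrict_iff (isInvertible_restrict' hL _)] at hA
  let a := ((f ∣_ W) ⁻¹ᵁ U).ι ≫ (f ⁻¹ᵁ W).ι
  have h1 : CohB1.IsAmple ((Scheme.Modules.pullback a).obj L) := by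
    refine (isAmple_comp_iso rfl L).1 (AmpleLib.isAmple_of_iso ?_ hA)
    exact (Scheme.Modules.restrictFunctorIsoPullback _).app _ ≪≫
      (Scheme.Modules.pullback _).mapIso ((Scheme.Modules.restrictFunctorIsoPullback _).app L)
  rw [AmpleLib.isAmple_pullback_openImmersion_iff hL] at h1
  convert h1 using 1
  simp only [a, Scheme.Hom.opensRange_comp, Scheme.Opens.opensRange_ι]
  exact (image_morphismRestrict_preimage f W U).symm

end Groth.Agent.FlatMor.AmpleNear
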