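import Groth.Agent.Omega.StalkConormal
import Groth.Agent.Omega.Thick
import Mathlib.AlgebraicGeometry.Morphisms.ClosedImmersion

/-!
A first order thickening with zero conormal sheaf is an isomorphism.
-/

universe u

open AlgebraicGeometry CategoryTheory Limits TopologicalSpace TensorProduct
open Groth.Agent.Omega.Stalks OmegaSh Groth.Agent.Omega.Basic Groth.Agent.PullStalk.Sky Groth.Agent.PullStalk.Exact

namespace Groth.Agent.FlatMor.ConormalZero

variable {Z X : Scheme.{u}} (i : Z ⟶ X)

theorem isZero_conormal [IsIso i] : IsZero (Omega.conormal i) := by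
  refine Functor.map_isZero (Scheme.Modules.pullback i) ?_
  have h : i.ker = ⊥ := i.ker_eq_bot_of_isIso
  rw [h]
  have hι : IsIso (Scheme.IdealSheafData.subschemeι (⊥ : X.IdealSheafData)) := inferInstance
  have hm : Mono (ClSub.toSubscheme (⊥ : X.IdealSheafData)) := by
    refine Preadditive.mono_of_cancel_zero _ fun g hg => ?_
    ext U m
    have := congrArg (fun φ => φ.app U m) hg
    exact (ConcreteCategory.bijective_of_isIso ((Scheme.IdealSheafData.subschemeι (⊥ : X.IdealSheafData)).app U)).1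
      (this.trans (map_zero _).symm)
  exact IsZero.of_iso (isZero_zero _) (kernel.ofMono (ClSub.toSubscheme (⊥ : X.IdealSheafData)))

/-- The kernel of the stalk map of a first order thickening squares to zero. -/
theorem mul_eq_zero [IsClosedImmersion i] (h : i.ker * i.ker = ⊥) (z : Z)
    {a b : X.presheaf.stalk (i z)} (ha : i.stalkMap z a = 0) (hb : i.stalkMap z b = 0) : a * b = 0 := by
  have key : ∀ c : X.presheaf.stalk (i z), i.stalkMap z c = 0 → ∃ (U : X.Opens) (hx : i z ∈ U)
      (s : Γ(X, U)), X.presheaf.germ U (i z) hx s = c ∧ i.app U s = 0 := by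
    intro c hc
    obtain ⟨U, hx, s, rfl⟩ := X.presheaf.exists_germ_eq c
    rw [Scheme.Hom.germ_stalkMap_apply] at hc
    obtain ⟨W, hzW, iW, iW', hW⟩ := Z.presheaf.germ_eq (U := i ⁻¹ᵁ U) (V := i ⁻¹ᵁ U) z hx hx (i.app U s) 0 (hc.trans (map_zero _).symm)
    obtain ⟨O, hO, hOW⟩ := i.isEmbedding.isInducing.isOpen_iff.mp W.isOpen
    let U' : X.Opens := U ⊓ ⟨O, hO⟩
    have hx' : i z ∈ U' := ⟨hx, (Set.ext_iff.mp hOW z).mpr hzW⟩
    refine ⟨U', hx', X.presheaf.map (homOfLE inf_le_left).op s, X.presheaf.germ_res_apply _ _ _ _, ?_⟩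
    have hle : i ⁻¹ᵁ U' ≤ W := fun y hy => (Set.ext_iff.mp hOW y).mp hy.2
    rw [← CommRingCat.comp_apply, Scheme.Hom.naturality, CommRingCat.comp_apply]
    have h2 := congrArg (Z.presheaf.map (homOfLE hle).op) hW
    rw [map_zero, map_zero, ← CommRingCat.comp_apply, ← Functor.map_comp] at h2
    exact h2
  obtain ⟨U, hU, s, rfl, hs⟩ := key a ha
  obtain ⟨U', hU', t, rfl, ht⟩ := key b hb
  obtain ⟨_, ⟨V, hV, rfl⟩, hzV, hVle⟩ := X.isBasis_affineOpens.exists_subset_of_mem_open
    (show i z ∈ ((U ⊓ U' : X.Opens) : Set X) from ⟨hU, hU'⟩) (U ⊓ U').isOpen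
  have e1 : V ≤ U := fun y hy => (hVle hy).1
  have e2 : V ≤ U' := fun y hy => (hVle hy).2
  have hm : ∀ {U₀ : X.Opens} (e : V ≤ U₀) (r : Γ(X, U₀)), i.app U₀ r = 0 →
      X.presheaf.map (homOfLE e).op r ∈ RingHom.ker (i.app V).hom := fun e r hr => by
    rw [RingHom.mem_ker]
    show (X.presheaf.map (homOfLE e).op ≫ i.app V) r = 0
    rw [Scheme.Hom.naturality, CommRingCat.comp_apply, hr, map_zero]
  have h0 := Groth.Agent.Omega.Thick.ker_app_sq i h hV
  have : X.presheaf.map (homOfLE e1).op s * X.presheaf.map (homOfLE e2).op t = 0 := by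
    rw [← Ideal.mem_bot, ← h0, pow_two]
    exact Ideal.mul_mem_mul (hm e1 s hs) (hm e2 t ht)
  have h3 := congrArg (X.presheaf.germ V (i z) hzV) this
  rwa [map_mul, map_zero, TopCat.Presheaf.germ_res_apply, TopCat.Presheaf.germ_res_apply] at h3

/-- A first order thickening with zero conormal sheaf is an isomorphism. -/
theorem isIso_of_isZero [QuasiCompact i] [IsClosedImmersion i] [Surjective i]
    (h : i.ker * i.ker = ⊥) (h0 : IsZero (Omega.conormal i)) : IsIso i := by
  have hinj : ∀ z, Function.Injective (i.stalkMap z) := by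
    intro z
    rw [injective_iff_map_eq_zero]
    intro a ha
    obtain ⟨κ, -, -, hu⟩ := Groth.Agent.Omega.StalkConormal.exists_conormal i z i.isEmbedding.isInducing
    let _ : Algebra (X.presheaf.stalk (i z)) (Z.presheaf.stalk z) := (i.stalkMap z).hom.toAlgebra
    let K := RingHom.ker (i.stalkMap z).hom
    let k : K →+ Z.presheaf.stalk z ⊗[X.presheaf.stalk (i z)] K :=
      (TensorProduct.mk (X.presheaf.stalk (i z)) (Z.presheaf.stalk z) K 1).toAddMonoidHom
    obtain ⟨l, hl, -⟩ := hu _ k fun b a => by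
      show (1 : Z.presheaf.stalk z) ⊗ₜ (b • a) = algebraMap _ (Z.presheaf.stalk z) b • (1 ⊗ₜ a)
      rw [algebraMap_smul, TensorProduct.tmul_smul]
    have hz : ∀ a : K, k a = 0 := fun a => by
      rw [← hl a]
      have : Subsingleton ((Omega.conormal i).presheaf.stalk z) := by
        refine subsingleton_of_forall_eq 0 fun t => ?_
        obtain ⟨U, hx, m, rfl⟩ := exists_germM_eq (Omega.conormal i) z t
        have : stalkLin (𝟙 (Omega.conormal i)) z
            (germM (Omega.conormal i) U z hx m) = 0 := by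
          rw [h0.eq_of_src (𝟙 _) 0, stalkLin_zero]
        rw [stalkLin_germ] at this
        exact this
      rw [Subsingleton.elim (κ a) 0, map_zero]
    have hKK : ∀ b, i.stalkMap z b = 0 → ∀ c : K, b • c = 0 := fun b hb c =>
      Subtype.ext (mul_eq_zero i h z hb c.2)
    let π := Algebra.linearMap (X.presheaf.stalk (i z)) (Z.presheaf.stalk z)
    have hle : LinearMap.ker π ≤ LinearMap.ker (LinearMap.lsmul (X.presheaf.stalk (i z)) K) :=
      fun b hb => LinearMap.ext fun c => hKK b hb c
    let e := LinearMap.quotKerEquivOfSurjective π (i.stalkMap_surjective z)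
    let β : Z.presheaf.stalk z →ₗ[X.presheaf.stalk (i z)] (K →ₗ[X.presheaf.stalk (i z)] K) :=
      (Submodule.liftQ (LinearMap.ker π) (LinearMap.lsmul _ K) hle).comp e.symm.toLinearMap
    have hβ1 : β 1 = LinearMap.id := by
      have h2 : e.symm 1 = Submodule.Quotient.mk 1 := by
        rw [LinearEquiv.symm_apply_eq]
        exact (map_one (algebraMap (X.presheaf.stalk (i z)) (Z.presheaf.stalk z))).symm
      refine LinearMap.ext fun c => ?_
      show Submodule.liftQ (LinearMap.ker π) (LinearMap.lsmul _ K) hle (e.symm 1) c = c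
      rw [h2, Submodule.liftQ_apply]
      exact one_smul _ c
    have h1 := congrArg (TensorProduct.lift β) (hz ⟨a, ha⟩)
    rw [map_zero] at h1
    change β 1 ⟨a, ha⟩ = 0 at h1
    rw [hβ1] at h1
    exact congrArg Subtype.val h1
  have hh : IsHomeomorph i := Groth.Agent.Thick.Topo.isHomeomorph i
  rw [isIso_iff_isIso_stalkMap]
  refine ⟨(TopCat.isIso_iff_isHomeomorph i.base).mpr hh, fun z => ?_⟩
  exact (ConcreteCategory.isIso_iff_bijective _).mpr ⟨hinj z, i.stalkMap_surjective z⟩

end Groth.Agent.FlatMor.ConormalZero
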