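import Groth.Agent.FlatMor.GenericPts
import Mathlib.AlgebraicGeometry.Morphisms.Immersion
import Mathlib.AlgebraicGeometry.Morphisms.Separated

/-!
Separated morphisms restricting to (open) immersions on the members of a cover by dense opens.
-/

universe u

open AlgebraicGeometry CategoryTheory Limits TopologicalSpace Topology

namespace Groth.Agent.FlatMor.DenseOpens

variable {X Y : Scheme.{u}} (f : X ⟶ Y) {ι : Type u} (U : ι → X.Opens)

theorem injective [IsSeparated f] (hfin : (irreducibleComponents (X : Type u)).Finite)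
    (hU : ⨆ i, U i = ⊤) (hd : ∀ i, Dense (U i : Set X)) (h : ∀ i, IsImmersion ((U i).ι ≫ f)) :
    Function.Injective f.base := by
  intro x x' hxx
  obtain ⟨i, hi⟩ := Opens.mem_iSup.mp (show x ∈ ⨆ i, U i from hU.symm ▸ Opens.mem_top x)
  obtain ⟨j, hj⟩ := Opens.mem_iSup.mp (show x' ∈ ⨆ i, U i from hU.symm ▸ Opens.mem_top x')
  obtain ⟨η, hη, hηx⟩ := GenericPts.exists_generic_specializes x
  have hηi : η ∈ U i := GenericPts.mem_of_dense_of_finite hfin (U i).2 (hd i) hη
  have hηj : η ∈ U j := GenericPts.mem_of_dense_of_finite hfin (U j).2 (hd j) hη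
  have := h i
  have := h j
  let a := (U i).ι ≫ f
  let b := (U j).ι ≫ f
  obtain ⟨z, hz1, hz2⟩ := Scheme.Pullback.exists_preimage_pullback (f := a) (g := b) ⟨x, hi⟩ ⟨x', hj⟩
    (by simpa [a, b] using hxx)
  let l : ↑(U i ⊓ U j) ⟶ pullback a b :=
    pullback.lift (X.homOfLE inf_le_left) (X.homOfLE inf_le_right) (by simp [a, b])
  let m : pullback a b ⟶ pullback f f := pullback.map a b f f (U i).ι (U j).ι (𝟙 _) (by simp [a]) (by simp [b])
  have hlm : l ≫ m = (U i ⊓ U j).ι ≫ pullback.diagonal f := by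
    apply pullback.hom_ext
    · rw [Category.assoc, Category.assoc, pullback.diagonal_fst, Category.comp_id]
      simp only [m]
      erw [pullback.lift_fst]
      rw [← Category.assoc]
      erw [pullback.lift_fst]
      exact X.homOfLE_ι _
    · rw [Category.assoc, Category.assoc, pullback.diagonal_snd, Category.comp_id]
      simp only [m]
      erw [pullback.lift_snd]
      rw [← Category.assoc]
      erw [pullback.lift_snd]
      exact X.homOfLE_ι _
  have hemb : IsEmbedding (pullback.fst a b ≫ a).base := Scheme.Hom.isEmbedding _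
  let t₀ := l.base ⟨η, hηi, hηj⟩
  have hspec : t₀ ⤳ z := by
    rw [← hemb.isInducing.specializes_iff]
    have h1 : (pullback.fst a b ≫ a).base t₀ = f.base η := by
      have he : l ≫ pullback.fst a b ≫ a = (U i ⊓ U j).ι ≫ f := by
        simp only [l, a]
        rw [pullback.lift_fst_assoc, Scheme.homOfLE_ι_assoc]
      show (l ≫ pullback.fst a b ≫ a).base ⟨η, hηi, hηj⟩ = f.base η
      rw [he]; rfl
    have h2 : (pullback.fst a b ≫ a).base z = f.base x := by
      rw [Scheme.Hom.comp_apply, hz1]; simp [a]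
    rw [h1, h2]
    exact hηx.map f.continuous
  have h3 : m.base t₀ ∈ Set.range (pullback.diagonal f).base := by
    refine ⟨η, ?_⟩
    show _ = (l ≫ m).base ⟨η, hηi, hηj⟩
    rw [hlm]; rfl
  have h4 : m.base z ∈ Set.range (pullback.diagonal f).base :=
    (hspec.map m.continuous).mem_closed (pullback.diagonal f).isClosedEmbedding.isClosed_range h3
  obtain ⟨w, hw⟩ := h4
  have e1 : w = x := by
    have := congrArg (pullback.fst f f).base hw
    rw [← Scheme.Hom.comp_apply, pullback.diagonal_fst, ← Scheme.Hom.comp_apply] at this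
    simp only [m, pullback.lift_fst, Scheme.Hom.comp_apply, hz1] at this
    exact this
  have e2 : w = x' := by
    have := congrArg (pullback.snd f f).base hw
    rw [← Scheme.Hom.comp_apply, pullback.diagonal_snd, ← Scheme.Hom.comp_apply] at this
    simp only [m, pullback.lift_snd, Scheme.Hom.comp_apply, hz2] at this
    exact this
  exact e1.symm.trans e2

/-- Near each image point the range of `f` is the image of one member, and is closed there. -/
theorem exists_nhd (hfin : (irreducibleComponents (X : Type u)).Finite)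
    {i : ι} (hd : Dense (U i : Set X)) (h : IsImmersion ((U i).ι ≫ f)) {x : X} (hi : x ∈ U i) :
    ∃ V : Set Y, IsOpen V ∧ f.base x ∈ V ∧ (∀ z : X, f.base z ∈ V → ∃ z' ∈ U i, f.base z' = f.base z) ∧
      ∃ Z : Set Y, IsClosed Z ∧ V ∩ Set.range f.base = V ∩ Z := by
  obtain ⟨V, Z, hV, hZ, hVZ⟩ := ((U i).ι ≫ f).isLocallyClosed_range
  have hx : f.base x ∈ V ∩ Z := hVZ ▸ ⟨⟨x, hi⟩, rfl⟩
  have key : ∀ z : X, f.base z ∈ V → f.base z ∈ V ∩ Z := by
    intro z hz
    obtain ⟨η, hη, hηz⟩ := GenericPts.exists_generic_specializes z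
    have hs := hηz.map f.continuous
    have : f.base η ∈ V ∩ Z :=
      hVZ ▸ ⟨⟨η, GenericPts.mem_of_dense_of_finite hfin (U i).2 hd hη⟩, rfl⟩
    exact ⟨hz, hs.mem_closed hZ this.2⟩
  refine ⟨V, hV, hx.1, fun z hz => ?_, Z, hZ, ?_⟩
  · obtain ⟨z', hz'⟩ := (hVZ ▸ key z hz : f.base z ∈ Set.range ((U i).ι ≫ f).base)
    exact ⟨z'.1, z'.2, hz'⟩
  · ext y
    refine ⟨fun ⟨hyV, hy⟩ => ?_, fun hy => ⟨hy.1, ?_⟩⟩
    · obtain ⟨z, rfl⟩ := hy
      exact key z hyV
    · obtain ⟨z', rfl⟩ := (hVZ ▸ hy : y ∈ Set.range ((U i).ι ≫ f).base)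
      exact ⟨z'.1, rfl⟩

variable [IsSeparated f] (hfin : (irreducibleComponents (X : Type u)).Finite)
    (hU : ⨆ i, U i = ⊤) (hd : ∀ i, Dense (U i : Set X)) (h : ∀ i, IsImmersion ((U i).ι ≫ f))

include hfin hU hd h

theorem isEmbedding : IsEmbedding f.base := by
  have hinj := injective f U hfin hU hd h
  refine ⟨isInducing_iff_nhds.mpr fun x => le_antisymm f.continuous.continuousAt.le_comap ?_, hinj⟩
  intro s hs
  obtain ⟨i, hi⟩ := Opens.mem_iSup.mp (show x ∈ ⨆ i, U i from hU.symm ▸ Opens.mem_top x)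
  obtain ⟨V, hV, hxV, hVU, -⟩ := exists_nhd f U hfin (hd i) (h i) hi
  have := h i
  have hs' : (U i).ι.base ⁻¹' s ∈ 𝓝 (⟨x, hi⟩ : (U i).toScheme) :=
    (U i).ι.continuous.continuousAt hs
  erw [((U i).ι ≫ f).isEmbedding.isInducing.nhds_eq_comap, Filter.mem_comap] at hs'
  obtain ⟨t, ht, hts⟩ := hs'
  refine Filter.mem_comap.mpr ⟨t ∩ V, Filter.inter_mem ht (hV.mem_nhds hxV), ?_⟩
  rintro z ⟨hzt, hzV⟩
  obtain ⟨z', hz', he⟩ := hVU z hzV
  obtain rfl := hinj he
  exact hts (show ((U i).ι ≫ f).base ⟨z', hz'⟩ ∈ t from hzt)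

theorem isImmersion : IsImmersion f := by
  have hemb := isEmbedding f U hfin hU hd h
  have hstalk : SurjectiveOnStalks f := ⟨fun x => by
    obtain ⟨i, hi⟩ := Opens.mem_iSup.mp (show x ∈ ⨆ i, U i from hU.symm ▸ Opens.mem_top x)
    have := h i
    let z : (U i).toScheme := ⟨x, hi⟩
    have h1 := ((U i).ι ≫ f).stalkMap_surjective z
    rw [Scheme.Hom.stalkMap_comp] at h1
    replace h1 : Function.Surjective
      (((U i).ι.stalkMap z).hom ∘ (f.stalkMap ((U i).ι z)).hom) := h1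
    exact Function.Surjective.of_comp_left h1
      (ConcreteCategory.bijective_of_isIso ((U i).ι.stalkMap z)).1⟩
  have : IsPreimmersion f := { toSurjectiveOnStalks := hstalk, isEmbedding := hemb }
  refine ⟨?_⟩
  choose i hi using fun x : X => Opens.mem_iSup.mp (show x ∈ ⨆ i, U i from hU.symm ▸ Opens.mem_top x)
  choose V hV hxV hVU Z hZ hVZ using fun x : X => exists_nhd f U hfin (hd (i x)) (h (i x)) (hi x)
  refine ⟨⋃ x, V x, (⋃ x, V x ∩ (Z x)ᶜ)ᶜ, isOpen_iUnion hV,
    (isOpen_iUnion fun x => (hV x).inter (hZ x).isOpen_compl).isClosed_compl, ?_⟩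
  ext y
  constructor
  · rintro ⟨x, rfl⟩
    refine ⟨Set.mem_iUnion.mpr ⟨x, hxV x⟩, ?_⟩
    rw [Set.mem_compl_iff, Set.mem_iUnion]
    rintro ⟨w, hw, hwZ⟩
    exact hwZ (hVZ w ▸ ⟨hw, ⟨x, rfl⟩⟩ : f.base x ∈ V w ∩ Z w).2
  · rintro ⟨hy, hy'⟩
    obtain ⟨x, hx⟩ := Set.mem_iUnion.mp hy
    have : y ∈ V x ∩ Z x := ⟨hx, by
      by_contra hn; exact hy' (Set.mem_iUnion.mpr ⟨x, hx, hn⟩)⟩
    exact ((hVZ x).symm ▸ this : y ∈ V x ∩ Set.range f.base).2

end Groth.Agent.FlatMor.DenseOpens
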