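import Groth.Agent.FlatMor.EtRadStrat
import Groth.Agent.LimLib.Props
import Groth.Agent.LimLib.Model
import Groth.Agent.LimLib.Smooth
import Groth.Agent.EGA43Lim.Basic
import Groth.Agent.FlatDescends.Basic
import Mathlib.FieldTheory.PurelyInseparable.Basic
import Mathlib.AlgebraicGeometry.Morphisms.UniversallyInjective
import Mathlib

/-!
# Finite étale then finite radicial sections over strata
-/

set_option autoImplicit false
set_option linter.style.haveILetI false
set_option maxHeartbeats 1600000
set_option synthInstance.maxHeartbeats 200000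
set_option backward.isDefEq.respectTransparency false
set_option backward.defeqAttrib.useBackward true

universe u

open CategoryTheory CategoryTheory.Limits AlgebraicGeometry Topology Opposite MorphismProperty

noncomputable section

namespace Groth.Agent.FlatMor.EtRadFin

open Groth.Agent.FlatMor.EtRad (key descends_inf descends_universallyInjective' exists_model universallyInjective_specMap)

variable {X S : Scheme.{u}} (f : X ⟶ S)

/-- There is a section after an étale surjective, then a flat radicial surjective base change. -/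
def HasSec {T : Scheme.{u}} (a : T ⟶ S) : Prop :=
  ∃ (T' T'' : Scheme.{u}) (h : T' ⟶ T) (g : T'' ⟶ T') (σ : T'' ⟶ X),
    (IsFinite h ∧ Etale h ∧ Surjective h) ∧
      (IsFinite g ∧ Flat g ∧ UniversallyInjective g ∧ Surjective g ∧ LocallyOfFinitePresentation g) ∧
        σ ≫ f = g ≫ h ≫ a

theorem hasSec_comp {T T₁ : Scheme.{u}} (a : T ⟶ S) (t : T₁ ⟶ T) (H : HasSec f a) : HasSec f (t ≫ a) := by
  obtain ⟨T', T'', h, g, σ, ⟨_, _, _⟩, ⟨_, _, _, _, _⟩, hσ⟩ := H
  refine ⟨pullback h t, pullback g (pullback.fst h t), pullback.snd h t, pullback.snd g (pullback.fst h t),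
    pullback.fst g (pullback.fst h t) ≫ σ, ⟨inferInstance, inferInstance, inferInstance⟩,
    ⟨inferInstance, inferInstance, MorphismProperty.pullback_snd _ _ ‹_›, inferInstance, inferInstance⟩, ?_⟩
  rw [Category.assoc, hσ, pullback.condition_assoc, pullback.condition_assoc]

theorem descends_isFinite' : LimLib.Descends.{u} @IsFinite @LocallyOfFinitePresentation :=
  fun {I} _ _ D c hc hD hqc hqs i X₀ f₀ h₁ h₂ hQ =>
    LimLib.descends_isFinite D c hc hD hqc hqs i X₀ f₀ h₁ h₂
      (by have : LocallyOfFinitePresentation f₀ := hQ; exact inferInstanceAs (LocallyOfFiniteType f₀))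

theorem hasSec_stage [LocallyOfFinitePresentation f] {I : Type u} [SmallCategory I] [IsCofiltered I]
    {D : I ⥤ Scheme.{u}} {c : Cone D} (hc : IsLimit c) (haff : ∀ i, IsAffine (D.obj i)) (hpt : IsAffine c.pt)
    (i₀ : I) (a : D.obj i₀ ⟶ S) (H : HasSec f (c.π.app i₀ ≫ a)) :
    ∃ (j : I) (φ : j ⟶ i₀), HasSec f (D.map φ ≫ a) := by
  obtain ⟨T', T'', h, g, σ, ⟨_, _, _⟩, ⟨_, _, _, _, _⟩, hσ⟩ := H
  haveI : CompactSpace T' := QuasiCompact.compactSpace_of_compactSpace h
  haveI : QuasiSeparatedSpace T' := quasiSeparatedSpace_of_quasiSeparated h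
  haveI : CompactSpace T'' := QuasiCompact.compactSpace_of_compactSpace g
  haveI : QuasiSeparatedSpace T'' := quasiSeparatedSpace_of_quasiSeparated g
  haveI hD : ∀ (i j : I) (a : i ⟶ j), IsAffineHom (D.map a) := fun i j a => inferInstance
  obtain ⟨k, ψ, W, hk, qW, _, _, _, sqW, hkfin, hket, hksur⟩ := exists_model
    (descends_inf descends_isFinite' (descends_inf LimLib.descends_etale EGA43Lim.descends_surjective)) hc hD
    (fun i => inferInstance) (fun i => inferInstance) i₀ h ⟨‹IsFinite h›, ‹Etale h›, ‹Surjective h›⟩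
  let E := LimLib.bcDiag D k hk
  let cE := LimLib.bcCone (c := c) sqW
  have hE : IsLimit cE := LimLib.isLimitBcCone hc sqW
  haveI hEa : ∀ (i j : Over k) (a : i ⟶ j), IsAffineHom (E.map a) := fun i j a => inferInstance
  haveI hEc : ∀ i, CompactSpace (E.obj i) := fun i => inferInstance
  haveI hEq : ∀ i, QuasiSeparatedSpace (E.obj i) := fun i => inferInstance
  obtain ⟨m, -, Z, gm, qZ, _, _, _, sqZ, hgfin, hgfl, hgui, hgsur⟩ := exists_model
    (descends_inf descends_isFinite' (descends_inf FlatDescends.descends_flat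
      (descends_inf descends_universallyInjective' EGA43Lim.descends_surjective))) hE hEa hEc hEq (Over.mk (𝟙 k)) (Y := T'') g
    ⟨‹IsFinite g›, ‹Flat g›, ‹UniversallyInjective g›, ‹Surjective g›⟩
  let F := LimLib.bcDiag E m gm
  let cF := LimLib.bcCone (c := cE) sqZ
  have hF : IsLimit cF := LimLib.isLimitBcCone hE sqZ
  haveI : ∀ (i j : Over m) (a : i ⟶ j), IsAffineHom (F.map a) := fun i j a => inferInstance
  haveI : ∀ i, CompactSpace (F.obj i) := fun i => inferInstance
  haveI : ∀ i, QuasiSeparatedSpace (F.obj i) := fun i => inferInstance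
  let t : F ⟶ (Functor.const (Over m)).obj S :=
    { app := fun n => pullback.snd gm (E.map n.hom) ≫ pullback.snd hk (D.map n.left.hom) ≫
        D.map (n.left.hom ≫ ψ) ≫ a
      naturality := fun n n' b => by
        show pullback.lift _ _ _ ≫ pullback.snd gm _ ≫ _ = _ ≫ 𝟙 S
        rw [pullback.lift_snd_assoc, Category.comp_id, Category.assoc]
        show _ ≫ pullback.lift _ _ _ ≫ pullback.snd hk _ ≫ _ = _
        rw [pullback.lift_snd_assoc, Category.assoc, ← D.map_comp_assoc, ← Category.assoc b.left.left]
        erw [Over.w b.left] }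
  have hta : cF.π ≫ t = (Functor.const _).map (σ ≫ f) := by
    ext n : 2
    show pullback.lift _ _ _ ≫ pullback.snd gm _ ≫ _ = σ ≫ f
    rw [pullback.lift_snd_assoc, Category.assoc, hσ]
    show g ≫ pullback.lift _ _ _ ≫ pullback.snd hk _ ≫ _ = _
    rw [pullback.lift_snd_assoc, Category.assoc, ← Category.assoc (c.π.app n.left.left), c.w]
  obtain ⟨n, σn, -, hσn⟩ := Scheme.exists_π_app_comp_eq_of_locallyOfFinitePresentation F t f cF hF σ hta
  refine ⟨n.left.left, n.left.hom ≫ ψ, pullback hk (D.map n.left.hom), F.obj n,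
    pullback.snd hk (D.map n.left.hom), pullback.snd gm (E.map n.hom), σn, ?_, ?_, ?_⟩
  · have := hkfin; have := hket; have := hksur
    exact ⟨inferInstance, inferInstance, inferInstance⟩
  · have := hgfin; have := hgfl; have := hgsur
    exact ⟨inferInstanceAs (IsFinite (pullback.snd gm (E.map n.hom))),
      inferInstanceAs (Flat (pullback.snd gm (E.map n.hom))), MorphismProperty.pullback_snd _ _ hgui,
      inferInstanceAs (Surjective (pullback.snd gm (E.map n.hom))),
      inferInstanceAs (LocallyOfFinitePresentation (pullback.snd gm (E.map n.hom)))⟩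
  · exact hσn

/-- Over a point there is a section after a separable and then a purely inseparable extension. -/
theorem hasSec_point [LocallyOfFinitePresentation f] [Surjective f] (s : S) :
    HasSec f (S.fromSpecResidueField s) := by
  let q := f.fiberToSpecResidueField s
  haveI : LocallyOfFiniteType q := MorphismProperty.pullback_snd _ _ inferInstance
  haveI : Surjective q := MorphismProperty.pullback_snd _ _ ‹_›
  haveI : JacobsonSpace (f.fiber s) := LocallyOfFiniteType.jacobsonSpace q
  obtain ⟨x₀, -⟩ := q.surjective (IsLocalRing.closedPoint (S.residueField s))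
  obtain ⟨x, -, hx⟩ := nonempty_inter_closedPoints (X := f.fiber s) (Z := Set.univ) ⟨x₀, trivial⟩
    isOpen_univ.isLocallyClosed
  haveI : LocallyOfFiniteType ((f.fiber s).fromSpecResidueField x) := isClosed_singleton_iff_locallyOfFiniteType.1 hx
  let k := S.residueField s
  let K := (f.fiber s).residueField x
  obtain ⟨φ, hφ⟩ := Spec.map_surjective ((f.fiber s).fromSpecResidueField x ≫ q)
  letI : Algebra k K := φ.hom.toAlgebra
  haveI : LocallyOfFiniteType (Spec.map φ) := by rw [hφ]; infer_instance
  haveI hft : Algebra.FiniteType k K := (HasRingHomProperty.Spec_iff (P := @LocallyOfFiniteType)).1 ‹_›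
  haveI : Module.Finite k K := finite_of_finite_type_of_isJacobsonRing k K
  let L := separableClosure k K
  haveI : Module.Finite k L := inferInstance
  haveI : Algebra.IsSeparable k L := separableClosure.isSeparable k K
  haveI : IsPurelyInseparable L K := separableClosure.isPurelyInseparable k K
  haveI : Module.Finite L K := Module.Finite.of_restrictScalars_finite k L K
  haveI : Algebra.FormallyEtale k L := Algebra.FormallyEtale.of_isSeparable k L
  haveI : Algebra.FinitePresentation k L := Algebra.FinitePresentation.of_finiteType.1 inferInstance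
  haveI : Algebra.Etale k L := ⟨inferInstance, inferInstance⟩
  let h : Spec (CommRingCat.of L) ⟶ Spec k := Spec.map (CommRingCat.ofHom (algebraMap k L))
  let g : Spec (CommRingCat.of K) ⟶ Spec (CommRingCat.of L) := Spec.map (CommRingCat.ofHom (algebraMap L K))
  haveI : Etale h := (HasRingHomProperty.Spec_iff (P := @Etale)).2 (RingHom.etale_algebraMap.2 ‹_›)
  haveI : LocallyOfFinitePresentation g := (HasRingHomProperty.Spec_iff (P := @LocallyOfFinitePresentation)).2
    (RingHom.finitePresentation_algebraMap.2 (Algebra.FinitePresentation.of_finiteType.1 inferInstance))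
  haveI : Flat g := (HasRingHomProperty.Spec_iff (P := @Flat)).2 (RingHom.flat_algebraMap_iff.2 inferInstance)
  haveI hs₁ : Surjective h := ⟨fun y => ⟨IsLocalRing.closedPoint L, Subsingleton.elim _ _⟩⟩
  haveI hs₂ : Surjective g := ⟨fun y => ⟨IsLocalRing.closedPoint K, Subsingleton.elim _ _⟩⟩
  have hf₁ : IsFinite h := (IsFinite.SpecMap_iff _).2 (RingHom.finite_algebraMap.2 inferInstance)
  have hf₂ : IsFinite g := (IsFinite.SpecMap_iff _).2 (RingHom.finite_algebraMap.2 inferInstance)
  refine ⟨_, _, h, g, (f.fiber s).fromSpecResidueField x ≫ f.fiberι s,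
    ⟨hf₁, inferInstance, hs₁⟩,
    ⟨hf₂, inferInstance, universallyInjective_specMap L K, hs₂, inferInstance⟩, ?_⟩
  have e : g ≫ h = (f.fiber s).fromSpecResidueField x ≫ q := by
    rw [← hφ]
    show Spec.map _ ≫ Spec.map _ = _
    rw [← Spec.map_comp, ← CommRingCat.ofHom_comp]
    exact congrArg (fun r => Spec.map (CommRingCat.ofHom r)) (IsScalarTower.algebraMap_eq k L K).symm
  rw [reassoc_of% e, Category.assoc, f.fiber_fac s]

theorem exists_partition [LocallyOfFinitePresentation f] [Surjective f] [CompactSpace S] [QuasiSeparatedSpace S] :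
    ∃ (ι : Type u) (_ : Finite ι) (T : ι → Scheme.{u}) (e : ∀ i, T i ⟶ S),
      (∀ i, AffStrat.IsStratum (e i)) ∧ (∀ i j, i ≠ j → Disjoint (Set.range (e i)) (Set.range (e j))) ∧
      (⋃ i, Set.range (e i)) = Set.univ ∧ ∀ i, HasSec f (e i) :=
  AffStrat.exists_partition (fun {T} (a : T ⟶ S) => HasSec f a) (fun a t => hasSec_comp f a t) fun s =>
    AffStrat.exists_stratum' (fun {T} (a : T ⟶ S) => HasSec f a) (fun a t => hasSec_comp f a t)
      (fun hc haff hpt i₀ a H => hasSec_stage f hc haff hpt i₀ a H) s (hasSec_point f s)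

end Groth.Agent.FlatMor.EtRadFin
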