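import Groth.Agent.IndAlg.EtaleLift
import Groth.Agent.Thick.Topo
import Mathlib.AlgebraicGeometry.Fiber
import Mathlib.AlgebraicGeometry.Morphisms.Etale

/-!
Etale algebras over a fibre ring (localization of a quotient) are base changes of etale algebras.
-/

universe u

open AlgebraicGeometry CategoryTheory Limits
open scoped TensorProduct

namespace Groth.Agent.FlatMor.EtaleFibreLift

/-- `A → A'` is, up to units coming from `A`, surjective. -/
def UnitSurjective (A A' : Type u) [CommRing A] [CommRing A'] [Algebra A A'] : Prop :=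
  ∀ a : A', ∃ s : A, IsUnit (algebraMap A A' s) ∧ ∃ r : A, algebraMap A A' r = algebraMap A A' s * a

theorem exists_map_eq {A A' : Type u} [CommRing A] [CommRing A'] [Algebra A A']
    (hA : UnitSurjective A A') {ι : Type} (p : MvPolynomial ι A') :
    ∃ s : A, IsUnit (algebraMap A A' s) ∧ ∃ q : MvPolynomial ι A,
      MvPolynomial.map (algebraMap A A') q = MvPolynomial.C (algebraMap A A' s) * p := by
  induction p using MvPolynomial.induction_on' with
  | monomial d a =>
    obtain ⟨s, hs, r, hr⟩ := hA a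
    exact ⟨s, hs, MvPolynomial.monomial d r, by
      rw [MvPolynomial.map_monomial, MvPolynomial.C_mul_monomial, hr]⟩
  | add p q hp hq =>
    obtain ⟨s, hs, p', hp'⟩ := hp
    obtain ⟨t, ht, q', hq'⟩ := hq
    refine ⟨s * t, by rw [map_mul]; exact hs.mul ht,
      MvPolynomial.C t * p' + MvPolynomial.C s * q', ?_⟩
    simp only [map_add, map_mul, MvPolynomial.map_C, hp', hq']
    ring

theorem unitSurjective_fiber {R A : Type u} [CommRing R] [CommRing A] [Algebra R A] (p : Ideal R)
    [p.IsPrime] :
    letI := (Algebra.TensorProduct.includeRight (R := R) (A := p.ResidueField) (B := A)).toRingHom.toAlgebra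
    UnitSurjective A (p.Fiber A) := by
  letI := (Algebra.TensorProduct.includeRight (R := R) (A := p.ResidueField) (B := A)).toRingHom.toAlgebra
  intro x
  obtain ⟨r, hr, a, ha⟩ := Ideal.Fiber.exists_smul_eq_one_tmul p x
  have h1 : algebraMap A (p.Fiber A) (algebraMap R A r) = algebraMap R p.ResidueField r ⊗ₜ[R] 1 :=
    (Algebra.TensorProduct.tmul_one_eq_one_tmul r).symm
  refine ⟨algebraMap R A r, ?_, a, ?_⟩
  · rw [h1]
    refine (IsUnit.map (Algebra.TensorProduct.includeLeftRingHom (R := R)) ?_)
    exact (Ne.isUnit (by rwa [Ne, Ideal.algebraMap_residueField_eq_zero]))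
  · rw [h1, show algebraMap A (p.Fiber A) a = 1 ⊗ₜ[R] a from rfl, ← ha, Algebra.smul_def]
    rfl

open MvPolynomial in
set_option maxHeartbeats 800000 in
/-- An etale algebra over `A'` is the base change of an etale `A`-algebra. -/
theorem exists_etale_isPushout {A A' B : Type u} [CommRing A] [CommRing A'] [CommRing B]
    [Algebra A A'] [Algebra A' B] [Algebra A B] [IsScalarTower A A' B]
    (hA : UnitSurjective A A') [Algebra.Etale A' B] :
    ∃ (C : Type u) (_ : CommRing C) (_ : Algebra A C) (_ : Algebra.Etale A C) (ψ : C →ₐ[A] B),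
      IsPushout (CommRingCat.ofHom (algebraMap A A')) (CommRingCat.ofHom (algebraMap A C))
        (CommRingCat.ofHom (algebraMap A' B)) (CommRingCat.ofHom ψ.toRingHom) := by
  classical
  obtain ⟨ι, σ, hσ, hι, P, hP⟩ := ((Algebra.Etale.iff_isStandardSmoothOfRelativeDimension_zero
    (R := A') (S := B)).1 ‹_›).out
  have := Fintype.ofFinite σ
  have hcard : Nat.card σ = Nat.card ι := by
    have h1 : Nat.card ι - Nat.card σ = 0 := hP
    have h2 := P.card_relations_le_card_vars_of_isFinite
    omega
  choose c hc v hv using fun j : σ => exists_map_eq hA (P.relation j)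
  let P1 := Algebra.PreSubmersivePresentation.naive (v := v) P.map P.map_inj
    (Function.surjInv (Ideal.Quotient.mk_surjective (I := Ideal.span (Set.range v))))
    (Function.surjInv_eq _)
  let S1 := MvPolynomial ι A ⧸ Ideal.span (Set.range v)
  have hrel : ∀ q : MvPolynomial ι A,
      aeval (R := A) P.val q = aeval P.val (MvPolynomial.map (algebraMap A A') q) :=
    fun q => (aeval_map_algebraMap A' P.val q).symm
  have hle : Ideal.span (Set.range v) ≤ RingHom.ker (aeval (R := A) P.val) := by
    rw [Ideal.span_le]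
    rintro _ ⟨j, rfl⟩
    rw [SetLike.mem_coe, RingHom.mem_ker, hrel, hv, map_mul, P.aeval_val_relation j, mul_zero]
  let ψ1 : S1 →ₐ[A] B := Ideal.Quotient.liftₐ _ (aeval P.val) fun a ha => RingHom.mem_ker.1 (hle ha)
  have hψ1 : ∀ q, ψ1 (Ideal.Quotient.mk _ q) = aeval (R := A) P.val q := fun q => rfl
  have hjac : IsUnit (ψ1 P1.jacobian) := by
    have hj := P.jacobian_isUnit
    rw [Algebra.PreSubmersivePresentation.jacobian_eq_jacobiMatrix_det] at hj ⊢
    rw [P.algebraMap_apply] at hj
    rw [P1.algebraMap_apply]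
    have h : ∀ q, ψ1 (aeval P1.val q) = aeval (R := A) P.val q := by
      intro q
      have : ψ1.comp (aeval (R := A) P1.val) = aeval (R := A) P.val := by
        refine MvPolynomial.algHom_ext (R := A) fun i => ?_
        rw [AlgHom.comp_apply, aeval_X, aeval_X]
        exact (hψ1 (X i)).trans (aeval_X (R := A) P.val i)
      exact congr($this q)
    rw [h, hrel, RingHom.map_det]
    have e : (MvPolynomial.map (algebraMap A A')).mapMatrix P1.jacobiMatrix =
        Matrix.of fun i j => C (algebraMap A A' (c j)) * P.jacobiMatrix i j := by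
      refine Matrix.ext fun i j => ?_
      simp only [RingHom.mapMatrix_apply, Matrix.map_apply, Matrix.of_apply, P1,
        Algebra.PreSubmersivePresentation.jacobiMatrix_apply,
        Algebra.PreSubmersivePresentation.jacobiMatrix_naive]
      rw [← MvPolynomial.pderiv_map]
      refine (congrArg _ (hv j)).trans ?_
      rw [pderiv_C_mul]
      rfl
    rw [e, Matrix.det_mul_row, map_mul, map_prod]
    refine IsUnit.mul (IsUnit.prod_iff.mpr fun j _ => ?_) hj
    rw [aeval_C]
    exact (hc j).map _
  obtain ⟨d, hd⟩ : ∃ d, P1.jacobian = d := ⟨_, rfl⟩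
  rw [hd] at hjac
  have hC : Algebra.Etale A (Localization.Away d) := hd ▸ IndAlg.EtaleLift.etale_away_jacobian P1 hcard
  let ψ : Localization.Away d →ₐ[A] B :=
    { IsLocalization.Away.lift (S := Localization.Away d) d (g := ψ1.toRingHom) hjac with
      commutes' := fun a => (IsLocalization.Away.lift_eq d hjac (algebraMap A S1 a)).trans (ψ1.commutes a) }
  let q : MvPolynomial ι A →ₐ[A] Localization.Away d :=
    (IsScalarTower.toAlgHom A S1 (Localization.Away d)).comp (Ideal.Quotient.mkₐ A _)
  have hψq : ∀ i, ψ (q (X i)) = P.val i := fun i =>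
    (IsLocalization.Away.lift_eq d hjac _).trans ((hψ1 _).trans (aeval_X (R := A) P.val i))
  -- the inverse of `A' ⊗ C → B`
  let T := A' ⊗[A] Localization.Away d
  let φ0 : MvPolynomial ι A' →ₐ[A'] T := aeval fun i => 1 ⊗ₜ[A] q (X i)
  have hφ0 : ∀ p : MvPolynomial ι A, φ0 (MvPolynomial.map (algebraMap A A') p) = 1 ⊗ₜ[A] q p := by
    intro p
    rw [aeval_map_algebraMap]
    have : (aeval fun i => (1 : A') ⊗ₜ[A] q (X i)) =
        (Algebra.TensorProduct.includeRight (R := A) (A := A')).comp q :=
      MvPolynomial.algHom_ext (R := A) fun i => by simp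
    exact congr($this p)
  have hker : RingHom.ker (aeval (R := A') P.val).toRingHom ≤ RingHom.ker φ0.toRingHom := by
    have h1 : RingHom.ker (aeval (R := A') P.val).toRingHom = P.ker := P.ker_eq_ker_aeval_val.symm
    rw [h1, ← P.span_range_relation_eq_ker, Ideal.span_le]
    rintro _ ⟨j, rfl⟩
    rw [SetLike.mem_coe, RingHom.mem_ker, ← ((hc j).map (C (σ := ι))).map φ0 |>.mul_right_eq_zero]
    refine (map_mul φ0 _ _).symm.trans ?_
    rw [← hv j]
    refine (hφ0 _).trans ?_
    have : q (v j) = 0 := by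
      show algebraMap S1 _ (Ideal.Quotient.mk _ (v j)) = 0
      rw [Ideal.Quotient.eq_zero_iff_mem.2 (Ideal.subset_span (Set.mem_range_self j)), map_zero]
    rw [this, TensorProduct.tmul_zero]
  let φ : B →ₐ[A'] T := AlgHom.liftOfSurjective (aeval (R := A') P.val)
    (fun b => ⟨P.σ b, P.aeval_val_σ b⟩) φ0 hker
  have hφ : ∀ p, φ (aeval P.val p) = φ0 p := fun p =>
    AlgHom.liftOfSurjective_apply (aeval (R := A') P.val)
      (fun b => ⟨P.σ b, P.aeval_val_σ b⟩) φ0 hker p
  let ε : T →ₐ[A'] B := Algebra.TensorProduct.lift (Algebra.ofId A' B) ψ fun _ _ => .all _ _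
  have hεt : ∀ (a : A') (x : Localization.Away d), ε (a ⊗ₜ[A] x) = algebraMap A' B a * ψ x :=
    fun a x => Algebra.TensorProduct.lift_tmul _ _ _ a x
  have hφi : ∀ i, φ (P.val i) = 1 ⊗ₜ[A] q (X i) := fun i => by
    rw [← aeval_X (R := A') P.val i, hφ]; simp [φ0]
  have hεφ : ε.comp φ = AlgHom.id A' B := by
    refine (AlgHom.cancel_right (fun b => ⟨P.σ b, P.aeval_val_σ b⟩)).mp
      (MvPolynomial.algHom_ext fun i => ?_)
    simp only [AlgHom.comp_apply, AlgHom.id_apply, aeval_X, hφi]
    rw [hεt, map_one, one_mul, hψq]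
  have hφε : φ.comp ε = AlgHom.id A' T := by
    refine Algebra.TensorProduct.ext' fun a x => ?_
    suffices h : (φ.restrictScalars A).comp ψ =
        Algebra.TensorProduct.includeRight (R := A) (A := A') by
      have hx : φ (ψ x) = 1 ⊗ₜ[A] x := congr($h x)
      show φ (ε (a ⊗ₜ[A] x)) = a ⊗ₜ[A] x
      rw [hεt, map_mul, hx, φ.commutes]
      show (a ⊗ₜ[A] (1 : Localization.Away d)) * _ = _
      rw [Algebra.TensorProduct.tmul_mul_tmul, mul_one, one_mul]
    refine IsLocalization.algHom_ext (Submonoid.powers d) ?_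
    refine Ideal.Quotient.algHom_ext A (MvPolynomial.algHom_ext (R := A) fun i => ?_)
    show φ (ψ (q (X i))) = 1 ⊗ₜ[A] q (X i)
    rw [hψq, hφi]
  refine ⟨Localization.Away d, inferInstance, inferInstance, hC, ψ, ?_⟩
  let e : T ≃ₐ[A'] B := AlgEquiv.ofAlgHom ε φ hεφ hφε
  refine (CommRingCat.isPushout_tensorProduct A A' (Localization.Away d)).of_iso (Iso.refl _) (Iso.refl _)
    (Iso.refl _) e.toRingEquiv.toCommRingCatIso ?_ ?_ ?_ ?_
  · rfl
  · rfl
  · ext a
    exact ε.commutes a
  · ext x
    show ε (1 ⊗ₜ x) = ψ x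
    rw [hεt, map_one, one_mul]

end Groth.Agent.FlatMor.EtaleFibreLift
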