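import Groth.Agent.FlatMor.FibTrivLift
import Groth.Agent.FlatMor.CechH1.SurjLocal
import Groth.Agent.CBC.FrameDet
import Groth.Agent.RefChK0.Basic
import Groth.Agent.FormalFun.AmpleFibre
import Groth.Agent.FinCov71.Rank
import Groth.Agent.ProjForm.Unit

/-!
# Invertible modules trivial on the fibres of a morphism with fibres of dimension one
-/

set_option autoImplicit false
set_option linter.style.haveILetI false
universe u

open CategoryTheory CategoryTheory.Limits AlgebraicGeometry Opposite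
open Groth.Agent

noncomputable section

namespace Groth.Agent.FlatMor.FibTriv

variable {X Y : Scheme.{u}} (f : X ⟶ Y) [IsProper f] [IsNoetherian Y]

/-- trivial pullback along an equality of compositions -/
theorem trivial_comp {Z' Z W : Scheme.{u}} {a : Z' ⟶ Z} {b : Z ⟶ W} {c : Z' ⟶ W} (h : a ≫ b = c) (M : W.Modules)
    (hb : Nonempty ((Scheme.Modules.pullback b).obj M ≅ Coh.structureModule Z)) :
    Nonempty ((Scheme.Modules.pullback c).obj M ≅ Coh.structureModule Z') := by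
  obtain ⟨e⟩ := hb
  exact ⟨(Scheme.Modules.pullbackCongr h.symm).app M ≪≫ ((Scheme.Modules.pullbackComp a b).app M).symm ≪≫
    (Scheme.Modules.pullback a).mapIso e ≪≫ QCoh.pullbackUnitIso a⟩

set_option maxHeartbeats 1000000 in
/-- Near a closed point with trivial fibre the module is trivial on the preimage of a neighbourhood. -/
theorem exists_trivial_nhd (hdim : ∀ y : Y, topologicalKrullDim ↥(f.fiber y) ≤ 1)
    (hH1 : ∀ y : Y, Subsingleton (Coh.HH (f.fiber y) (Coh.structureModule (f.fiber y)) 1))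
    {L : X.Modules} (hL : PicF.IsInvertible L)
    (hfib : ∀ y : Y, Nonempty ((Scheme.Modules.pullback (f.fiberι y)).obj L ≅ Coh.structureModule (f.fiber y)))
    (y : Y) (hy : IsClosed ({y} : Set Y)) :
    ∃ V : Y.Opens, y ∈ V ∧
      Nonempty ((Scheme.Modules.pullback (f ⁻¹ᵁ V).ι).obj L ≅ Coh.structureModule (f ⁻¹ᵁ V).toScheme) := by
  classical
  obtain ⟨V, hV, hyV, -⟩ := exists_isAffineOpen_mem_and_subset (x := y) (U := ⊤) trivial
  haveI : IsAffine V.toScheme := hV
  haveI : IsNoetherianRing Γ(Y, V) := IsLocallyNoetherian.component_noetherian ⟨V, hV⟩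
  let W := f ⁻¹ᵁ V
  let g := f ∣_ V
  letI : W.toScheme.Over (Spec (CommRingCat.of Γ(Y, V))) := ⟨g ≫ hV.isoSpec.hom⟩
  haveI : IsProper (W.toScheme ↘ Spec (CommRingCat.of Γ(Y, V))) := inferInstanceAs (IsProper (g ≫ hV.isoSpec.hom))
  haveI : IsLocallyNoetherian W.toScheme :=
    LocallyOfFiniteType.isLocallyNoetherian (W.toScheme ↘ Spec (CommRingCat.of Γ(Y, V)))
  have hsq : IsPullback W.ι g f V.ι := (isPullback_morphismRestrict f V).flip
  have hbig : IsPullback W.ι (W.toScheme ↘ Spec (CommRingCat.of Γ(Y, V))) f hV.fromSpec := by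
    have h : IsPullback V.ι hV.isoSpec.hom (𝟙 Y) hV.fromSpec :=
      IsPullback.of_vert_isIso ⟨by rw [IsAffineOpen.isoSpec_hom_fromSpec, Category.comp_id]⟩
    have := hsq.paste_vert h
    rwa [Category.comp_id] at this
  let LW := (Scheme.Modules.pullback W.ι).obj L
  have hLW : PicF.IsInvertible LW := PicCl.isInvertible_pullback W.ι hL
  -- fibres of the restriction
  have h2 : ∀ F : W.toScheme.Modules, Coh.IsQCoh F → Subsingleton (Coh.HH W.toScheme F 2) := by
    intro F hF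
    refine Groth.Agent.S1443.result g (fun v => ?_) (fun v => ?_) F hF 2 le_rfl
    · obtain ⟨e, -⟩ := FormalFun.exists_fiber_iso_fst hsq v (V.ι v) rfl
      exact (e.hom.homeomorph.isHomeomorph.topologicalKrullDim_eq _).trans_le (hdim _)
    · exact FlatMor.CechH1.subsingleton_HH_fiber_restrict f V v (hH1 _)
  -- closed fibres cut by maximal ideals
  have hcut : ∀ m : Ideal Γ(Y, V), m.IsMaximal → ∃ (Z : Scheme.{u}) (i : Z ⟶ W.toScheme),
      IsClosedImmersion i ∧ FormalFun.IsCut i (m ^ (0 + 1)) ∧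
        Nonempty ((Scheme.Modules.pullback i).obj LW ≅ Coh.structureModule Z) ∧
        Subsingleton (Coh.HH Z (Coh.structureModule Z) 1) ∧
        (∀ x : W.toScheme, (∀ hm : m.IsPrime, f (W.ι x) = hV.fromSpec ⟨m, hm⟩) → x ∈ Set.range i) := by
    intro m hm
    haveI hci : IsClosedImmersion (CohB1.specQuot m 0) := FormalFun.isClosedImmersion_specQuot m 0
    haveI hfield : (m ^ (0 + 1)).IsMaximal := (pow_one m).symm ▸ hm
    letI := Ideal.Quotient.field (m ^ (0 + 1))
    let s : Spec (CommRingCat.of (Γ(Y, V) ⧸ m ^ (0 + 1))) := IsLocalRing.closedPoint _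
    let i := FormalFun.Tower.ofSchemeι m W.toScheme 0
    let p := (FormalFun.Tower.ofScheme m W.toScheme).p 0
    have hs : (CohB1.specQuot m 0 ≫ hV.fromSpec) s = hV.fromSpec ⟨m, hm.isPrime⟩ := by
      rw [Scheme.Hom.comp_apply]
      congr 1
      have h : PrimeSpectrum.comap (Ideal.Quotient.mk (m ^ (0 + 1)))
          (IsLocalRing.closedPoint (Γ(Y, V) ⧸ m ^ (0 + 1))) = ⟨m, hm.isPrime⟩ := by
        refine PrimeSpectrum.ext ?_
        show (IsLocalRing.maximalIdeal (Γ(Y, V) ⧸ m ^ (0 + 1))).comap (Ideal.Quotient.mk (m ^ (0 + 1))) = m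
        rw [IsLocalRing.isField_iff_maximalIdeal_eq.1 (Field.toIsField _), ← RingHom.ker_eq_comap_bot,
          Ideal.mk_ker, zero_add, pow_one]
      exact h
    obtain ⟨e, he⟩ := FormalFun.exists_fiber_iso_fst
      ((FormalFun.Tower.isPullback_ofSchemeι m W.toScheme 0).paste_horiz hbig) s _ hs
    haveI hι : IsIso (p.fiberι s) := by
      haveI : Surjective ((Spec (CommRingCat.of (Γ(Y, V) ⧸ m ^ (0 + 1)))).fromSpecResidueField s) :=
        ⟨fun t => ⟨Classical.arbitrary _, Subsingleton.elim _ _⟩⟩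
      haveI : IsClosedImmersion ((Spec (CommRingCat.of (Γ(Y, V) ⧸ m ^ (0 + 1)))).fromSpecResidueField s) :=
        IsClosedImmersion.of_isPreimmersion _ (by
          rw [Scheme.range_fromSpecResidueField]; exact (isClosed_discrete _))
      haveI : IsIso ((Spec (CommRingCat.of (Γ(Y, V) ⧸ m ^ (0 + 1)))).fromSpecResidueField s) :=
        isIso_of_isClosedImmersion_of_surjective _
      exact inferInstanceAs (IsIso (pullback.fst _ _))
    let k := inv (p.fiberι s) ≫ e.hom
    have hk : k ≫ f.fiberι _ = i ≫ W.ι := by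
      rw [Category.assoc, he, IsIso.inv_hom_id_assoc]
    refine ⟨_, i, inferInstance, FormalFun.Tower.isCut_ofSchemeι m W.toScheme 0, ?_, ?_, ?_⟩
    · obtain ⟨e'⟩ := trivial_comp hk L (hfib _)
      exact ⟨(Scheme.Modules.pullbackComp i W.ι).app L ≪≫ e'⟩
    · haveI : IsSeparated (f.fiberToSpecResidueField (hV.fromSpec ⟨m, hm.isPrime⟩)) :=
        inferInstanceAs (IsSeparated (pullback.snd f (Y.fromSpecResidueField _)))
      haveI : QuasiCompact (f.fiberToSpecResidueField (hV.fromSpec ⟨m, hm.isPrime⟩)) :=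
        inferInstanceAs (QuasiCompact (pullback.snd f (Y.fromSpecResidueField _)))
      exact FlatMor.CechH1.subsingleton_HH_of_isIso k (f.fiberToSpecResidueField _) (hH1 _)
    · intro x hx
      obtain ⟨z, hz⟩ : W.ι x ∈ Set.range (f.fiberι (hV.fromSpec ⟨m, hm.isPrime⟩)) := by
        rw [Scheme.Hom.range_fiberι]; exact hx hm.isPrime
      refine ⟨(inv k) z, W.ι.isEmbedding.injective ?_⟩
      rw [← Scheme.Hom.comp_apply, ← hk, ← Scheme.Hom.comp_apply, IsIso.inv_hom_id_assoc]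
      exact hz
  let v : PrimeSpectrum Γ(Y, V) := hV.primeIdealOf ⟨y, hyV⟩
  have hv : hV.fromSpec v = y := hV.fromSpec_primeIdealOf ⟨y, hyV⟩
  have hmax : v.asIdeal.IsMaximal := by
    rw [← PrimeSpectrum.isClosed_singleton_iff_isMaximal]
    have : ({v} : Set (PrimeSpectrum Γ(Y, V))) = hV.fromSpec ⁻¹' {y} := by
      ext w
      refine ⟨fun h => by rw [Set.mem_singleton_iff] at h; rw [h]; exact hv,
        fun h => hV.fromSpec.isOpenEmbedding.injective (Eq.trans h hv.symm)⟩
    rw [this]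
    exact hy.preimage hV.fromSpec.continuous
  obtain ⟨Z, i, hi, hicut, ⟨ψ⟩, hZ1, hrange⟩ := hcut v.asIdeal hmax
  haveI := hi
  haveI : Coh.IsQCoh ((Scheme.Modules.pullback i).obj LW) :=
    ProjTwist.isQCoh_of_isInvertible (PicCl.isInvertible_pullback i hLW)
  have hsurj := FibTrivLift.surjective_unit_app (A := Γ(Y, V)) (RefChK0.isCoh_of_isInvertible hLW) h2
    (fun m hm => by
      obtain ⟨Z', i', h1, h2', ⟨ψ'⟩, h4, -⟩ := hcut m hm
      exact ⟨Z', i', h1, h2', ProjTwist.isQCoh_of_isInvertible (PicCl.isInvertible_pullback i' hLW),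
        FormalFun.subsingleton_HH_iso ψ'.symm 1 h4⟩)
    i v.asIdeal hicut (FormalFun.subsingleton_HH_iso ψ.symm 1 hZ1)
  -- a frame on the closed fibre and its lift
  obtain ⟨e, he⟩ := VBLib.exists_isFrame_of_iso (M := (Scheme.Modules.pullback i).obj LW) (U := (⊤ : Z.Opens)) (n := 1)
    ((Scheme.Modules.restrictFunctor _).mapIso ψ ≪≫ Scheme.Modules.restrictUnitIso _ ≪≫
      (coproductUniqueIso fun _ : Fin 1 => Coh.structureModule ((⊤ : Z.Opens) : Scheme.{u})).symm)
  obtain ⟨σ, hσ⟩ := hsurj (e 0)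
  let E : Fin 1 → Γ(LW, (⊤ : W.toScheme.Opens)) := fun _ => σ
  have hfree := Groth.Agent.ProjForm.isFinLocFree_of_isInvertible hLW
  have hloc : ∀ x : W.toScheme, g x = ⟨y, hyV⟩ → x ∈ CBC.FrameDet.locus LW E := by
    intro x hx
    obtain ⟨z, rfl⟩ := hrange x fun hm => by
      have h := congrArg (fun t : V.toScheme => V.ι t) hx
      rw [show hV.fromSpec ⟨v.asIdeal, hm⟩ = y from hv]
      rw [← Scheme.Hom.comp_apply, hsq.w, Scheme.Hom.comp_apply]
      exact h
    refine ⟨trivial, CBC.FrameDet.frameAt_of_pullback i hfree E (y := z) trivial ?_⟩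
    have hEe : (fun j => LFFrame.unitSec i LW ⊤ (E j)) = e :=
      funext fun j => hσ.trans (congrArg e (Subsingleton.elim 0 j))
    rw [hEe]
    exact he.stalkComb_bijective z trivial
  let bad := g '' (CBC.FrameDet.locus LW E)ᶜ
  have hbad : IsClosed bad := g.isClosedMap _ (CBC.FrameDet.isOpen_locus hfree E).isClosed_compl
  let V' : V.toScheme.Opens := ⟨badᶜ, hbad.isOpen_compl⟩
  have hyV' : (⟨y, hyV⟩ : V.toScheme) ∈ V' := by
    rintro ⟨x, hx, hxy⟩
    exact hx (hloc x hxy)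
  have hframe : LFFrame.IsFrame LW (g ⁻¹ᵁ V') (fun j => LW.presheaf.map (homOfLE le_top).op (E j)) :=
    LFFrame.isFrame_of_stalkComb_bijective fun x hx => by
      rw [CBC.FrameDet.stalkComb_res]
      have : x ∈ CBC.FrameDet.locus LW E := by
        by_contra hn
        exact hx ⟨x, hn, rfl⟩
      exact this.2
  obtain ⟨φ⟩ := FinCov71.IsFrame.nonempty_iso_freeMod hframe
  let φ' : (Scheme.Modules.pullback (g ⁻¹ᵁ V').ι).obj LW ≅ Coh.structureModule (g ⁻¹ᵁ V').toScheme :=
    ((Scheme.Modules.restrictFunctorIsoPullback _).app LW).symm ≪≫ φ ≪≫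
      coproductUniqueIso fun _ : Fin 1 => Coh.structureModule ((g ⁻¹ᵁ V') : Scheme.{u})
  have hmain : Nonempty ((Scheme.Modules.pullback ((g ⁻¹ᵁ V').ι ≫ W.ι)).obj L ≅ Coh.structureModule _) :=
    ⟨((Scheme.Modules.pullbackComp (g ⁻¹ᵁ V').ι W.ι).app L).symm ≪≫ φ'⟩
  refine ⟨V.ι ''ᵁ V', ⟨⟨y, hyV⟩, hyV', rfl⟩, ?_⟩
  have hle : f ⁻¹ᵁ (V.ι ''ᵁ V') ≤ W := fun x hx => by
    obtain ⟨v', -, h⟩ := hx
    show f x ∈ V
    rw [← show V.ι v' = f x from h]
    exact v'.2
  let a : (f ⁻¹ᵁ (V.ι ''ᵁ V')).toScheme ⟶ (g ⁻¹ᵁ V').toScheme :=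
    IsOpenImmersion.lift (g ⁻¹ᵁ V').ι (X.homOfLE hle) (by
      rw [Scheme.Opens.range_ι]
      rintro _ ⟨x, rfl⟩
      obtain ⟨v', hv', h⟩ := x.2
      show g (X.homOfLE hle x) ∈ V'
      have : g (X.homOfLE hle x) = v' := V.ι.isEmbedding.injective (by
        rw [← Scheme.Hom.comp_apply, ← hsq.w, Scheme.Hom.comp_apply, ← Scheme.Hom.comp_apply (X.homOfLE hle),
          Scheme.homOfLE_ι]
        exact h.symm)
      rw [this]; exact hv')
  exact trivial_comp (a := a) (by rw [← Category.assoc, IsOpenImmersion.lift_fac, Scheme.homOfLE_ι]) L hmain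

end Groth.Agent.FlatMor.FibTriv
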