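import Groth.Agent.S1443
import Groth.Agent.FormalFun.ClosedCut
import Groth.Agent.FormalFun.SecFinite
import Groth.Agent.FormalFun.HomLift
import Groth.Agent.FormalFun.StalkBase
import Groth.Agent.ProjTwist.Pn.Finite
import Groth.Agent.ProjTwist.Invertible
import Groth.Agent.CohDerLib.QC.PushQCoh

/-!
# Sections lifting from closed fibres with vanishing first cohomology, fibre dimension one
-/

set_option autoImplicit false
set_option linter.style.haveILetI false
universe u

open CategoryTheory CategoryTheory.Limits AlgebraicGeometry Opposite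
open Groth.Agent

noncomputable section

namespace Groth.Agent.FlatMor.FibTrivLift

theorem smulMod_mul {A : Type u} [CommRing A] {X : Scheme.{u}} [X.Over (Spec (CommRingCat.of A))]
    (M : X.Modules) (a b : A) :
    Formal.smulMod A M (a * b) = Formal.smulMod A M b ≫ Formal.smulMod A M a := by
  apply Scheme.Modules.hom_ext
  intro U
  ext x
  show (Formal.smulMod A M (a * b)).app U x = (Formal.smulMod A M a).app U ((Formal.smulMod A M b).app U x)
  rw [FormalFun.smulMod_app, FormalFun.smulMod_app, FormalFun.smulMod_app, map_mul, mul_smul]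

variable {A : Type u} [CommRing A] [IsNoetherianRing A] {X : Scheme.{u}} [X.Over (Spec (CommRingCat.of A))]
  [IsProper (X ↘ Spec (CommRingCat.of A))] {L : X.Modules}

set_option maxHeartbeats 1000000 in
/-- For a cut by a finitely generated ideal, cohomology classes modulo the ideal. -/
theorem cut_step {Z : Scheme.{u}} (i : Z ⟶ X) [IsClosedImmersion i] (J : Ideal A)
    (hJ : FormalFun.IsCut i (J ^ (0 + 1))) (hL : Coh.IsCoh L)
    (h2 : ∀ F : X.Modules, Coh.IsQCoh F → Subsingleton (Coh.HH X F 2))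
    [Coh.IsQCoh ((Scheme.Modules.pullback i).obj L)]
    (hZ : Subsingleton (Coh.HH Z ((Scheme.Modules.pullback i).obj L) 1)) :
    (∀ x : Coh.HH X L 1, x ∈ (J ^ (0 + 1)) • (⊤ : Submodule A (Coh.HH X L 1))) ∧
      (Subsingleton (Coh.HH X L 1) →
        Function.Surjective (((Scheme.Modules.pullbackPushforwardAdjunction i).unit.app L).app ⊤)) := by
  classical
  haveI : IsLocallyNoetherian X := LocallyOfFiniteType.isLocallyNoetherian (X ↘ Spec (CommRingCat.of A))
  let I := J ^ (0 + 1)
  obtain ⟨θ, hθ⟩ := hJ.exists_iso_unit (n := 0 + 1) L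
  let Q := Formal.modPow J (0 + 1) L
  let π : L ⟶ Q := Formal.modPowπ J (0 + 1) L
  haveI : Epi π := show Epi (cokernel.π _) from inferInstance
  have hQ : Subsingleton (Coh.HH X Q 1) :=
    FormalFun.subsingleton_HH_iso θ.symm 1 (FormalFun.subsingleton_HH_push i _ 1 hZ)
  obtain ⟨r, a, ha⟩ := Submodule.fg_iff_exists_fin_generating_family.1 (IsNoetherian.noetherian I)
  have hamem : ∀ j, a j ∈ I := fun j => ha ▸ Submodule.subset_span ⟨j, rfl⟩
  let F : ULift.{u} (Fin r) → X.Modules := fun _ => L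
  let φ : ∐ F ⟶ L := Sigma.desc fun j => Formal.smulMod A L (a j.down)
  have hφπ : φ ≫ π = 0 := Sigma.hom_ext _ _ fun j => by
    rw [Sigma.ι_desc_assoc, comp_zero]
    exact FormalFun.smulMod_comp_π L (hamem j.down)
  let S : ShortComplex X.Modules := ShortComplex.mk (kernel.ι π) π (kernel.condition π)
  have hS : S.ShortExact :=
    { exact := ShortComplex.exact_of_f_is_kernel _ (kernelIsKernel π) }
  have hcoker : IsColimit (CokernelCofork.ofπ π hφπ) := CokernelCofork.IsColimit.ofπ' π hφπ fun {T} h hh =>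
    ⟨cokernel.desc _ h (Sigma.hom_ext _ _ fun b => by
      rw [Formal.smulFamily, Sigma.ι_desc_assoc, comp_zero]
      have key : ∀ c ∈ I, Formal.smulMod A L c ≫ h = 0 := by
        intro c hc
        rw [← ha] at hc
        induction hc using Submodule.span_induction with
        | mem c hc =>
          obtain ⟨j, rfl⟩ := hc
          have := Sigma.ι F ⟨j⟩ ≫= hh
          rwa [comp_zero, Sigma.ι_desc_assoc] at this
        | zero => rw [FormalFun.smulMod_zero, zero_comp]
        | add c d _ _ h₁ h₂ => rw [FormalFun.smulMod_add, Preadditive.add_comp, h₁, h₂, add_zero]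
        | smul t c _ h₁ => rw [smul_eq_mul, mul_comm, smulMod_mul, Category.assoc, h₁, comp_zero]
      exact key _ b.2), cokernel.π_desc _ _ _⟩
  have hex : (ShortComplex.mk φ π hφπ).Exact := ShortComplex.exact_of_g_is_cokernel _ hcoker
  let e : ∐ F ⟶ kernel π := kernel.lift π φ hφπ
  haveI : Epi e := (ShortComplex.exact_iff_epi_kernel_lift _).1 hex
  let S' : ShortComplex X.Modules := ShortComplex.mk (kernel.ι e) e (kernel.condition e)
  have hS' : S'.ShortExact :=
    { exact := ShortComplex.exact_of_f_is_kernel _ (kernelIsKernel e) }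
  have hker : Coh.IsQCoh (kernel e) := by
    have hq := (CohDerLib.QC.closed_qcoh X)
    haveI : (L : X.Modules).IsQuasicoherent := hL.1
    haveI : ((Scheme.Modules.pullback i).obj L).IsQuasicoherent := QCoh.isQuasicoherent_pullback i L
    haveI : Q.IsQuasicoherent := hq.iso θ.symm (QCoh.isQuasicoherent_pushforward i _)
    exact hq.ker e (ProjTwist.Pn.isCoh_sigma F fun _ => hL).1 (hq.ker π hL.1 inferInstance)
  haveI := h2 _ hker
  have hsurj : ∀ y : Coh.HH X (kernel π) 1, ∃ z : Coh.HH X (∐ F) 1, CohLin.hMap e 1 z = y := fun y =>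
    CohLin.exists_hMap_g_eq hS' y (Subsingleton.elim _ _)
  refine ⟨fun x => ?_, fun hL1 => ?_⟩
  · obtain ⟨y, rfl⟩ := CohLin.exists_hMap_f_eq hS x (Subsingleton.elim _ _)
    obtain ⟨z, rfl⟩ := hsurj y
    obtain ⟨z', rfl⟩ : ∃ z', CohLin.hMap (biproduct.isoCoproduct F).hom 1 z' = z :=
      ⟨CohLin.hMap (biproduct.isoCoproduct F).inv 1 z, by rw [← CohLin.hMap_comp, Iso.inv_hom_id, CohLin.hMap_id]⟩
    haveI := Fintype.ofFinite (ULift.{u} (Fin r))
    rw [CohLin.eq_sum_hMap F 1 z', map_sum, map_sum, map_sum]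
    refine Submodule.sum_mem _ fun j _ => ?_
    simp only [← CohLin.hMap_comp, Category.assoc]
    have hcomp : biproduct.ι F j ≫ (biproduct.isoCoproduct F).hom ≫ e ≫ S.f = Formal.smulMod A L (a j.down) := by
      simp only [S, e, φ, kernel.lift_ι, biproduct.isoCoproduct_hom, biproduct.ι_desc_assoc, Sigma.ι_desc]
    rw [CohLin.hMap_comp, show biproduct.ι F j ≫ (biproduct.isoCoproduct F).hom ≫ e ≫ S.f = _ from hcomp]
    rw [FormalFun.hMap_smulMod]
    exact Submodule.smul_mem_smul (hamem j.down) trivial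
  · intro t
    haveI := hL1
    haveI : ∀ j, Subsingleton (Coh.HH X (F j) 1) := fun _ => hL1
    haveI := CohLin.subsingleton_sigma F 1
    haveI : Subsingleton (Coh.HH X S.X₁ 1) := subsingleton_of_forall_eq 0 fun y => by
      obtain ⟨z, rfl⟩ := hsurj y
      rw [Subsingleton.elim z 0, map_zero]
    obtain ⟨z, hz⟩ := CohLin.exists_hMap_g_eq hS ((FormalFun.Γ0 Q).symm (θ.inv.app ⊤ t)) (Subsingleton.elim _ _)
    refine ⟨FormalFun.Γ0 L z, ?_⟩
    have h := congrArg (FormalFun.Γ0 Q) hz
    rw [AddEquiv.apply_symm_apply, ← FormalFun.H_map_eq, FormalFun.Γ0_map] at h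
    rw [← hθ]
    refine (congrArg (θ.hom.app ⊤) h).trans ?_
    exact ConcreteCategory.congr_hom (congrArg (fun ψ => Scheme.Modules.Hom.app ψ (⊤ : X.Opens)) θ.inv_hom_id) t

/-- Over an affine Noetherian base with fibres of dimension at most one, sections lift from closed fibres
when the first cohomology of all closed fibres vanishes. -/
theorem surjective_unit_app (hL : Coh.IsCoh L)
    (h2 : ∀ F : X.Modules, Coh.IsQCoh F → Subsingleton (Coh.HH X F 2))
    (hfib : ∀ m : Ideal A, m.IsMaximal → ∃ (Z : Scheme.{u}) (i : Z ⟶ X), IsClosedImmersion i ∧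
      FormalFun.IsCut i (m ^ (0 + 1)) ∧ Coh.IsQCoh ((Scheme.Modules.pullback i).obj L) ∧
      Subsingleton (Coh.HH Z ((Scheme.Modules.pullback i).obj L) 1))
    {Z : Scheme.{u}} (i : Z ⟶ X) [IsClosedImmersion i] (m : Ideal A)
    (hi : FormalFun.IsCut i (m ^ (0 + 1))) [Coh.IsQCoh ((Scheme.Modules.pullback i).obj L)]
    (hZ : Subsingleton (Coh.HH Z ((Scheme.Modules.pullback i).obj L) 1)) :
    Function.Surjective (((Scheme.Modules.pullbackPushforwardAdjunction i).unit.app L).app ⊤) := by
  haveI : Module.Finite A (Coh.HH X L 1) := FormalFun.finiteCoh_of_proper A X L hL 1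
  refine (cut_step i m hi hL h2 hZ).2 ?_
  by_contra hne
  rw [not_subsingleton_iff_nontrivial] at hne
  have htop : Module.annihilator A (Coh.HH X L 1) ≠ ⊤ := fun h => by
    obtain ⟨x, y, hxy⟩ := hne
    have h1 : (1 : A) ∈ Module.annihilator A (Coh.HH X L 1) := h ▸ trivial
    exact hxy (by rw [← one_smul A x, ← one_smul A y, Module.mem_annihilator.1 h1, Module.mem_annihilator.1 h1])
  obtain ⟨n, hn, hle⟩ := Ideal.exists_le_maximal _ htop
  obtain ⟨Z', i', _, hc, hq, hZ'⟩ := hfib n hn
  haveI := hq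
  have hsm : (⊤ : Submodule A (Coh.HH X L 1)) ≤ n • (⊤ : Submodule A (Coh.HH X L 1)) := fun x _ => by
    have := (cut_step i' n hc hL h2 hZ').1 x
    rwa [zero_add, pow_one] at this
  obtain ⟨c, hc1, hc2⟩ := Submodule.exists_sub_one_mem_and_smul_eq_zero_of_fg_of_le_smul n ⊤ Module.Finite.fg_top hsm
  have hcn : c ∈ n := hle (Module.mem_annihilator.2 fun x => hc2 x trivial)
  exact hn.ne_top ((Ideal.eq_top_iff_one _).2 (by simpa using n.sub_mem hcn hc1))

end Groth.Agent.FlatMor.FibTrivLift
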