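import Groth.Agent.FlatMor.FreePushBasis
import Mathlib.AlgebraicGeometry.Morphisms.Finite
import Mathlib.RingTheory.TensorProduct.Free

/-!
# A finite morphism with free direct image over a scheme with constant functions comes from the base
-/

set_option autoImplicit false
set_option linter.style.haveILetI false
universe u

open AlgebraicGeometry CategoryTheory Limits TopologicalSpace Module

namespace Groth.Agent.FlatMor.FiniteFreePullback

open TensorProduct in
/-- A family which is a basis over `k` and over `R` exhibits `B` as a base change. -/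
theorem isPushout_of_basis {k R A B : Type u} [CommRing k] [CommRing R] [CommRing A] [CommRing B]
    [Algebra k R] [Algebra k A] [Algebra R B] [Algebra A B] [Algebra k B] [IsScalarTower k R B]
    [IsScalarTower k A B] {J : Type u} [Fintype J] (w : J → A)
    (hA : Function.Bijective fun a : J → k => ∑ j, a j • w j)
    (hB : Function.Bijective fun a : J → R => ∑ j, a j • algebraMap A B (w j)) :
    Algebra.IsPushout k R A B := by
  classical
  let bA : Basis J k A := .ofEquivFun (LinearEquiv.ofBijective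
    { toFun := fun a : J → k => ∑ j, a j • w j
      map_add' := fun a b => by simp [add_smul, Finset.sum_add_distrib]
      map_smul' := fun c a => by simp [Finset.smul_sum, smul_smul] } hA).symm
  let bB : Basis J R B := .ofEquivFun (LinearEquiv.ofBijective
    { toFun := fun a : J → R => ∑ j, a j • algebraMap A B (w j)
      map_add' := fun a b => by simp [add_smul, Finset.sum_add_distrib]
      map_smul' := fun c a => by simp [Finset.smul_sum, smul_smul] } hB).symm
  have hbA : ∀ j, bA j = w j := fun j => by simp [bA, Basis.coe_ofEquivFun, Pi.single_apply]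
  have hbB : ∀ j, bB j = algebraMap A B (w j) := fun j => by
    simp [bB, Basis.coe_ofEquivFun, Pi.single_apply]
  let e : R ⊗[k] A ≃ₗ[R] B := (Algebra.TensorProduct.basis R bA).equiv bB (Equiv.refl J)
  have he : (e.toLinearMap.restrictScalars k).comp (TensorProduct.mk k R A 1) =
      (IsScalarTower.toAlgHom k A B).toLinearMap := bA.ext fun j => by
    show e (1 ⊗ₜ bA j) = algebraMap A B (bA j)
    rw [← Algebra.TensorProduct.basis_apply, Basis.equiv_apply, Equiv.refl_apply, hbB, hbA]
  exact ⟨IsBaseChange.of_equiv e fun x => congr($he x)⟩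

variable {k : Type u} [CommRing k] {F P : Scheme.{u}}

/-- A finite morphism with free direct image onto a scheme with only constant functions is the base
change of `Spec` of its global functions. -/
theorem isPullback_toSpecΓ (q₀ : P ⟶ Spec (CommRingCat.of k)) (hq₀ : IsIso q₀.appTop) (f : F ⟶ P)
    [IsAffineHom f] {J : Type u} [Fintype J]
    (e : (Scheme.Modules.pushforward f).obj (SheafOfModules.unit F.ringCatSheaf) ≅
      ∐ fun _ : J => (SheafOfModules.unit P.ringCatSheaf : P.Modules)) :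
    IsPullback F.toSpecΓ f
      (Spec.map ((Scheme.ΓSpecIso (CommRingCat.of k)).inv ≫ q₀.appTop ≫ f.appTop)) q₀ := by
  obtain ⟨w, hw⟩ := FreePushBasis.exists_basis f e
  let gP := (Scheme.ΓSpecIso (CommRingCat.of k)).inv ≫ q₀.appTop
  let q := Spec.map ((Scheme.ΓSpecIso (CommRingCat.of k)).inv ≫ q₀.appTop ≫ f.appTop)
  have hqe : q₀ = P.toSpecΓ ≫ Spec.map gP := by
    rw [Spec.map_comp, ← Category.assoc, ← Scheme.toSpecΓ_naturality, Category.assoc]
    simp
  have hw0 : q₀ ≫ 𝟙 _ = q₀ := Category.comp_id _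
  have hcomm : F.toSpecΓ ≫ q = f ≫ q₀ := by
    rw [hqe, ← Category.assoc, Scheme.toSpecΓ_naturality, Category.assoc, ← Spec.map_comp]
    simp [q, gP]
  let φ : F ⟶ pullback q q₀ := pullback.lift F.toSpecΓ f hcomm
  suffices IsIso φ from IsPullback.of_iso_pullback ⟨hcomm⟩ (asIso φ) (pullback.lift_fst _ _ _)
    (pullback.lift_snd _ _ _)
  -- the affine pieces
  have key : ∀ U : P.Opens, IsAffineOpen U → ∀ V : F.Opens, (hV : V = f ⁻¹ᵁ U) →
      IsPullback (V.ι ≫ F.toSpecΓ) (f.resLE U V hV.le) q (U.ι ≫ q₀) := by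
    intro U hU V hV
    subst hV
    have hVa : IsAffineOpen (f ⁻¹ᵁ U) := hU.preimage f
    let resP := P.presheaf.map (homOfLE (le_top : U ≤ ⊤)).op
    let resF := F.presheaf.map (homOfLE (le_top : f ⁻¹ᵁ U ≤ ⊤)).op
    letI : Algebra k Γ(P, U) := (gP ≫ resP).hom.toAlgebra
    letI : Algebra k Γ(F, ⊤) := (gP ≫ f.appTop).hom.toAlgebra
    letI : Algebra Γ(P, U) Γ(F, f ⁻¹ᵁ U) := (f.app U).hom.toAlgebra
    letI : Algebra Γ(F, ⊤) Γ(F, f ⁻¹ᵁ U) := resF.hom.toAlgebra
    letI : Algebra k Γ(F, f ⁻¹ᵁ U) := ((gP ≫ resP) ≫ f.app U).hom.toAlgebra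
    haveI : IsScalarTower k Γ(P, U) Γ(F, f ⁻¹ᵁ U) := .of_algebraMap_eq' rfl
    have hnat : resP ≫ f.app U = f.appTop ≫ resF := f.naturality (homOfLE le_top).op
    haveI : IsScalarTower k Γ(F, ⊤) Γ(F, f ⁻¹ᵁ U) := .of_algebraMap_eq' (by
      show ((gP ≫ resP) ≫ f.app U).hom = ((gP ≫ f.appTop) ≫ resF).hom
      simp only [gP, Category.assoc, hnat])
    have hA : Function.Bijective fun a : J → k => ∑ j, a j • w j := by
      have hgP : Function.Bijective gP.hom := ConcreteCategory.bijective_of_isIso gP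
      have h1 : (fun a : J → k => ∑ j, a j • w j) =
          (fun a : J → Γ(P, ⊤) => ∑ j, f.app ⊤ (a j) * F.presheaf.map (homOfLE le_top).op (w j)) ∘
            fun a j => gP.hom (a j) := by
        funext a
        refine Finset.sum_congr rfl fun j _ => ?_
        rw [Algebra.smul_def]
        refine congrArg₂ (· * ·) rfl ?_
        show w j = F.presheaf.map (𝟙 (Opposite.op (⊤ : F.Opens))) (w j)
        rw [CategoryTheory.Functor.map_id]
        rfl
      rw [h1]
      exact (hw ⊤).comp hgP.comp_left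
    haveI : Algebra.IsPushout k Γ(P, U) Γ(F, ⊤) Γ(F, f ⁻¹ᵁ U) := isPushout_of_basis w hA (hw U)
    have sq := (isPullback_SpecMap_of_isPushout _ _ _ _
      (CommRingCat.isPushout_of_isPushout k Γ(P, U) Γ(F, ⊤) Γ(F, f ⁻¹ᵁ U))).flip
    refine sq.of_iso hVa.isoSpec.symm (Iso.refl _) hU.isoSpec.symm (Iso.refl _) ?_ ?_ ?_ ?_
    · rw [← cancel_epi hVa.isoSpec.hom]
      simp only [Iso.symm_hom, Iso.hom_inv_id_assoc, Iso.refl_hom, Category.comp_id]
      rw [hVa.isoSpec_hom]
      exact (f ⁻¹ᵁ U).toSpecΓ_SpecMap_presheaf_map_top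
    · rw [← cancel_mono U.ι, ← cancel_epi hVa.isoSpec.hom]
      simp only [Iso.symm_hom, Category.assoc, Iso.hom_inv_id_assoc, Scheme.Hom.resLE_comp_ι]
      rw [← hVa.isoSpec_hom_fromSpec, Category.assoc, ← hU.isoSpec_hom_fromSpec,
        Iso.inv_hom_id_assoc, show CommRingCat.ofHom (algebraMap Γ(P, U) Γ(F, f ⁻¹ᵁ U)) =
          f.appLE U (f ⁻¹ᵁ U) le_rfl from (f.app_eq_appLE)]
      exact congrArg (hVa.isoSpec.hom ≫ ·) (IsAffineOpen.SpecMap_appLE_fromSpec f hU hVa le_rfl)
    · simp only [Iso.refl_hom, Category.comp_id, Category.id_comp]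
      rfl
    · rw [← cancel_epi hU.isoSpec.hom]
      simp only [Iso.symm_hom, Iso.hom_inv_id_assoc, Iso.refl_hom, Category.comp_id]
      rw [hU.isoSpec_hom, hqe, ← Category.assoc, ← U.toSpecΓ_SpecMap_presheaf_map_top, Category.assoc,
        ← Spec.map_comp]
      rfl
  rw [← MorphismProperty.isomorphisms.iff]
  have hsup : ⨆ U : P.affineOpens, pullback.snd q q₀ ⁻¹ᵁ U.1 = ⊤ := by
    rw [← Scheme.Hom.preimage_iSup, iSup_affineOpens_eq_top, Scheme.Hom.preimage_top]
  rw [IsZariskiLocalAtTarget.iff_of_iSup_eq_top (P := MorphismProperty.isomorphisms Scheme.{u}) _ hsup]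
  intro U
  rw [MorphismProperty.isomorphisms.iff]
  let W := pullback.snd q q₀ ⁻¹ᵁ U.1
  have hVW : φ ⁻¹ᵁ W = f ⁻¹ᵁ U.1 := by
    rw [← Scheme.Hom.comp_preimage, pullback.lift_snd]
  have sq1 := key U.1 U.2 (φ ⁻¹ᵁ W) hVW
  have sq2 : IsPullback (W.ι ≫ pullback.fst q q₀) (pullback.snd q q₀ ∣_ U.1) q (U.1.ι ≫ q₀) :=
    ((isPullback_morphismRestrict (pullback.snd q q₀) U.1).paste_vert
      (IsPullback.of_hasPullback q q₀).flip).flip
  have : φ ∣_ W = (sq1.isoIsPullback _ _ sq2).hom := by
    refine sq2.hom_ext ?_ ?_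
    · rw [IsPullback.isoIsPullback_hom_fst, morphismRestrict_ι_assoc, pullback.lift_fst]
    · rw [IsPullback.isoIsPullback_hom_snd, ← cancel_mono U.1.ι, Category.assoc, morphismRestrict_ι,
        morphismRestrict_ι_assoc, pullback.lift_snd, Scheme.Hom.resLE_comp_ι]
  rw [show φ ∣_ pullback.snd q q₀ ⁻¹ᵁ U.1 = (sq1.isoIsPullback _ _ sq2).hom from this]
  infer_instance

/-- A finite morphism with free direct image onto a scheme with only constant functions is the base
change of its fibre at a rational point. -/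
theorem nonempty_iso (q₀ : P ⟶ Spec (CommRingCat.of k)) (hq₀ : IsIso q₀.appTop)
    (s : Spec (CommRingCat.of k) ⟶ P) (hs : s ≫ q₀ = 𝟙 _) (f : F ⟶ P) [IsAffineHom f]
    {J : Type u} [Fintype J]
    (e : (Scheme.Modules.pushforward f).obj (SheafOfModules.unit F.ringCatSheaf) ≅
      ∐ fun _ : J => (SheafOfModules.unit P.ringCatSheaf : P.Modules)) :
    Nonempty (Over.mk f ≅ Over.mk (pullback.snd (pullback.snd f s) q₀)) := by
  have sqF := isPullback_toSpecΓ q₀ hq₀ f e
  let q := Spec.map ((Scheme.ΓSpecIso (CommRingCat.of k)).inv ≫ q₀.appTop ≫ f.appTop)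
  have sqG := (IsPullback.of_hasPullback f s).flip.paste_vert sqF.flip
  rw [hs] at sqG
  -- the fibre is `Spec` of the global functions
  let a : pullback f s ⟶ Spec Γ(F, ⊤) := pullback.fst f s ≫ F.toSpecΓ
  haveI : IsIso a := MorphismProperty.of_isPullback (P := MorphismProperty.isomorphisms Scheme.{u})
    sqG (show MorphismProperty.isomorphisms Scheme.{u} (𝟙 _) from inferInstanceAs (IsIso (𝟙 _)))
  have ha : a ≫ q = pullback.snd f s := by
    rw [sqG.flip.w, Category.comp_id]
  have sqR : IsPullback (pullback.fst (pullback.snd f s) q₀ ≫ a) (pullback.snd (pullback.snd f s) q₀) q q₀ := by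
    refine IsPullback.of_iso (IsPullback.of_hasPullback (pullback.snd f s) q₀) (Iso.refl _) (asIso a)
      (Iso.refl _) (Iso.refl _) ?_ ?_ ?_ ?_
    · simp
    · simp
    · simp [ha]
    · simp
  exact ⟨Over.isoMk (sqF.isoIsPullback _ _ sqR) (IsPullback.isoIsPullback_hom_snd _ _ _ _)⟩

end Groth.Agent.FlatMor.FiniteFreePullback
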