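import Groth.Agent.LocFlat.Basic
import Mathlib.RingTheory.Flat.Localization

/-!
Flatness at a point from flatness on all infinitesimal neighbourhoods of a closed subscheme.
-/

universe u

open Function
open scoped TensorProduct

namespace Groth.Agent.FlatMor.FlatInfNbhd

variable {R : Type u} [CommRing R]

/-- Injectivity after tensoring with `M` for maps between modules killed by `I`, from flatness of
`T ⊗ M` over a quotient `T = R / I`. -/
theorem lTensor_injective_of_killed (I : Ideal R) (T : Type u) [CommRing T] [Algebra R T]
    (hT : Surjective (algebraMap R T)) (hker : RingHom.ker (algebraMap R T) = I)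
    (M : Type u) [AddCommGroup M] [Module R M] [Module.Flat T (T ⊗[R] M)]
    {P Q : Type u} [AddCommGroup P] [Module R P] [AddCommGroup Q] [Module R Q]
    (a : P →ₗ[R] Q) (ha : Injective a) (hQ : I • (⊤ : Submodule R Q) = ⊥) :
    Injective (a.rTensor M) := by
  have hQ' : ∀ r ∈ I, ∀ x : Q, r • x = 0 := fun r hr x => by
    rw [← Submodule.mem_bot R, ← hQ]; exact Submodule.smul_mem_smul hr trivial
  have hP' : ∀ r ∈ I, ∀ x : P, r • x = 0 := fun r hr x => ha (by rw [map_smul, hQ' r hr, map_zero])
  let e : (R ⧸ I) ≃+* T := (Ideal.quotEquivOfEq hker.symm).trans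
    (RingHom.quotientKerEquivOfSurjective hT)
  have he : ∀ r, e (Ideal.Quotient.mk I r) = algebraMap R T r := fun r => rfl
  have hPs : Module.IsTorsionBySet R P (I : Set R) := fun x r => hP' r r.2 x
  have hQs : Module.IsTorsionBySet R Q (I : Set R) := fun x r => hQ' r r.2 x
  letI := hPs.module
  letI := hQs.module
  letI : Module T P := Module.compHom P e.symm.toRingHom
  letI : Module T Q := Module.compHom Q e.symm.toRingHom
  have hsP : ∀ (r : R) (x : P), algebraMap R T r • x = r • x := fun r x => by
    show e.symm (algebraMap R T r) • x = r • x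
    rw [← he, e.symm_apply_apply]; rfl
  have hsQ : ∀ (r : R) (x : Q), algebraMap R T r • x = r • x := fun r x => by
    show e.symm (algebraMap R T r) • x = r • x
    rw [← he, e.symm_apply_apply]; rfl
  haveI : IsScalarTower R T P := .of_algebraMap_smul hsP
  haveI : IsScalarTower R T Q := .of_algebraMap_smul hsQ
  let a' : P →ₗ[T] Q := { a with
    map_smul' := fun t x => by
      obtain ⟨r, rfl⟩ := hT t
      show a (algebraMap R T r • x) = _
      rw [hsP, map_smul, RingHom.id_apply, hsQ]; rfl }
  have hinj : Injective (a'.rTensor (T ⊗[R] M)) :=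
    Module.Flat.rTensor_preserves_injective_linearMap _ ha
  have hcomm : ∀ z, a.rTensor M (TensorProduct.AlgebraTensorModule.cancelBaseChange R T T P M z) =
      TensorProduct.AlgebraTensorModule.cancelBaseChange R T T Q M (a'.rTensor (T ⊗[R] M) z) := by
    intro z
    induction z with
    | zero => simp
    | tmul x y =>
      induction y with
      | zero => simp
      | tmul t m =>
        simp only [TensorProduct.AlgebraTensorModule.cancelBaseChange_tmul, LinearMap.rTensor_tmul]
        obtain ⟨r, rfl⟩ := hT t
        rw [hsP, hsQ, map_smul]; rfl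
      | add y y' hy hy' => simp only [TensorProduct.tmul_add, map_add, hy, hy']
    | add z z' hz hz' => simp only [map_add, hz, hz']
  intro x y hxy
  obtain ⟨x, rfl⟩ := (TensorProduct.AlgebraTensorModule.cancelBaseChange R T T P M).surjective x
  obtain ⟨y, rfl⟩ := (TensorProduct.AlgebraTensorModule.cancelBaseChange R T T P M).surjective y
  rw [hcomm, hcomm] at hxy
  rw [hinj ((TensorProduct.AlgebraTensorModule.cancelBaseChange R T T Q M).injective hxy)]

/-- Tensoring with a flat `A`-algebra preserves injectivity of `a ⊗ A`. -/
theorem rTensor_injective_of_flat {A B : Type u} [CommRing A] [Algebra R A] [CommRing B] [Algebra R B]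
    [Algebra A B] [IsScalarTower R A B] [Module.Flat A B]
    {P Q : Type u} [AddCommGroup P] [Module R P] [AddCommGroup Q] [Module R Q]
    (a : P →ₗ[R] Q) (h : Injective (a.rTensor A)) : Injective (a.rTensor B) := by
  rw [← LinearMap.lTensor_inj_iff_rTensor_inj] at h ⊢
  have hinj : Injective ((a.baseChange A).lTensor B) :=
    Module.Flat.lTensor_preserves_injective_linearMap _ h
  have hcomm : ∀ z, a.lTensor B (TensorProduct.AlgebraTensorModule.cancelBaseChange R A A B P z) =
      TensorProduct.AlgebraTensorModule.cancelBaseChange R A A B Q ((a.baseChange A).lTensor B z) := by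
    intro z
    induction z with
    | zero => simp
    | tmul x y =>
      induction y with
      | zero => simp
      | tmul r l => simp
      | add y y' hy hy' => simp only [TensorProduct.tmul_add, map_add, hy, hy']
    | add z z' hz hz' => simp only [map_add, hz, hz']
  intro x y hxy
  obtain ⟨x, rfl⟩ := (TensorProduct.AlgebraTensorModule.cancelBaseChange R A A B P).surjective x
  obtain ⟨y, rfl⟩ := (TensorProduct.AlgebraTensorModule.cancelBaseChange R A A B P).surjective y
  rw [hcomm, hcomm] at hxy
  rw [hinj ((TensorProduct.AlgebraTensorModule.cancelBaseChange R A A B Q).injective hxy)]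

/-- A prime of `A` over `V(J)` is a point of flatness once all `A / J^(n+1) A` are flat. -/
theorem flat_atPrime [IsNoetherianRing R] {A : Type u} [CommRing A] [Algebra R A] [IsNoetherianRing A]
    (J : Ideal R) (q : Ideal A) [q.IsPrime] (hJ : J ≤ q.comap (algebraMap R A))
    (h : ∀ n : ℕ, ∃ (T : Type u) (_ : CommRing T) (_ : Algebra R T), Surjective (algebraMap R T) ∧
      RingHom.ker (algebraMap R T) = J ^ (n + 1) ∧ Module.Flat T (T ⊗[R] A)) :
    Module.Flat R (Localization.AtPrime q) := by
  refine LocFlat.flat_of_forall_pow (S := Localization.AtPrime q) _ J ?_ fun n P Q _ _ _ _ a ha hQ => ?_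
  · rw [IsLocalRing.jacobson_eq_maximalIdeal ⊥ bot_ne_top, Ideal.map_le_iff_le_comap,
      IsScalarTower.algebraMap_eq R A, ← Ideal.comap_comap]
    exact hJ.trans (Ideal.comap_mono (IsLocalization.AtPrime.comap_maximalIdeal (Localization.AtPrime q) q).ge)
  · obtain ⟨T, _, _, hT, hker, hflat⟩ := h n
    have hQ' : J ^ (n + 1) • (⊤ : Submodule R Q) = ⊥ :=
      eq_bot_iff.mpr (hQ ▸ Submodule.smul_mono_left (Ideal.pow_le_pow_right n.le_succ))
    exact rTensor_injective_of_flat (B := Localization.AtPrime q) a
      (lTensor_injective_of_killed _ T hT hker A a ha hQ')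

end Groth.Agent.FlatMor.FlatInfNbhd
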