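import Groth.Prelude.Def_CohB1
import Mathlib.CategoryTheory.Preadditive.Biproducts
import Mathlib.Algebra.Category.ModuleCat.Sheaf.Free

/-!
# A free direct image of the structure sheaf has a basis of global functions
-/

set_option autoImplicit false
universe u

open AlgebraicGeometry CategoryTheory Limits TopologicalSpace

namespace Groth.Agent.FlatMor.FreePushBasis

variable {F P : Scheme.{u}} {J : Type u} [Fintype J]

/-- If the direct image of the structure sheaf is free, global functions form a basis over every open. -/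
theorem exists_basis (f : F ⟶ P)
    (e : (Scheme.Modules.pushforward f).obj (SheafOfModules.unit F.ringCatSheaf) ≅
      ∐ fun _ : J => (SheafOfModules.unit P.ringCatSheaf : P.Modules)) :
    ∃ w : J → Γ(F, ⊤), ∀ U : P.Opens, Function.Bijective fun a : J → Γ(P, U) =>
      ∑ j, f.app U (a j) * F.presheaf.map (homOfLE le_top).op (w j) := by
  classical
  let u : P.Modules := SheafOfModules.unit P.ringCatSheaf
  let M : P.Modules := (Scheme.Modules.pushforward f).obj (SheafOfModules.unit F.ringCatSheaf)
  haveI : HasBiproduct (fun _ : J => u) := HasBiproduct.of_hasCoproduct _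
  let e' : M ≅ ⨁ (fun _ : J => u) := e ≪≫ (biproduct.isoCoproduct _).symm
  let i : J → (u ⟶ M) := fun j => biproduct.ι (fun _ : J => u) j ≫ e'.inv
  let p : J → (M ⟶ u) := fun j => e'.hom ≫ biproduct.π (fun _ : J => u) j
  have hip : ∀ j, i j ≫ p j = 𝟙 u := fun j => by simp [i, p]
  have hip0 : ∀ j l, j ≠ l → i j ≫ p l = 0 := fun j l h => by simp [i, p, biproduct.ι_π_ne _ h]
  have hsum : ∑ j, p j ≫ i j = 𝟙 M := by
    have : ∑ j, biproduct.π (fun _ : J => u) j ≫ biproduct.ι (fun _ : J => u) j = 𝟙 _ := by
      refine biproduct.hom_ext' _ _ fun l => ?_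
      rw [Preadditive.comp_sum, Finset.sum_eq_single l (fun j _ hj => by
        rw [biproduct.ι_π_ne_assoc _ hj.symm, zero_comp]) (by simp)]
      simp
    calc ∑ j, p j ≫ i j
        = e'.hom ≫ (∑ j, biproduct.π (fun _ : J => u) j ≫ biproduct.ι (fun _ : J => u) j) ≫ e'.inv := by
          simp [i, p, Preadditive.sum_comp, Preadditive.comp_sum]
      _ = 𝟙 M := by rw [this]; simp
  refine ⟨fun j => (i j).app ⊤ (1 : Γ(P, ⊤)), fun U => ?_⟩
  have hi : ∀ (j : J) (a : Γ(P, U)), (i j).app U a =
      (f.app U a * F.presheaf.map (homOfLE le_top).op ((i j).app ⊤ (1 : Γ(P, ⊤))) : Γ(F, f ⁻¹ᵁ U)) := by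
    intro j a
    have h1 : (i j).app U (1 : Γ(P, U)) =
        F.presheaf.map (homOfLE le_top).op ((i j).app ⊤ (1 : Γ(P, ⊤))) := by
      have h := congr($((i j).mapPresheaf.naturality (homOfLE le_top : U ⟶ ⊤).op) (1 : Γ(P, ⊤)))
      refine Eq.trans ?_ h
      show (i j).app U (1 : Γ(P, U)) = (i j).app U (P.presheaf.map (homOfLE le_top).op (1 : Γ(P, ⊤)))
      rw [map_one]
    have h2 : (a • (1 : Γ(P, U)) : Γ(u, U)) = a := mul_one a
    calc (i j).app U a = (i j).app U (a • (1 : Γ(P, U)) : Γ(u, U)) := by rw [h2]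
      _ = a • (i j).app U (1 : Γ(P, U)) := Scheme.Modules.Hom.app_smul _ _ _
      _ = _ := by rw [h1]; rfl
  constructor
  · intro a b hab
    funext l
    have hl : ∀ c : J → Γ(P, U), (p l).app U (∑ j, (i j).app U (c j)) = c l := fun c => by
      rw [map_sum, Finset.sum_eq_single l]
      · exact congr($(congrArg (fun φ : u ⟶ u => Scheme.Modules.Hom.app φ U) (hip l)) (c l))
      · intro j _ hj
        exact congr($(congrArg (fun φ : u ⟶ u => Scheme.Modules.Hom.app φ U) (hip0 j l hj)) (c j))
      · simp
    rw [← hl a, ← hl b]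
    congr 1
    simp only [hi]
    exact hab
  · intro x
    refine ⟨fun j => (p j).app U x, ?_⟩
    have h := congr($(congrArg (fun φ : M ⟶ M => Scheme.Modules.Hom.app φ U) hsum) (show Γ(M, U) from x))
    refine Eq.trans ?_ h
    simp only [← hi]
    generalize (Finset.univ : Finset J) = t
    induction t using Finset.induction_on with
    | empty => simp; rfl
    | insert b t hb ih =>
      rw [Finset.sum_insert hb, Finset.sum_insert hb, ih]
      rfl

end Groth.Agent.FlatMor.FreePushBasis
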