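import Groth.Agent.Thick.Unram
import Mathlib.AlgebraicGeometry.FunctionField
import Mathlib.AlgebraicGeometry.Morphisms.Flat
import Mathlib.RingTheory.Flat.Equalizer

/-!
The generic fibre of a flat scheme over an integral base is schematically dense.
-/

universe u

open AlgebraicGeometry CategoryTheory Limits Opposite TopologicalSpace

namespace Groth.Agent.FlatMor.GenericDense

variable {T Y : Scheme.{u}} [IsIntegral T] (p : Y ⟶ T) [Flat p]

theorem app_injective_of_affine {W : T.Opens} (hW : IsAffineOpen W) {V : Y.Opens} (hV : IsAffineOpen V)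
    (e : V ≤ p ⁻¹ᵁ W) (hne : Nonempty V) :
    Function.Injective ((pullback.fst p (T.fromSpecStalk (genericPoint T))).app V).hom := by
  let i := T.fromSpecStalk (genericPoint T)
  have : Nonempty W := ⟨⟨p hne.some.1, e hne.some.2⟩⟩
  have hη : genericPoint T ∈ W :=
    ((genericPoint_spec T).mem_open_set_iff W.isOpen).mpr (by simpa using (Set.nonempty_coe_sort.mp ‹Nonempty W›))
  have hpre : i ⁻¹ᵁ W = ⊤ := by
    refine top_unique fun z _ => ?_
    have hz : i z ⤳ genericPoint T := by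
      have : i z ∈ Set.range i := ⟨z, rfl⟩
      rwa [Scheme.range_fromSpecStalk] at this
    exact hz.mem_open W.isOpen hη
  have hiW : IsAffineOpen (i ⁻¹ᵁ W) := hpre ▸ isAffineOpen_top _
  let hc := (IsPullback.of_hasPullback p i)
  let j := pullback.fst p i
  let q := pullback.snd p i
  have h' : j ⁻¹ᵁ V ≤ q ⁻¹ᵁ (i ⁻¹ᵁ W) := by rw [hpre]; exact le_top
  have hUY : j ⁻¹ᵁ V = j ⁻¹ᵁ V ⊓ q ⁻¹ᵁ (i ⁻¹ᵁ W) := (inf_eq_left.mpr h').symm
  have h := (isIso_pushoutSection_iff hc le_rfl e hUY).mp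
    (isIso_pushoutSection_of_isAffineOpen hc le_rfl e hUY hW hiW hV)
  let K := Γ(Spec (T.presheaf.stalk (genericPoint T)), i ⁻¹ᵁ W)
  let P := Γ(pullback p i, j ⁻¹ᵁ V)
  let _ : Algebra Γ(T, W) Γ(Y, V) := (p.appLE W V e).hom.toAlgebra
  let _ : Algebra Γ(T, W) K := (i.app W).hom.toAlgebra
  let _ : Algebra Γ(Y, V) P := (j.app V).hom.toAlgebra
  let _ : Algebra K P := (q.appLE (i ⁻¹ᵁ W) (j ⁻¹ᵁ V) h').hom.toAlgebra
  let _ : Algebra Γ(T, W) P := ((algebraMap Γ(Y, V) P).comp (algebraMap Γ(T, W) Γ(Y, V))).toAlgebra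
  have h1 : IsPushout (p.appLE W V e) (i.app W) (j.app V) (q.appLE (i ⁻¹ᵁ W) (j ⁻¹ᵁ V) h') := by
    simpa [Scheme.Hom.app_eq_appLE] using h
  have : IsScalarTower Γ(T, W) Γ(Y, V) P := .of_algebraMap_eq fun _ => rfl
  have : IsScalarTower Γ(T, W) K P := .of_algebraMap_eq' (congrArg CommRingCat.Hom.hom h1.w)
  have : Algebra.IsPushout Γ(T, W) Γ(Y, V) K P := CommRingCat.isPushout_iff_isPushout.mp h1
  have : Module.Flat Γ(T, W) Γ(Y, V) := HasRingHomProperty.appLE @Flat p ‹_› ⟨W, hW⟩ ⟨V, hV⟩ e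
  have hK : Function.Injective (algebraMap Γ(T, W) K) := by
    show Function.Injective (i.app W).hom
    rw [show i.app W = _ from Scheme.fromSpecStalk_app hη]
    simp only [CommRingCat.hom_comp, RingHom.coe_comp]
    refine Function.Injective.comp ?_ (T.germToFunctionField_injective W)
    have : IsIso (homOfLE (le_top : i ⁻¹ᵁ W ≤ ⊤)) :=
      ⟨homOfLE hpre.ge, Subsingleton.elim _ _, Subsingleton.elim _ _⟩
    exact (ConcreteCategory.bijective_of_isIso ((Scheme.ΓSpecIso _).inv ≫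
      (Spec (T.presheaf.stalk (genericPoint T))).presheaf.map (homOfLE le_top).op)).1
  have hinj := Algebra.TensorProduct.includeLeft_injective (S := Γ(T, W)) (A := Γ(Y, V)) hK
  intro a b hab
  refine hinj ((Algebra.IsPushout.equiv Γ(T, W) Γ(Y, V) K P).injective ?_)
  have e1 : ∀ c : Γ(Y, V), Algebra.IsPushout.equiv Γ(T, W) Γ(Y, V) K P
      (Algebra.TensorProduct.includeLeft (S := Γ(T, W)) c) = algebraMap Γ(Y, V) P c := fun c => by
    simp [Algebra.IsPushout.equiv_tmul]
  exact ((e1 a).trans hab).trans (e1 b).symm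

/-- Sections are determined on the generic fibre. -/
theorem app_injective (V : Y.Opens) :
    Function.Injective ((pullback.fst p (T.fromSpecStalk (genericPoint T))).app V).hom := by
  rw [injective_iff_map_eq_zero]
  intro s hs
  have key : ∀ y : V, ∃ (V' : Y.Opens) (hle : V' ≤ V), y.1 ∈ V' ∧ Y.presheaf.map (homOfLE hle).op s = 0 := by
    rintro ⟨y, hy⟩
    obtain ⟨_, ⟨W, hW, rfl⟩, hyW, -⟩ := T.isBasis_affineOpens.exists_subset_of_mem_open
      (Set.mem_univ (p y)) isOpen_univ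
    obtain ⟨_, ⟨V', hV', rfl⟩, hyV', hle⟩ := Y.isBasis_affineOpens.exists_subset_of_mem_open
      (show y ∈ ((V ⊓ p ⁻¹ᵁ W : Y.Opens) : Set Y) from ⟨hy, hyW⟩) (V ⊓ p ⁻¹ᵁ W).isOpen
    refine ⟨V', fun z hz => (hle hz).1, hyV', ?_⟩
    refine app_injective_of_affine p hW hV' (fun z hz => (hle hz).2) ⟨⟨y, hyV'⟩⟩ ?_
    rw [map_zero, ← CommRingCat.comp_apply, Scheme.Hom.naturality, CommRingCat.comp_apply, hs, map_zero]
  choose V' hle hmem hres using key
  refine Y.sheaf.eq_of_locally_eq' V' V (fun y => homOfLE (hle y))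
    (fun z hz => TopologicalSpace.Opens.mem_iSup.mpr ⟨⟨z, hz⟩, hmem _⟩) _ _ fun y => ?_
  exact (hres y).trans (map_zero (Y.presheaf.map (homOfLE (hle y)).op).hom).symm

/-- Composing with the generic fibre does not change the kernel of an affine morphism. -/
theorem ker_comp {Z : Scheme.{u}} (g : Y ⟶ Z) :
    (pullback.fst p (T.fromSpecStalk (genericPoint T)) ≫ g).ker = g.ker := by
  rw [Scheme.Hom.ker, Scheme.Hom.ker]
  congr 1
  funext U
  rw [Scheme.Hom.comp_app]
  exact RingHom.ker_comp_of_injective _ (app_injective p (g ⁻¹ᵁ U.1))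

end Groth.Agent.FlatMor.GenericDense
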