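import Groth.Agent.FlatMisc.GenericFlat
import Mathlib.AlgebraicGeometry.Morphisms.UniversallyOpen
import Mathlib.AlgebraicGeometry.Fiber
import Mathlib.AlgebraicGeometry.Noetherian

/-!
# A morphism of finite type is quasi-separated over a nonempty open of an integral base
-/

set_option autoImplicit false
universe u

open AlgebraicGeometry CategoryTheory Limits TopologicalSpace

namespace Groth.Agent.FlatMor.GenericQS

variable {X S : Scheme.{u}} (f : X ⟶ S) [IsIntegral S] [IsAffine S] [LocallyOfFiniteType f]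

/-- An open subset of an affine chart is quasi-compact over a nonempty open of the base. -/
theorem exists_compact_piece {U : X.Opens} (hU : IsAffineOpen U) (O : X.Opens) (hO : O ≤ U) :
    ∃ (W : S.Opens) (Q : X.Opens), (W : Set S).Nonempty ∧ IsCompact (Q : Set X) ∧ Q ≤ O ∧
      ∀ x : X, f x ∈ W → x ∈ O → x ∈ Q := by
  classical
  have : IsAffine (U : Scheme.{u}) := hU
  let h := U.ι ≫ f
  let η := genericPoint S
  have : QuasiCompact h := inferInstance
  have : LocallyOfFiniteType (h.fiberToSpecResidueField η) :=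
    MorphismProperty.pullback_snd _ _ inferInstance
  have : QuasiCompact (h.fiberToSpecResidueField η) := MorphismProperty.pullback_snd _ _ inferInstance
  have : IsLocallyNoetherian (h.fiber η) :=
    LocallyOfFiniteType.isLocallyNoetherian (h.fiberToSpecResidueField η)
  have : CompactSpace (h.fiber η) :=
    QuasiCompact.compactSpace_of_compactSpace (h.fiberToSpecResidueField η)
  have : IsNoetherian (h.fiber η) := ⟨⟩
  let j := h.fiberι η ≫ U.ι
  have hj : IsCompact ((O : Set X) ∩ Set.range j) := by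
    have : (O : Set X) ∩ Set.range j = j '' (j ⁻¹' (O : Set X)) := by
      rw [Set.image_preimage_eq_inter_range]
    rw [this]
    exact (TopologicalSpace.NoetherianSpace.isCompact _).image j.continuous
  obtain ⟨t, ht, hfin, hcov⟩ := hj.elim_finite_subcover_image
    (b := {V : X.Opens | IsAffineOpen V ∧ V ≤ O}) (c := fun V => (V : Set X)) (fun V _ => V.2)
    (fun x hx => by
      obtain ⟨_, ⟨V, hV, rfl⟩, hxV, hVO⟩ := X.isBasis_affineOpens.exists_subset_of_mem_open hx.1 O.2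
      exact Set.mem_biUnion (show V ∈ {V : X.Opens | IsAffineOpen V ∧ V ≤ O} from ⟨hV, hVO⟩) hxV)
  let Q : X.Opens := ⟨⋃ V ∈ t, (V : Set X), isOpen_biUnion fun V _ => V.2⟩
  let T : Closeds U := ⟨(U.ι ⁻¹' (Q : Set X))ᶜ, (Q.2.preimage U.ι.continuous).isClosed_compl⟩
  let q := (Scheme.IdealSheafData.vanishingIdeal T).subschemeι ≫ h
  obtain ⟨W, -, hWne, hflat, -⟩ := FlatMisc.GenericFlat.exists_open q ⊤ ⟨η, trivial⟩
  refine ⟨W, Q, hWne, hfin.isCompact_biUnion fun V hV => (ht hV).1.isCompact,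
    fun x hx => by
      obtain ⟨V, hV, hxV⟩ := Set.mem_iUnion₂.mp hx
      exact (ht hV).2 hxV, fun x hxW hxO => ?_⟩
  by_contra hxQ
  obtain ⟨z, hz⟩ : (⟨x, hO hxO⟩ : U) ∈
      Set.range (Scheme.IdealSheafData.vanishingIdeal T).subschemeι := by
    rw [Scheme.IdealSheafData.range_subschemeι, Scheme.IdealSheafData.coe_support_vanishingIdeal]
    exact hxQ
  have hqz : q z = f x := by
    show h ((Scheme.IdealSheafData.vanishingIdeal T).subschemeι z) = _
    rw [hz]
    rfl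
  have hzW : z ∈ q ⁻¹ᵁ W := show q z ∈ W by rw [hqz]; exact hxW
  have hηW : η ∈ W := (genericPoint_specializes _).mem_open W.2 hxW
  have hsp : (⟨η, hηW⟩ : W) ⤳ (q ∣_ W) ⟨z, hzW⟩ :=
    W.ι.isOpenEmbedding.isInducing.specializes_iff.mp (genericPoint_specializes _)
  obtain ⟨z', hz', he⟩ := Flat.generalizingMap (q ∣_ W) hsp
  let w : X := U.ι ((Scheme.IdealSheafData.vanishingIdeal T).subschemeι ((q ⁻¹ᵁ W).ι z'))
  have hwx : w ⤳ x := by
    have h1 := (((q ⁻¹ᵁ W).ι ≫ (Scheme.IdealSheafData.vanishingIdeal T).subschemeι) ≫ U.ι).continuous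
    have h2 := hz'.map h1
    simp only [Scheme.Hom.comp_apply] at h2
    change w ⤳ U.ι ((Scheme.IdealSheafData.vanishingIdeal T).subschemeι z) at h2
    rw [hz] at h2
    exact h2
  have hwη : f w = η := by
    have := congrArg W.ι he
    rw [← Scheme.Hom.comp_apply, morphismRestrict_ι] at this
    exact this
  have hwr : w ∈ Set.range j := by
    obtain ⟨y, hy⟩ : (Scheme.IdealSheafData.vanishingIdeal T).subschemeι ((q ⁻¹ᵁ W).ι z') ∈
        Set.range (h.fiberι η) := by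
      rw [Scheme.Hom.range_fiberι]
      exact hwη
    exact ⟨y, congrArg U.ι hy⟩
  have hwQ : w ∈ Q := hcov ⟨hwx.mem_open O.2 hxO, hwr⟩
  have hmem := Set.mem_range_self (f := (Scheme.IdealSheafData.vanishingIdeal T).subschemeι)
    ((q ⁻¹ᵁ W).ι z')
  rw [Scheme.IdealSheafData.range_subschemeι, Scheme.IdealSheafData.coe_support_vanishingIdeal] at hmem
  exact hmem hwQ

/-- A morphism of finite type to an integral affine scheme is quasi-separated over a nonempty
basic open of the base. -/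
theorem exists_open_quasiSeparated [QuasiCompact f] (W₀ : S.Opens) (hW₀ : (W₀ : Set S).Nonempty) :
    ∃ W : S.Opens, W ≤ W₀ ∧ (W : Set S).Nonempty ∧ QuasiSeparated (f ∣_ W) := by
  classical
  have : CompactSpace X := QuasiCompact.compactSpace_of_compactSpace f
  obtain ⟨s, hs, hcov⟩ := isCompact_iff_finite_and_eq_biUnion_affineOpens.mp
    (show IsCompact ((⊤ : X.Opens) : Set X) by rw [Opens.coe_top]; exact isCompact_univ)
  have key : ∀ p : X.affineOpens × X.affineOpens, ∃ (W : S.Opens) (Q : X.Opens),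
      (W : Set S).Nonempty ∧ IsCompact (Q : Set X) ∧ Q ≤ (p.1 : X.Opens) ⊓ p.2 ∧
        ∀ x : X, f x ∈ W → x ∈ (p.1 : X.Opens) ⊓ p.2 → x ∈ Q :=
    fun p => exists_compact_piece f p.1.2 _ inf_le_left
  choose Wp Qp hWne hQc hQle hQ using key
  let η := genericPoint S
  have hη : ∀ {W : S.Opens}, (W : Set S).Nonempty → η ∈ W := fun {W} hW =>
    (genericPoint_specializes hW.some).mem_open W.2 hW.some_mem
  let P := hs.toFinset ×ˢ hs.toFinset
  let O : Set S := (W₀ : Set S) ∩ ⋂ p ∈ P, (Wp p : Set S)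
  have hO : IsOpen O := W₀.2.inter (isOpen_biInter_finset fun p _ => (Wp p).2)
  have hηO : η ∈ O := ⟨hη hW₀, Set.mem_iInter₂.mpr fun p _ => hη (hWne p)⟩
  obtain ⟨_, ⟨_, ⟨a, rfl⟩, rfl⟩, hηa, haO⟩ :=
    (isBasis_basicOpen S).exists_subset_of_mem_open hηO hO
  let W := S.basicOpen a
  have hWaff : IsAffineOpen W := (isAffineOpen_top S).basicOpen a
  refine ⟨W, fun x hx => (haO hx).1, ⟨η, hηa⟩, ?_⟩
  have : IsAffine (W : Scheme.{u}) := hWaff
  have haff : ∀ U : X.affineOpens, IsAffineOpen ((U : X.Opens) ⊓ f ⁻¹ᵁ W) := fun U => by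
    rw [← Scheme.basicOpen_appLE f U ⊤ (by simp) a]
    exact U.2.basicOpen _
  have : QuasiSeparatedSpace (f ⁻¹ᵁ W : X.Opens) := by
    refine Scheme.quasiSeparatedSpace_of_isOpenCover
      (X := (f ⁻¹ᵁ W : Scheme.{u})) (fun U : s => (f ⁻¹ᵁ W).ι ⁻¹ᵁ ((U.1 : X.Opens) ⊓ f ⁻¹ᵁ W)) ?_ ?_ ?_
    · refine eq_top_iff.mpr fun x _ => ?_
      have hx : (f ⁻¹ᵁ W).ι x ∈ (⊤ : X.Opens) := trivial
      rw [hcov] at hx
      simp only [Opens.mem_iSup] at hx
      obtain ⟨U, hUs, hxU⟩ := hx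
      exact Opens.mem_iSup.mpr ⟨⟨U, hUs⟩, hxU, x.2⟩
    · exact fun U => (haff U.1).preimage_of_isOpenImmersion _ (by
        rw [Scheme.Opens.opensRange_ι]; exact inf_le_right)
    · intro U U'
      rw [(f ⁻¹ᵁ W).ι.isOpenEmbedding.isCompact_iff]
      have hp : (U.1, U'.1) ∈ P :=
        Finset.mem_product.mpr ⟨hs.mem_toFinset.mpr U.2, hs.mem_toFinset.mpr U'.2⟩
      have heq : (f ⁻¹ᵁ W).ι '' (↑((f ⁻¹ᵁ W).ι ⁻¹ᵁ ((U.1 : X.Opens) ⊓ f ⁻¹ᵁ W)) ∩
            ↑((f ⁻¹ᵁ W).ι ⁻¹ᵁ ((U'.1 : X.Opens) ⊓ f ⁻¹ᵁ W))) =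
          (Qp (U.1, U'.1) : Set X) ∩ ((U.1 : X.Opens) ⊓ f ⁻¹ᵁ W : X.Opens) := by
        ext x
        constructor
        · rintro ⟨y, ⟨h1, h2⟩, rfl⟩
          exact ⟨hQ _ _ (Set.mem_iInter₂.mp (haO h1.2).2 _ hp) ⟨h1.1, h2.1⟩, h1⟩
        · rintro ⟨h1, h2⟩
          exact ⟨⟨x, h2.2⟩, ⟨h2, ⟨(hQle _ h1).2, h2.2⟩⟩, rfl⟩
      rw [heq]
      exact U.1.2.isQuasiSeparated _ _ (fun x hx => (hQle _ hx).1) (Qp _).2 (hQc _)
        Set.inter_subset_left (((U.1 : X.Opens) ⊓ f ⁻¹ᵁ W).2) (haff U.1).isCompact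
  exact QuasiSeparated.of_quasiSeparatedSpace _

end Groth.Agent.FlatMor.GenericQS
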