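import Groth.Agent.S1324
import Groth.Agent.S1326
import Groth.Agent.S1327
import Groth.Agent.ConstrLib.Basic
import Mathlib.AlgebraicGeometry.Geometrically.Connected
import Mathlib.AlgebraicGeometry.Morphisms.UniversallyOpen
import Mathlib.AlgebraicGeometry.Morphisms.Etale

/-!
# An open with geometrically connected fibres from a multisection
-/

set_option autoImplicit false
set_option linter.style.haveILetI false
universe u

open AlgebraicGeometry CategoryTheory Limits TopologicalSpace

namespace Groth.Agent.FlatMor.GeomConnSpread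

variable {A P U : Scheme.{u}}

/-- The image of the section components of a multisection has connected preimage over every field
point, provided the components attached to any two points of the multisection over the same point
meet. -/
theorem isConnected_preimage (kU : A ⟶ U) (p : P ⟶ U) (σ : P ⟶ pullback kU p)
    (hσ : σ ≫ pullback.snd kU p = 𝟙 P) (K : Type u) [Field K] (y : Spec (CommRingCat.of K) ⟶ U)
    (hne : ∃ q : P, p q = y (IsLocalRing.closedPoint K))
    (hint : ∀ r : ↥(pullback p p), (pullback.fst p p ≫ p) r = y (IsLocalRing.closedPoint K) →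
      ∃ z : ↥(pullback kU (pullback.fst p p ≫ p)), pullback.snd kU (pullback.fst p p ≫ p) z = r ∧
        pullback.map kU (pullback.fst p p ≫ p) kU p (𝟙 A) (pullback.fst p p) (𝟙 U) (by simp) (by simp) z ∈
          MoreMor.sectionComponents (pullback.snd kU p) σ ∧
        pullback.map kU (pullback.fst p p ≫ p) kU p (𝟙 A) (pullback.snd p p) (𝟙 U) (by simp)
            (by simp [pullback.condition]) z ∈
          MoreMor.sectionComponents (pullback.snd kU p) σ) :
    _root_.IsConnected (pullback.fst kU y ⁻¹'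
      (pullback.fst kU p '' MoreMor.sectionComponents (pullback.snd kU p) σ)) := by
  let kP := pullback.snd kU p
  let E := MoreMor.sectionComponents kP σ
  let P' := pullback p y
  let M := pullback kP (pullback.fst p y)
  let μ : M ⟶ pullback kU p := pullback.fst kP (pullback.fst p y)
  let fM : M ⟶ P' := pullback.snd kP (pullback.fst p y)
  let ν : M ⟶ pullback kU y := pullback.lift (μ ≫ pullback.fst kU p) (fM ≫ pullback.snd p y) (by
    rw [Category.assoc, Category.assoc, pullback.condition, ← pullback.condition (f := p) (g := y)]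
    exact pullback.condition_assoc p)
  have hM : IsPullback μ fM kP (pullback.fst p y) := IsPullback.of_hasPullback _ _
  let σ' : P' ⟶ M := pullback.lift (pullback.fst p y ≫ σ) (𝟙 P') (by
    rw [Category.assoc, hσ, Category.comp_id, Category.id_comp])
  have hσ' : σ' ≫ fM = 𝟙 P' := pullback.lift_snd _ _ _
  have hE' : MoreMor.sectionComponents fM σ' = μ ⁻¹' E :=
    S1324.result kP σ hσ fM μ (pullback.fst p y) hM σ' hσ' (pullback.lift_fst _ _ _)
  let C : P' → Set M := fun q => connectedComponentIn (fM ⁻¹' {q}) (σ' q)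
  have hσq : ∀ q, fM (σ' q) = q := fun q => by rw [← Scheme.Hom.comp_apply, hσ']; rfl
  have hC : ∀ q, _root_.IsConnected (C q) := fun q => isConnected_connectedComponentIn_iff.mpr (hσq q)
  have hCiff : ∀ w : M, μ w ∈ E ↔ w ∈ C (fM w) := fun w => by
    rw [← Set.mem_preimage, ← hE']; rfl
  have hCE : ∀ q w, w ∈ C q → μ w ∈ E := fun q w hw => by
    rw [hCiff, show fM w = q from connectedComponentIn_subset (fM ⁻¹' {q}) _ hw]
    exact hw
  have hpre : pullback.fst kU y ⁻¹' (pullback.fst kU p '' E) = ⋃ q, ν '' C q := by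
    ext x
    constructor
    · rintro ⟨e, he, hex⟩
      have hb : p (kP e) = y (pullback.snd kU y x) := by
        rw [← Scheme.Hom.comp_apply, ← pullback.condition, Scheme.Hom.comp_apply, hex,
          ← Scheme.Hom.comp_apply, pullback.condition, Scheme.Hom.comp_apply]
      -- a point of `M` over `e` and `x`
      have hμν : IsPullback μ ν (pullback.fst kU p) (pullback.fst kU y) := by
        refine IsPullback.of_bot (v₂₁ := pullback.snd kU y) (v₂₂ := kU) (h₃₁ := y) ?_
          (pullback.lift_fst _ _ _).symm (IsPullback.of_hasPullback kU y)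
        rw [pullback.lift_snd, pullback.condition]
        exact hM.paste_vert (IsPullback.of_hasPullback p y)
      obtain ⟨w, hw1, hw2⟩ := Scheme.exists_preimage_of_isPullback hμν e x hex
      exact Set.mem_iUnion.mpr ⟨fM w, w, (hCiff w).mp (hw1.symm ▸ he), hw2⟩
    · rintro hx
      obtain ⟨q, w, hw, rfl⟩ := Set.mem_iUnion.mp hx
      refine ⟨μ w, hCE q w hw, ?_⟩
      rw [← Scheme.Hom.comp_apply, ← Scheme.Hom.comp_apply, pullback.lift_fst]
  have hmeet : ∀ q₁ q₂ : P', (ν '' C q₁ ∩ ν '' C q₂).Nonempty := by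
    intro q₁ q₂
    obtain ⟨rK, hr₁, hr₂⟩ := Scheme.Pullback.exists_preimage_pullback
      (f := pullback.snd p y) (g := pullback.snd p y) q₁ q₂ (Subsingleton.elim (α := PrimeSpectrum K) _ _)
    let ρ : pullback (pullback.snd p y) (pullback.snd p y) ⟶ pullback p p :=
      pullback.map _ _ _ _ (pullback.fst p y) (pullback.fst p y) y pullback.condition.symm
        pullback.condition.symm
    have hr : (pullback.fst p p ≫ p) (ρ rK) = y (IsLocalRing.closedPoint K) := by
      rw [← Scheme.Hom.comp_apply, pullback.lift_fst_assoc]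
      simp only [Scheme.Hom.comp_apply, hr₁]
      rw [← Scheme.Hom.comp_apply, pullback.condition, Scheme.Hom.comp_apply]
      exact congrArg y (Subsingleton.elim (α := PrimeSpectrum K) _ _)
    obtain ⟨z, hz, hz₁, hz₂⟩ := hint (ρ rK) hr
    let aR := pullback.fst p p ≫ p
    obtain ⟨ζ, hζ₁, hζ₂⟩ := Scheme.Pullback.exists_preimage_pullback
      (f := pullback.snd kU aR) (g := ρ) z rK hz
    let m₁ := pullback.map kU aR kU p (𝟙 A) (pullback.fst p p) (𝟙 U) (by simp) (by simp [aR])
    let m₂ := pullback.map kU aR kU p (𝟙 A) (pullback.snd p p) (𝟙 U) (by simp)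
      (by simp [aR, pullback.condition])
    let l₁ : pullback (pullback.snd kU aR) ρ ⟶ M :=
      pullback.lift (pullback.fst _ _ ≫ m₁) (pullback.snd _ _ ≫ pullback.fst _ _) (by
        rw [Category.assoc, pullback.lift_snd, Category.assoc, ← Category.assoc, pullback.condition,
          Category.assoc, pullback.lift_fst])
    let l₂ : pullback (pullback.snd kU aR) ρ ⟶ M :=
      pullback.lift (pullback.fst _ _ ≫ m₂) (pullback.snd _ _ ≫ pullback.snd _ _) (by
        rw [Category.assoc, pullback.lift_snd, Category.assoc, ← Category.assoc, pullback.condition,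
          Category.assoc, pullback.lift_snd])
    have hl : l₁ ≫ ν = l₂ ≫ ν := by
      refine pullback.hom_ext ?_ ?_
      · rw [Category.assoc, Category.assoc, pullback.lift_fst, pullback.lift_fst_assoc,
          pullback.lift_fst_assoc, Category.assoc, Category.assoc, pullback.lift_fst, pullback.lift_fst]
      · rw [Category.assoc, Category.assoc, pullback.lift_snd, pullback.lift_snd_assoc,
          pullback.lift_snd_assoc, Category.assoc, Category.assoc, pullback.condition]
    have e₁ : l₁ ζ ∈ C q₁ := by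
      have h1 : fM (l₁ ζ) = q₁ := by
        rw [← Scheme.Hom.comp_apply, pullback.lift_snd, Scheme.Hom.comp_apply, hζ₂, hr₁]
      rw [← h1, ← hCiff, ← Scheme.Hom.comp_apply, pullback.lift_fst, Scheme.Hom.comp_apply, hζ₁]
      exact hz₁
    have e₂ : l₂ ζ ∈ C q₂ := by
      have h1 : fM (l₂ ζ) = q₂ := by
        rw [← Scheme.Hom.comp_apply, pullback.lift_snd, Scheme.Hom.comp_apply, hζ₂, hr₂]
      rw [← h1, ← hCiff, ← Scheme.Hom.comp_apply, pullback.lift_fst, Scheme.Hom.comp_apply, hζ₁]
      exact hz₂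
    exact ⟨ν (l₁ ζ), ⟨_, e₁, rfl⟩, l₂ ζ, e₂, by rw [← Scheme.Hom.comp_apply, ← hl]; rfl⟩
  obtain ⟨q, hq⟩ := hne
  obtain ⟨q₀, -, -⟩ := Scheme.Pullback.exists_preimage_pullback (f := p) (g := y) q
    (IsLocalRing.closedPoint K) hq
  obtain ⟨x₀, hx₀⟩ := (hC q₀).nonempty.image ν
  refine hpre ▸ ⟨⟨x₀, Set.mem_iUnion.mpr ⟨q₀, hx₀⟩⟩, ?_⟩
  have himg : ∀ q, _root_.IsPreconnected (ν '' C q) := fun q =>
    (hC q).isPreconnected.image _ ν.continuous.continuousOn
  have : (⋃ q, ν '' C q) = ⋃ q, (ν '' C q₀ ∪ ν '' C q) :=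
    subset_antisymm (Set.iUnion_mono fun q => Set.subset_union_right)
      (Set.iUnion_subset fun q => Set.union_subset (Set.subset_iUnion (fun q => ν '' C q) q₀)
        (Set.subset_iUnion (fun q => ν '' C q) q))
  rw [this]
  refine isPreconnected_iUnion ⟨x₀, Set.mem_iInter.mpr fun q => Or.inl hx₀⟩ fun q => ?_
  obtain ⟨x, h1, h2⟩ := hmeet q₀ q
  exact (himg q₀).union x h1 h2 (himg q)

variable {S Z : Scheme.{u}}

/-- A multisection through a geometrically connected fibre gives, near the point, an open with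
geometrically connected fibres. -/
theorem exists_open_geometricallyConnected [IsAffine U] (kU : A ⟶ U) [Flat kU]
    [LocallyOfFinitePresentation kU] [QuasiCompact kU] [QuasiSeparated kU] [GeometricallyReduced kU]
    (p : P ⟶ U) [IsFinite p] [Etale p] (σ : P ⟶ pullback kU p) (hσ : σ ≫ pullback.snd kU p = 𝟙 P)
    (u : U) (v : P) (hv : p v = u) (huniq : ∀ w, p w = u → w = v) (hne : ∃ a : A, kU a = u)
    (hconn : _root_.IsPreconnected (pullback.snd kU p ⁻¹' {v})) :
    ∃ (U' : U.Opens) (V : A.Opens), u ∈ U' ∧ IsAffineOpen U' ∧ V ≤ kU ⁻¹ᵁ U' ∧ IsCompact (V : Set A) ∧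
      kU ⁻¹' {u} ⊆ V ∧ ∀ (K : Type u) [Field K] (y : Spec (CommRingCat.of K) ⟶ U),
        y (IsLocalRing.closedPoint K) ∈ U' → _root_.IsConnected (pullback.fst kU y ⁻¹' (V : Set A)) := by
  let kP := pullback.snd kU p
  haveI : QuasiCompact kP := MorphismProperty.pullback_snd _ _ ‹_›
  haveI : QuasiSeparated kP := MorphismProperty.pullback_snd _ _ ‹_›
  haveI : LocallyOfFinitePresentation kP := MorphismProperty.pullback_snd _ _ ‹_›
  haveI : Flat kP := MorphismProperty.pullback_snd _ _ ‹_›
  haveI : GeometricallyReduced kP := MorphismProperty.pullback_snd _ _ ‹_›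
  let E := MoreMor.sectionComponents kP σ
  have hσ' : ∀ t, kP (σ t) = t := fun t => by rw [← Scheme.Hom.comp_apply, hσ]; rfl
  have hE : IsOpen E := by
    rw [← interior_eq_iff_isOpen]
    refine subset_antisymm interior_subset fun x hx => ?_
    exact S1327.result kP σ hσ (kP x) inferInstance hx
  have hEv : kP ⁻¹' {v} ⊆ E := fun w hw => by
    show w ∈ connectedComponentIn (kP ⁻¹' {kP w}) (σ (kP w))
    rw [show kP w = v from hw]
    exact hconn.subset_connectedComponentIn (hσ' v) subset_rfl hw
  -- the pairs of components which meet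
  let aR := pullback.fst p p ≫ p
  let m₁ := pullback.map kU aR kU p (𝟙 A) (pullback.fst p p) (𝟙 U) (by simp) (by simp [aR])
  let m₂ := pullback.map kU aR kU p (𝟙 A) (pullback.snd p p) (𝟙 U) (by simp)
    (by simp [aR, pullback.condition])
  let kR := pullback.snd kU aR
  haveI : Flat kR := MorphismProperty.pullback_snd _ _ ‹Flat kU›
  haveI : LocallyOfFinitePresentation kR := MorphismProperty.pullback_snd _ _ ‹LocallyOfFinitePresentation kU›
  haveI : UniversallyOpen kR := UniversallyOpen.of_flat kR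
  let G : Set ↥(pullback p p) := kR '' (m₁ ⁻¹' E ∩ m₂ ⁻¹' E)
  have hG : IsOpen G := kR.isOpenMap _ ((hE.preimage m₁.continuous).inter (hE.preimage m₂.continuous))
  haveI : IsFinite aR := inferInstance
  have hbad : IsClosed (aR '' Gᶜ) := aR.isClosedMap _ hG.isClosed_compl
  have hu : u ∉ aR '' Gᶜ := by
    rintro ⟨r, hr, hru⟩
    apply hr
    obtain ⟨a, ha⟩ := hne
    obtain ⟨z, -, hz⟩ := Scheme.Pullback.exists_preimage_pullback (f := kU) (g := aR) a r (ha.trans hru.symm)
    have h1 : kP (m₁ z) = v := by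
      rw [← Scheme.Hom.comp_apply, pullback.lift_snd, Scheme.Hom.comp_apply, hz]
      exact huniq _ ((Scheme.Hom.comp_apply _ _ r).symm.trans hru)
    have h2 : kP (m₂ z) = v := by
      rw [← Scheme.Hom.comp_apply, pullback.lift_snd, Scheme.Hom.comp_apply, hz]
      refine huniq _ ?_
      rw [← Scheme.Hom.comp_apply, ← pullback.condition]
      exact hru
    exact ⟨z, ⟨hEv h1, hEv h2⟩, hz⟩
  haveI : UniversallyOpen p := UniversallyOpen.of_flat p
  obtain ⟨_, ⟨U', hU', rfl⟩, huU', hU'le⟩ := U.isBasis_affineOpens.exists_subset_of_mem_open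
    (show u ∈ Set.range p ∩ (aR '' Gᶜ)ᶜ from ⟨⟨v, hv⟩, hu⟩) (p.isOpenMap.isOpen_range.inter hbad.isOpen_compl)
  -- the open
  haveI : CompactSpace P := QuasiCompact.compactSpace_of_compactSpace p
  haveI : QuasiSeparatedSpace P := quasiSeparatedSpace_of_quasiSeparated p
  haveI : CompactSpace ↥(pullback kU p) := QuasiCompact.compactSpace_of_compactSpace kP
  haveI : QuasiSeparatedSpace ↥(pullback kU p) := quasiSeparatedSpace_of_quasiSeparated kP
  let pA := pullback.fst kU p
  haveI : UniversallyOpen pA := MorphismProperty.pullback_fst _ _ ‹UniversallyOpen p›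
  have hΩ : IsCompact ((kP ≫ p) ⁻¹' (U' : Set U)) := (kP ≫ p).isCompact_preimage hU'.isCompact
  have hW : IsCompact (E ∩ (kP ≫ p) ⁻¹' (U' : Set U)) :=
    (ConstrLib.isRetrocompact_of_isConstructible
      (S1326.result kP σ hσ).isConstructible) hΩ (U'.2.preimage (kP ≫ p).continuous)
  let V : A.Opens := ⟨pA '' (E ∩ (kP ≫ p) ⁻¹' (U' : Set U)),
    pA.isOpenMap _ (hE.inter (U'.2.preimage (kP ≫ p).continuous))⟩
  have hsq : ∀ w, kU (pA w) = (kP ≫ p) w := fun w => by
    rw [← Scheme.Hom.comp_apply, pullback.condition]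
  refine ⟨U', V, huU', hU', ?_, hW.image pA.continuous, fun a ha => ?_, fun K _ y hy => ?_⟩
  · rintro _ ⟨w, hw, rfl⟩
    show kU (pA w) ∈ U'
    rw [hsq]; exact hw.2
  · obtain ⟨w, hw1, hw2⟩ := Scheme.Pullback.exists_preimage_pullback (f := kU) (g := p) a v
      ((show kU a = u from ha).trans hv.symm)
    refine ⟨w, ⟨hEv hw2, ?_⟩, hw1⟩
    show (kP ≫ p) w ∈ U'
    rw [← hsq, hw1, show kU a = u from ha]; exact huU'
  · have heq : pullback.fst kU y ⁻¹' (V : Set A) = pullback.fst kU y ⁻¹' (pA '' E) := by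
      ext x
      refine ⟨fun ⟨w, hw, h⟩ => ⟨w, hw.1, h⟩, fun ⟨w, hw, h⟩ => ⟨w, ⟨hw, ?_⟩, h⟩⟩
      show (kP ≫ p) w ∈ U'
      rw [← hsq, h, ← Scheme.Hom.comp_apply, pullback.condition, Scheme.Hom.comp_apply,
        Subsingleton.elim (α := PrimeSpectrum K) (pullback.snd kU y x) (IsLocalRing.closedPoint K)]
      exact hy
    rw [heq]
    refine isConnected_preimage kU p σ hσ K y (hU'le hy).1 fun r hr => ?_
    have hrG : r ∈ G := by_contra fun hn => (hU'le hy).2 ⟨r, hn, hr⟩
    obtain ⟨z, hz, hzr⟩ := hrG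
    exact ⟨z, hzr, hz.1, hz.2⟩

end Groth.Agent.FlatMor.GeomConnSpread
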