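import Groth.Agent.S1549
import Groth.Agent.S2156
import Groth.Agent.S0412
import Groth.Agent.StFib.FlatBaseLocus
import Groth.Agent.ConstrLib.Basic
import Mathlib.AlgebraicGeometry.Geometrically.Connected

/-!
# Tools for spreading geometrically connected opens of fibres
-/

set_option autoImplicit false
set_option linter.style.haveILetI false
universe u

open AlgebraicGeometry CategoryTheory Limits TopologicalSpace

namespace Groth.Agent.FlatMor.GeomConnSpread

variable {X Y S : Scheme.{u}}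

/-- A pullback square stays one after composing with a monomorphism. -/
theorem isPullback_comp_mono {C : Type*} [Category C] {W X Y V Z : C} {a : W ⟶ X} {b : W ⟶ Y}
    {f : X ⟶ V} {g : Y ⟶ V} (sq : IsPullback a b f g) (i : V ⟶ Z) [Mono i] :
    IsPullback a b (f ≫ i) (g ≫ i) :=
  ⟨⟨by rw [sq.w_assoc]⟩, ⟨PullbackCone.isLimitOfCompMono f g i sq.cone sq.isLimit⟩⟩

/-- Geometric reducedness passes to open subschemes. -/
theorem geometricallyReduced_comp (j : X ⟶ Y) [IsOpenImmersion j] (h : Y ⟶ S)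
    [GeometricallyReduced h] : GeometricallyReduced (j ≫ h) := by
  refine ⟨fun K _ y Z fst snd hZ => ?_⟩
  let l : Z ⟶ pullback h y := pullback.lift (fst ≫ j) snd (by rw [Category.assoc]; exact hZ.w)
  have hl : IsPullback fst l j (pullback.fst h y) := by
    refine IsPullback.of_bot (v₂₁ := pullback.snd h y) (v₂₂ := h) (h₃₁ := y) ?_
      (pullback.lift_fst _ _ _).symm (IsPullback.of_hasPullback h y)
    rw [pullback.lift_snd]
    exact hZ
  haveI : IsOpenImmersion l := MorphismProperty.of_isPullback hl inferInstance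
  haveI : IsReduced (pullback h y) := pullback_of_geometrically GeometricallyReduced.geometrically_isReduced K y
  exact isReduced_of_isOpenImmersion l

/-- Smoothness at a point of a flat morphism is seen on the fibre. -/
theorem fiberι_mem_smoothLocus (h : Y ⟶ S) [Flat h] [LocallyOfFinitePresentation h] (s : S)
    [LocallyOfFinitePresentation (h.fiberToSpecResidueField s)] (y : h.fiber s)
    (hy : y ∈ (h.fiberToSpecResidueField s).smoothLocus) : h.fiberι s y ∈ h.smoothLocus := by
  obtain ⟨x, hx⟩ : ∃ x, h.fiberι s y = x := ⟨_, rfl⟩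
  have hxs : h x = s := by
    have : x ∈ Set.range (h.fiberι s) := ⟨y, hx⟩
    rwa [h.range_fiberι s] at this
  subst hxs
  rw [hx, Groth.Agent.S2156.result h x]
  refine ⟨Flat.stalkMap h x, ?_⟩
  rwa [(h.fiberι (h x)).isEmbedding.injective (hx.trans (h.fiberι_asFiber x).symm)] at hy

/-- An open of a fibre is induced by a quasi-compact open inside a given open around the fibre. -/
theorem exists_isCompact_opens (h : Y ⟶ S) [LocallyOfFiniteType h] [QuasiCompact h] (s : S)
    (T : (h.fiber s).Opens) (S0 : S.Opens) (hs : s ∈ S0) :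
    ∃ O : Y.Opens, IsCompact (O : Set Y) ∧ O ≤ h ⁻¹ᵁ S0 ∧ (h.fiberι s) ⁻¹ᵁ O = T := by
  haveI : LocallyOfFiniteType (h.fiberToSpecResidueField s) :=
    MorphismProperty.pullback_snd _ _ ‹_›
  haveI : IsLocallyNoetherian (h.fiber s) :=
    LocallyOfFiniteType.isLocallyNoetherian (h.fiberToSpecResidueField s)
  haveI : IsNoetherian (h.fiber s) := {}
  obtain ⟨W₀, hW₀, hTW⟩ := (h.fiberι s).isEmbedding.isInducing.isOpen_iff.mp T.2
  have hc : IsCompact ((h.fiberι s) '' (T : Set (h.fiber s))) :=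
    (NoetherianSpace.isCompact _).image (h.fiberι s).continuous
  have hsub : (h.fiberι s) '' (T : Set (h.fiber s)) ⊆ W₀ ∩ h ⁻¹' (S0 : Set S) := by
    rintro _ ⟨t, ht, rfl⟩
    refine ⟨by rwa [← Set.mem_preimage, hTW], ?_⟩
    have : h.fiberι s t ∈ Set.range (h.fiberι s) := ⟨t, rfl⟩
    rw [h.range_fiberι s] at this
    show h (h.fiberι s t) ∈ S0
    rw [show h (h.fiberι s t) = s from this]
    exact hs
  obtain ⟨W, hWo, hWc, h1, h2⟩ := Groth.Agent.ConstrLib.exists_compact_open_between hc
    (hW₀.inter (S0.2.preimage h.continuous)) hsub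
  refine ⟨⟨W, hWo⟩, hWc, fun y hy => (h2 hy).2, Opens.ext ?_⟩
  refine Set.Subset.antisymm (fun t ht => ?_) (fun t ht => h1 ⟨t, ht, rfl⟩)
  show t ∈ T.carrier
  rw [← hTW]
  exact (h2 ht).1

/-- Near a nonempty open of a geometrically reduced fibre a flat morphism has étale local sections. -/
theorem exists_etale_section (h : Y ⟶ S) [Flat h] [LocallyOfFinitePresentation h]
    [GeometricallyReduced h] (s : S) (O : Y.Opens)
    (hO : ((h.fiberι s) ⁻¹ᵁ O : Set (h.fiber s)).Nonempty) :
    ∃ (S'' : Scheme.{u}) (g : S'' ⟶ S) (s'' : S''), Etale g ∧ g s'' = s ∧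
      ∃ σ : S'' ⟶ O, σ ≫ O.ι ≫ h = g := by
  let F := h.fiber s
  let f := h.fiberToSpecResidueField s
  haveI hf : LocallyOfFinitePresentation f := MorphismProperty.pullback_snd _ _ inferInstance
  letI : F.Over (Spec (CommRingCat.of (S.residueField s))) := ⟨f⟩
  haveI : LocallyOfFiniteType (F ↘ Spec (CommRingCat.of (S.residueField s))) :=
    (inferInstance : LocallyOfFiniteType f)
  obtain ⟨U, hUd, hUs⟩ := (Groth.Agent.S1549.result (S.residueField s) F).mp
    (inferInstance : GeometricallyReduced f)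
  obtain ⟨y, hyO, hyU⟩ := hUd.inter_open_nonempty _ ((h.fiberι s) ⁻¹ᵁ O).2 hO
  haveI : Smooth (U.ι ≫ f) := hUs
  have hy := fiberι_mem_smoothLocus h s y (Groth.Agent.StFib.le_smoothLocus f U hyU)
  let W := h.smoothLocus ⊓ O
  haveI := Groth.Agent.StFib.smooth_smoothLocus_ι h
  haveI : Smooth (W.ι ≫ h) := by
    rw [← Y.homOfLE_ι (inf_le_left : W ≤ h.smoothLocus), Category.assoc]
    infer_instance
  have hxs : h (h.fiberι s y) = s := by
    have : h.fiberι s y ∈ Set.range (h.fiberι s) := ⟨y, rfl⟩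
    rwa [h.range_fiberι s] at this
  obtain ⟨S'', g, s'', hg, hgs, σ, hσ⟩ := Groth.Agent.S0412.result (W.ι ≫ h) s
    ⟨⟨_, hy, hyO⟩, hxs⟩
  refine ⟨S'', g, s'', hg, hgs, σ ≫ Y.homOfLE inf_le_right, ?_⟩
  rw [Category.assoc, Y.homOfLE_ι_assoc, hσ]

end Groth.Agent.FlatMor.GeomConnSpread
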