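import Groth.Agent.FlatMor.GeomConnSpread
import Groth.Agent.FlatMor.GeomConnSpreadTools
import Mathlib.AlgebraicGeometry.Fiber

/-!
# An open with geometrically connected fibres from a finite flat multisection
-/

set_option autoImplicit false
set_option linter.style.haveILetI false
universe u

open AlgebraicGeometry CategoryTheory Limits TopologicalSpace

namespace Groth.Agent.FlatMor.GeomConnSpread

/-- Field-valued base changes of a geometrically connected fibre are connected. -/
theorem connectedSpace_of_fiber {X Y : Scheme.{u}} (f : X ⟶ Y) (y : Y)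
    [hy : GeometricallyConnected (f.fiberToSpecResidueField y)] (K : Type u) [Field K]
    (m : Spec (CommRingCat.of K) ⟶ Y) (hm : m (IsLocalRing.closedPoint K) = y)
    {Z : Scheme.{u}} {fst : Z ⟶ X} {snd : Z ⟶ Spec (CommRingCat.of K)}
    (hZ : IsPullback fst snd f m) : ConnectedSpace Z := by
  subst hm
  let φ := Y.descResidueField (Scheme.stalkClosedPointTo m)
  have hφ : Spec.map φ ≫ Y.fromSpecResidueField _ = m :=
    Scheme.descResidueField_stalkClosedPointTo_fromSpecResidueField K Y m
  let l : Z ⟶ f.fiber (m (IsLocalRing.closedPoint K)) :=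
    pullback.lift fst (snd ≫ Spec.map φ) (by rw [Category.assoc, hφ, hZ.w])
  have hl : IsPullback l snd (f.fiberToSpecResidueField _) (Spec.map φ) := by
    refine IsPullback.of_right (h₁₂ := f.fiberι _) (v₁₃ := f) (h₂₂ := Y.fromSpecResidueField _) ?_
      (pullback.lift_snd _ _ _) (IsPullback.of_hasPullback f _)
    rw [show l ≫ f.fiberι _ = fst from pullback.lift_fst _ _ _, hφ]
    exact hZ
  exact hy.geometrically_connectedSpace (Spec.map φ) _ _ hl

variable {A P U : Scheme.{u}}

/-- A multisection through a geometrically connected fibre gives, near the point, an open with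
geometrically connected fibres. -/
theorem exists_open_of_flat_multisection [IsAffine U] (kU : A ⟶ U) [Flat kU]
    [LocallyOfFinitePresentation kU] [QuasiCompact kU] [QuasiSeparated kU] [GeometricallyReduced kU]
    (p : P ⟶ U) [IsFinite p] [Flat p] [LocallyOfFinitePresentation p]
    (σ : P ⟶ pullback kU p) (hσ : σ ≫ pullback.snd kU p = 𝟙 P)
    (u : U) (hp : ∃ v : P, p v = u) (hne : ∃ a : A, kU a = u)
    (hconn : ∀ v, p v = u → _root_.IsPreconnected (pullback.snd kU p ⁻¹' {v})) :
    ∃ (U' : U.Opens) (V : A.Opens), u ∈ U' ∧ IsAffineOpen U' ∧ V ≤ kU ⁻¹ᵁ U' ∧ IsCompact (V : Set A) ∧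
      kU ⁻¹' {u} ⊆ V ∧ ∀ (K : Type u) [Field K] (y : Spec (CommRingCat.of K) ⟶ U),
        y (IsLocalRing.closedPoint K) ∈ U' → _root_.IsConnected (pullback.fst kU y ⁻¹' (V : Set A)) := by
  let kP := pullback.snd kU p
  haveI : QuasiCompact kP := MorphismProperty.pullback_snd _ _ ‹_›
  haveI : QuasiSeparated kP := MorphismProperty.pullback_snd _ _ ‹_›
  haveI : LocallyOfFinitePresentation kP := MorphismProperty.pullback_snd _ _ ‹_›
  haveI : Flat kP := MorphismProperty.pullback_snd _ _ ‹_›
  haveI : GeometricallyReduced kP := MorphismProperty.pullback_snd _ _ ‹_›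
  let E := MoreMor.sectionComponents kP σ
  have hσ' : ∀ t, kP (σ t) = t := fun t => by rw [← Scheme.Hom.comp_apply, hσ]; rfl
  have hE : IsOpen E := by
    rw [← interior_eq_iff_isOpen]
    refine subset_antisymm interior_subset fun x hx => ?_
    exact S1327.result kP σ hσ (kP x) inferInstance hx
  have hEv : ∀ w, p (kP w) = u → w ∈ E := fun w hw => by
    show w ∈ connectedComponentIn (kP ⁻¹' {kP w}) (σ (kP w))
    exact (hconn _ hw).subset_connectedComponentIn (hσ' (kP w)) subset_rfl rfl
  -- the pairs of components which meet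
  let aR := pullback.fst p p ≫ p
  let m₁ := pullback.map kU aR kU p (𝟙 A) (pullback.fst p p) (𝟙 U) (by simp) (by simp [aR])
  let m₂ := pullback.map kU aR kU p (𝟙 A) (pullback.snd p p) (𝟙 U) (by simp)
    (by simp [aR, pullback.condition])
  let kR := pullback.snd kU aR
  haveI : Flat kR := MorphismProperty.pullback_snd _ _ ‹Flat kU›
  haveI : LocallyOfFinitePresentation kR := MorphismProperty.pullback_snd _ _ ‹LocallyOfFinitePresentation kU›
  haveI : UniversallyOpen kR := UniversallyOpen.of_flat kR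
  let G : Set ↥(pullback p p) := kR '' (m₁ ⁻¹' E ∩ m₂ ⁻¹' E)
  have hG : IsOpen G := kR.isOpenMap _ ((hE.preimage m₁.continuous).inter (hE.preimage m₂.continuous))
  haveI : IsFinite aR := inferInstance
  have hbad : IsClosed (aR '' Gᶜ) := aR.isClosedMap _ hG.isClosed_compl
  have hu : u ∉ aR '' Gᶜ := by
    rintro ⟨r, hr, hru⟩
    apply hr
    obtain ⟨a, ha⟩ := hne
    obtain ⟨z, -, hz⟩ := Scheme.Pullback.exists_preimage_pullback (f := kU) (g := aR) a r (ha.trans hru.symm)
    have h1 : p (kP (m₁ z)) = u := by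
      rw [← Scheme.Hom.comp_apply m₁, pullback.lift_snd, Scheme.Hom.comp_apply, hz]
      exact (Scheme.Hom.comp_apply _ _ r).symm.trans hru
    have h2 : p (kP (m₂ z)) = u := by
      rw [← Scheme.Hom.comp_apply m₂, pullback.lift_snd, Scheme.Hom.comp_apply, hz]
      rw [← Scheme.Hom.comp_apply, ← pullback.condition]
      exact hru
    exact ⟨z, ⟨hEv _ h1, hEv _ h2⟩, hz⟩
  haveI : UniversallyOpen p := UniversallyOpen.of_flat p
  obtain ⟨_, ⟨U', hU', rfl⟩, huU', hU'le⟩ := U.isBasis_affineOpens.exists_subset_of_mem_open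
    (show u ∈ Set.range p ∩ (aR '' Gᶜ)ᶜ from ⟨hp, hu⟩) (p.isOpenMap.isOpen_range.inter hbad.isOpen_compl)
  -- the open
  haveI : CompactSpace P := QuasiCompact.compactSpace_of_compactSpace p
  haveI : QuasiSeparatedSpace P := quasiSeparatedSpace_of_quasiSeparated p
  haveI : CompactSpace ↥(pullback kU p) := QuasiCompact.compactSpace_of_compactSpace kP
  haveI : QuasiSeparatedSpace ↥(pullback kU p) := quasiSeparatedSpace_of_quasiSeparated kP
  let pA := pullback.fst kU p
  haveI : UniversallyOpen pA := MorphismProperty.pullback_fst _ _ ‹UniversallyOpen p›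
  have hΩ : IsCompact ((kP ≫ p) ⁻¹' (U' : Set U)) := (kP ≫ p).isCompact_preimage hU'.isCompact
  have hW : IsCompact (E ∩ (kP ≫ p) ⁻¹' (U' : Set U)) :=
    (ConstrLib.isRetrocompact_of_isConstructible
      (S1326.result kP σ hσ).isConstructible) hΩ (U'.2.preimage (kP ≫ p).continuous)
  let V : A.Opens := ⟨pA '' (E ∩ (kP ≫ p) ⁻¹' (U' : Set U)),
    pA.isOpenMap _ (hE.inter (U'.2.preimage (kP ≫ p).continuous))⟩
  have hsq : ∀ w, kU (pA w) = (kP ≫ p) w := fun w => by
    rw [← Scheme.Hom.comp_apply, pullback.condition]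
  refine ⟨U', V, huU', hU', ?_, hW.image pA.continuous, fun a ha => ?_, fun K _ y hy => ?_⟩
  · rintro _ ⟨w, hw, rfl⟩
    show kU (pA w) ∈ U'
    rw [hsq]; exact hw.2
  · obtain ⟨v, hv⟩ := hp
    obtain ⟨w, hw1, hw2⟩ := Scheme.Pullback.exists_preimage_pullback (f := kU) (g := p) a v
      ((show kU a = u from ha).trans hv.symm)
    refine ⟨w, ⟨hEv w ((congrArg p hw2).trans hv), ?_⟩, hw1⟩
    show (kP ≫ p) w ∈ U'
    rw [← hsq, hw1, show kU a = u from ha]; exact huU'
  · have heq : pullback.fst kU y ⁻¹' (V : Set A) = pullback.fst kU y ⁻¹' (pA '' E) := by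
      ext x
      refine ⟨fun ⟨w, hw, h⟩ => ⟨w, hw.1, h⟩, fun ⟨w, hw, h⟩ => ⟨w, ⟨hw, ?_⟩, h⟩⟩
      show (kP ≫ p) w ∈ U'
      rw [← hsq, h, ← Scheme.Hom.comp_apply, pullback.condition, Scheme.Hom.comp_apply,
        Subsingleton.elim (α := PrimeSpectrum K) (pullback.snd kU y x) (IsLocalRing.closedPoint K)]
      exact hy
    rw [heq]
    refine isConnected_preimage kU p σ hσ K y (hU'le hy).1 fun r hr => ?_
    have hrG : r ∈ G := by_contra fun hn => (hU'le hy).2 ⟨r, hn, hr⟩
    obtain ⟨z, hz, hzr⟩ := hrG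
    exact ⟨z, hzr, hz.1, hz.2⟩

end Groth.Agent.FlatMor.GeomConnSpread
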