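import Groth.Agent.S1294
import Groth.Agent.S0448
import Mathlib.RingTheory.LocalRing.ResidueField.Basic

/-!
A linear map into a flat module, injective on the fibre at a prime, is injective after tensoring with the
modules killed by a suitable finitely generated ideal of the local ring at that prime.
-/

set_option autoImplicit false
set_option linter.style.haveILetI false

universe u

open TensorProduct

attribute [local instance] Algebra.TensorProduct.rightAlgebra

namespace Groth.Agent.FlatMor.LinInjSpread

/-- Flat extensions of the coefficient ring keep injectivity. -/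
theorem lTensor_inj_tower {A k K : Type u} [CommRing A] [CommRing k] [CommRing K] [Algebra A k] [Algebra A K]
    [Algebra k K] [IsScalarTower A k K] [Module.Flat k K] {N M : Type u} [AddCommGroup N] [Module A N]
    [AddCommGroup M] [Module A M] (u : N →ₗ[A] M) (h : Function.Injective (u.lTensor k)) :
    Function.Injective (u.lTensor K) := by
  have h' : Function.Injective ((u.baseChange k).lTensor K) :=
    Module.Flat.lTensor_preserves_injective_linearMap (u.baseChange k) h
  let eN := AlgebraTensorModule.cancelBaseChange A k k K N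
  let eM := AlgebraTensorModule.cancelBaseChange A k k K M
  have hcomm : ∀ y, eM ((u.baseChange k).lTensor K y) = u.lTensor K (eN y) := fun y => by
    induction y with
    | zero => simp
    | tmul a b =>
      induction b with
      | zero => simp
      | tmul c n => simp [eN, eM]
      | add c d hc hd => simp only [TensorProduct.tmul_add, map_add, hc, hd]
    | add c d hc hd => simp only [map_add, hc, hd]
  intro y y' hy
  refine eN.symm.injective (h' (eM.injective ?_))
  rw [hcomm, hcomm, eN.apply_symm_apply, eN.apply_symm_apply, hy]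

/-- Tensoring with a module over `R` after or before the base change. -/
theorem lTensor_baseChange_inj_iff {A R : Type u} [CommRing A] [CommRing R] [Algebra A R]
    {N M Q : Type u} [AddCommGroup N] [Module A N] [AddCommGroup M] [Module A M] [AddCommGroup Q] [Module R Q]
    [Module A Q] [IsScalarTower A R Q] (u : N →ₗ[A] M) :
    Function.Injective ((u.baseChange R).lTensor Q) ↔ Function.Injective (u.lTensor Q) := by
  let eN := AlgebraTensorModule.cancelBaseChange A R R Q N
  let eM := AlgebraTensorModule.cancelBaseChange A R R Q M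
  have hcomm : ⇑(u.lTensor Q) ∘ ⇑eN = ⇑eM ∘ ⇑((u.baseChange R).lTensor Q) := funext fun y => by
    simp only [Function.comp_apply]
    induction y with
    | zero => simp
    | tmul a b =>
      induction b with
      | zero => simp
      | tmul c n => simp [eN, eM]
      | add c d hc hd => simp only [TensorProduct.tmul_add, map_add, hc, hd]
    | add c d hc hd => simp only [map_add, hc, hd]
  constructor
  · intro h
    refine (Function.Injective.of_comp_iff' _ eN.bijective).mp ?_
    rw [hcomm]
    exact eM.injective.comp h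
  · intro h
    refine Function.Injective.of_comp (f := eM) ?_
    rw [← hcomm]
    exact h.comp eN.injective

/-- A base change over a pushout square, read over the smaller rings. -/
theorem isBaseChange_restrict_of_pushout {A R S S' : Type u} [CommRing A] [CommRing R] [CommRing S] [CommRing S']
    [Algebra A R] [Algebra A S] [Algebra R S'] [Algebra S S'] [Algebra A S'] [IsScalarTower A R S'] [IsScalarTower A S S']
    [Algebra.IsPushout A R S S'] {N N' : Type u} [AddCommGroup N] [Module S N] [Module A N] [IsScalarTower A S N]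
    [AddCommGroup N'] [Module S' N'] [Module S N'] [IsScalarTower S S' N'] [Module R N'] [IsScalarTower R S' N']
    [Module A N'] [IsScalarTower A R N'] [IsScalarTower A S N'] (h : N →ₗ[S] N')
    (hb : IsBaseChange S' h) : IsBaseChange R (h.restrictScalars A) := by
  let c : S' ⊗[S] N ≃ₗ[R] R ⊗[A] N := Algebra.IsPushout.cancelBaseChange A R S S' N
  refine IsBaseChange.of_equiv (c.symm.trans (hb.equiv.restrictScalars R)) fun n => ?_
  show hb.equiv (c.symm ((1 : R) ⊗ₜ[A] n)) = h n
  rw [Algebra.IsPushout.cancelBaseChange_symm_tmul, map_one, IsBaseChange.equiv_tmul, one_smul]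

/-- A module with a projective, universally injective spreadout behaves like a projective module. -/
theorem lTensor_inj_of_spreadout {R B₁ C TB₁ : Type u} [CommRing R] [IsLocalRing R] [CommRing B₁] [CommRing C]
    [CommRing TB₁] [Algebra B₁ C] [Algebra B₁ TB₁] [Algebra C TB₁] [IsScalarTower B₁ C TB₁] (T₁ : Submonoid B₁)
    [IsLocalization T₁ TB₁] [Algebra R C] [Algebra R TB₁]
    {N₁ N' M₁ : Type u} [AddCommGroup N₁] [Module TB₁ N₁] [Module C N₁] [IsScalarTower C TB₁ N₁] [Module R N₁]
    [IsScalarTower R C N₁] [IsScalarTower R TB₁ N₁]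
    [AddCommGroup N'] [Module C N'] [Module R N'] [IsScalarTower R C N'] (g : N' →ₗ[C] N₁) (hg : IsBaseChange TB₁ g)
    [Module.Projective R N'] (huniv : FlatCA.UnivInj R (g.restrictScalars R))
    [AddCommGroup M₁] [Module R M₁] [Module.Flat R M₁] (w : N₁ →ₗ[R] M₁)
    (hw : Function.Injective (w.lTensor (IsLocalRing.ResidueField R)))
    (Q : Type u) [AddCommGroup Q] [Module R Q] : Function.Injective (w.lTensor Q) := by
  let act : TB₁ → (N₁ →ₗ[R] N₁) := fun t => (LinearMap.lsmul TB₁ N₁ t).restrictScalars R
  have hact : ∀ s t, act (s * t) = act s ∘ₗ act t := fun s t => LinearMap.ext fun y => mul_smul s t y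
  let ι : B₁ → TB₁ := algebraMap B₁ TB₁
  have hclear : ∀ y : N₁, ∃ s ∈ T₁, ∃ x : N', act (ι s) y = g x := fun y => by
    obtain ⟨z, rfl⟩ := hg.equiv.surjective y
    induction z using TensorProduct.induction_on with
    | zero => exact ⟨1, T₁.one_mem, 0, by rw [map_zero, map_zero, map_zero]⟩
    | tmul a x =>
      obtain ⟨⟨b, s⟩, hbs⟩ := IsLocalization.surj T₁ a
      refine ⟨s, s.2, algebraMap B₁ C b • x, ?_⟩
      show ι s • hg.equiv (a ⊗ₜ[C] x) = _
      rw [IsBaseChange.equiv_tmul, smul_smul, mul_comm, hbs, map_smul, IsScalarTower.algebraMap_apply B₁ C TB₁,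
        algebraMap_smul]
    | add z z' hz hz' =>
      obtain ⟨s, hs, x, hx⟩ := hz
      obtain ⟨t, ht, x', hx'⟩ := hz'
      refine ⟨s * t, T₁.mul_mem hs ht, algebraMap B₁ C t • x + algebraMap B₁ C s • x', ?_⟩
      have hC : ∀ (c : B₁) (v : N₁), algebraMap B₁ C c • v = ι c • v := fun c v => by
        rw [← algebraMap_smul TB₁ (algebraMap B₁ C c) v, ← IsScalarTower.algebraMap_apply]
      rw [map_add, map_add, map_add, map_smul, map_smul, ← hx, ← hx', hC, hC]
      simp only [act, ι, map_mul, LinearMap.restrictScalars_apply, LinearMap.lsmul_apply, smul_smul]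
      rw [mul_comm (ι t) (ι s)]
  rw [injective_iff_map_eq_zero]
  intro x hx
  obtain ⟨s, hs, x', hx'⟩ : ∃ s ∈ T₁, ∃ x' : Q ⊗[R] N', (act (ι s)).lTensor Q x = (g.restrictScalars R).lTensor Q x' := by
    clear hx
    induction x using TensorProduct.induction_on with
    | zero => exact ⟨1, T₁.one_mem, 0, by rw [map_zero, map_zero]⟩
    | tmul q y =>
      obtain ⟨s, hs, x, hx⟩ := hclear y
      exact ⟨s, hs, q ⊗ₜ x, by rw [LinearMap.lTensor_tmul, LinearMap.lTensor_tmul, hx]; rfl⟩
    | add z z' hz hz' =>
      obtain ⟨s, hs, x, hx⟩ := hz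
      obtain ⟨t, ht, x', hx'⟩ := hz'
      let cst : B₁ → (N' →ₗ[R] N') := fun b => (LinearMap.lsmul C N' (algebraMap B₁ C b)).restrictScalars R
      have hc : ∀ b, act (ι b) ∘ₗ g.restrictScalars R = g.restrictScalars R ∘ₗ cst b := fun b => LinearMap.ext fun v => by
        show ι b • g v = g (algebraMap B₁ C b • v)
        rw [map_smul, ← algebraMap_smul TB₁ (algebraMap B₁ C b) (g v), ← IsScalarTower.algebraMap_apply]
      refine ⟨s * t, T₁.mul_mem hs ht, (cst t).lTensor Q x + (cst s).lTensor Q x', ?_⟩
      rw [map_add, map_add, ← LinearMap.comp_apply, ← LinearMap.comp_apply, ← LinearMap.lTensor_comp,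
        ← LinearMap.lTensor_comp, ← hc, ← hc, LinearMap.lTensor_comp, LinearMap.lTensor_comp, LinearMap.comp_apply,
        LinearMap.comp_apply, ← hx, ← hx', ← LinearMap.comp_apply, ← LinearMap.comp_apply, ← LinearMap.lTensor_comp,
        ← LinearMap.lTensor_comp, ← hact, ← hact, ← map_mul, ← map_mul, mul_comm t s]
  obtain ⟨v, hv⟩ : ∃ v : TB₁, v * ι s = 1 := (IsLocalization.map_units TB₁ (⟨s, hs⟩ : T₁)).exists_left_inv
  have hx0 : (act v ∘ₗ g.restrictScalars R).lTensor Q x' = x := by
    rw [LinearMap.lTensor_comp, LinearMap.comp_apply, ← hx', ← LinearMap.comp_apply, ← LinearMap.lTensor_comp, ← hact,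
      hv, show act 1 = LinearMap.id from LinearMap.ext fun y => one_smul _ y, LinearMap.lTensor_id]
    rfl
  let F : N' →ₗ[R] M₁ := w ∘ₗ act v ∘ₗ g.restrictScalars R
  have hF : Function.Injective (F.lTensor (IsLocalRing.ResidueField R)) := by
    rw [LinearMap.lTensor_comp, LinearMap.lTensor_comp, LinearMap.coe_comp, LinearMap.coe_comp]
    refine hw.comp (Function.Injective.comp ?_ (huniv _))
    refine Function.LeftInverse.injective (g := (act (ι s)).lTensor _) fun y => ?_
    rw [← LinearMap.comp_apply, ← LinearMap.lTensor_comp, ← hact, mul_comm, hv,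
      show act 1 = LinearMap.id from LinearMap.ext fun y => one_smul _ y, LinearMap.lTensor_id]
    rfl
  have hF0 : x' = 0 := by
    refine (LinearMap.lTensor_inj_iff_rTensor_inj Q F).mpr (Groth.Agent.S0448.result F hF Q) ?_
    rw [map_zero, LinearMap.lTensor_comp, LinearMap.comp_apply, hx0]
    exact hx
  rw [← hx0, hF0, map_zero]

/-- The conclusion for an abstract model of the base change. -/
theorem lTensor_injective_of_pushout {A B B₁ : Type u} [CommRing A] [CommRing B] [CommRing B₁] [Algebra A B]
    (T : Submonoid B)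
    (N : Type u) [AddCommGroup N] [Module (Localization T) N] [Module B N] [Module A N]
    [IsScalarTower B (Localization T) N] [IsScalarTower A (Localization T) N] [IsScalarTower A B N]
    {M : Type u} [AddCommGroup M] [Module A M] [Module.Flat A M] (u : N →ₗ[A] M) (p : Ideal A) [p.IsPrime]
    (hp : Function.Injective (u.lTensor p.ResidueField)) (I : Ideal (Localization.AtPrime p))
    [IsLocalRing (Localization.AtPrime p ⧸ I)]
    [Algebra B B₁] [Algebra (Localization.AtPrime p ⧸ I) B₁] [Algebra A B₁]
    [IsScalarTower A B B₁] [IsScalarTower A (Localization.AtPrime p ⧸ I) B₁]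
    [Algebra.IsPushout A B (Localization.AtPrime p ⧸ I) B₁]
    (hspread : ∀ (N₁ : Type u)
        [AddCommGroup N₁] [Module (Localization (T.map (algebraMap B B₁))) N₁] [Module (Localization.AtPrime p ⧸ I) N₁]
        [IsScalarTower (Localization.AtPrime p ⧸ I) (Localization (T.map (algebraMap B B₁))) N₁]
        [Module B N₁] [IsScalarTower B (Localization (T.map (algebraMap B B₁))) N₁]
        [Module A N₁] [IsScalarTower A (Localization.AtPrime p ⧸ I) N₁] [IsScalarTower A B N₁]
        (h : N →ₗ[B] N₁), IsBaseChange (Localization.AtPrime p ⧸ I) (h.restrictScalars A) →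
        FlatCA.HasPureSpreadout (Localization.AtPrime p ⧸ I) B₁ (T.map (algebraMap B B₁)) N₁)
    (Q : Type u) [AddCommGroup Q] [Module A Q] [Module (Localization.AtPrime p ⧸ I) Q]
    [IsScalarTower A (Localization.AtPrime p ⧸ I) Q] : Function.Injective (u.lTensor Q) := by
  let P := Localization.AtPrime p
  let R := P ⧸ I
  let T₁ : Submonoid B₁ := T.map (algebraMap B B₁)
  let TB₁ := Localization T₁
  let TB := Localization T
  have hu : ∀ s : T, IsUnit (algebraMap B TB₁ s) := fun s => by
    rw [IsScalarTower.algebraMap_apply B B₁ TB₁]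
    exact IsLocalization.map_units TB₁ (⟨_, Submonoid.mem_map_of_mem _ s.2⟩ : T₁)
  letI : Algebra TB TB₁ := (IsLocalization.lift (M := T) (S := TB) (g := algebraMap B TB₁) hu).toAlgebra
  haveI : IsScalarTower B TB TB₁ := IsScalarTower.of_algebraMap_eq fun x => (IsLocalization.lift_eq hu x).symm
  haveI : IsScalarTower A TB TB₁ := IsScalarTower.of_algebraMap_eq fun a =>
    (IsScalarTower.algebraMap_apply A B TB₁ a).trans ((IsScalarTower.algebraMap_apply B TB TB₁ _).trans
      (congrArg (algebraMap TB TB₁) (IsScalarTower.algebraMap_apply A B TB a).symm))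
  haveI : IsScalarTower A R TB₁ := IsScalarTower.of_algebraMap_eq fun a =>
    (IsScalarTower.algebraMap_apply A B₁ TB₁ a).trans ((congrArg (algebraMap B₁ TB₁)
      (IsScalarTower.algebraMap_apply A R B₁ a)).trans (IsScalarTower.algebraMap_apply R B₁ TB₁ _).symm)
  haveI : IsLocalization (Algebra.algebraMapSubmonoid B₁ T) TB₁ := inferInstanceAs (IsLocalization T₁ TB₁)
  haveI : Algebra.IsPushout B B₁ TB TB₁ := Algebra.isPushout_of_isLocalization T TB B₁ TB₁
  haveI : Algebra.IsPushout B TB B₁ TB₁ := Algebra.IsPushout.symm inferInstance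
  haveI : Algebra.IsPushout A TB R TB₁ :=
    (Algebra.IsPushout.comp_iff A B R B₁ (T := TB) (T' := TB₁)).mpr inferInstance
  haveI : Algebra.IsPushout A R TB TB₁ := Algebra.IsPushout.symm inferInstance
  let N₁ := TB₁ ⊗[TB] N
  haveI : SMulCommClass TB R TB₁ := ⟨fun a r x => by
    rw [Algebra.smul_def a, Algebra.smul_def a]
    exact mul_smul_comm r _ _⟩
  haveI : SMulCommClass TB B TB₁ := ⟨fun a r x => by
    rw [Algebra.smul_def a, Algebra.smul_def a]
    exact mul_smul_comm r _ _⟩
  haveI : SMulCommClass TB A TB₁ := ⟨fun a r x => by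
    rw [Algebra.smul_def a, Algebra.smul_def a]
    exact mul_smul_comm r _ _⟩
  letI : Module R N₁ := TensorProduct.leftModule
  haveI : IsScalarTower A TB₁ N₁ := TensorProduct.isScalarTower_left
  haveI : IsScalarTower B TB₁ N₁ := TensorProduct.isScalarTower_left
  haveI : IsScalarTower R TB₁ N₁ := ⟨fun r c v => by
    induction v using TensorProduct.induction_on with
    | zero => rw [smul_zero, smul_zero, smul_zero]
    | tmul x n => rw [TensorProduct.smul_tmul', TensorProduct.smul_tmul', TensorProduct.smul_tmul', smul_assoc]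
    | add x y hx hy => rw [smul_add, smul_add, smul_add, hx, hy]⟩
  haveI : IsScalarTower A R N₁ := ⟨fun r c v => by
    induction v using TensorProduct.induction_on with
    | zero => simp only [smul_zero]
    | tmul x n => simp only [TensorProduct.smul_tmul', smul_assoc]
    | add x y hx hy => simp only [smul_add, hx, hy]⟩
  haveI : IsScalarTower A B N₁ := ⟨fun r c v => by
    induction v using TensorProduct.induction_on with
    | zero => simp only [smul_zero]
    | tmul x n => simp only [TensorProduct.smul_tmul', smul_assoc]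
    | add x y hx hy => simp only [smul_add, hx, hy]⟩
  haveI : IsScalarTower B TB N₁ := ⟨fun r c v => by
    induction v using TensorProduct.induction_on with
    | zero => simp only [smul_zero]
    | tmul x n => simp only [TensorProduct.smul_tmul', smul_assoc]
    | add x y hx hy => simp only [smul_add, hx, hy]⟩
  haveI : IsScalarTower A TB N₁ := ⟨fun r c v => by
    induction v using TensorProduct.induction_on with
    | zero => simp only [smul_zero]
    | tmul x n => simp only [TensorProduct.smul_tmul', smul_assoc]
    | add x y hx hy => simp only [smul_add, hx, hy]⟩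
  let hTB : N →ₗ[TB] N₁ := TensorProduct.mk TB TB₁ N 1
  let h : N →ₗ[B] N₁ := hTB.restrictScalars B
  have hbc : IsBaseChange R (h.restrictScalars A) :=
    isBaseChange_restrict_of_pushout hTB (TensorProduct.isBaseChange TB N TB₁)
  obtain ⟨C, _, _, _, _, _, _, _, _, _, _, N', _, _, _, _, g, -, -, hg, hproj, huniv⟩ := hspread N₁ h hbc
  haveI := hproj
  haveI : Module.Flat R (R ⊗[A] M) := Module.Flat.baseChange A R M
  let e : R ⊗[A] N ≃ₗ[R] N₁ := hbc.equiv
  let w : N₁ →ₗ[R] R ⊗[A] M := (u.baseChange R) ∘ₗ e.symm.toLinearMap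
  have hwu : ∀ (X : Type u) [AddCommGroup X] [Module R X],
      Function.Injective (w.lTensor X) ↔ Function.Injective ((u.baseChange R).lTensor X) := fun X _ _ => by
    have : ⇑(w.lTensor X) = ⇑((u.baseChange R).lTensor X) ∘ ⇑(e.symm.toLinearMap.lTensor X) := by
      rw [LinearMap.lTensor_comp, LinearMap.coe_comp]
    rw [this]
    exact Function.Injective.of_comp_iff' _ (LinearEquiv.lTensor X e.symm).bijective
  haveI : IsLocalHom (Ideal.Quotient.mk I) := IsLocalHom.of_surjective _ Ideal.Quotient.mk_surjective
  letI : Algebra p.ResidueField (IsLocalRing.ResidueField R) :=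
    (IsLocalRing.ResidueField.map (Ideal.Quotient.mk I)).toAlgebra
  haveI : IsScalarTower A p.ResidueField (IsLocalRing.ResidueField R) := IsScalarTower.of_algebraMap_eq fun a => by
    rw [IsScalarTower.algebraMap_apply A R (IsLocalRing.ResidueField R), IsScalarTower.algebraMap_apply A P R,
      IsScalarTower.algebraMap_apply A P p.ResidueField]
    rfl
  have hw : Function.Injective (w.lTensor (IsLocalRing.ResidueField R)) :=
    (hwu _).mpr ((lTensor_baseChange_inj_iff u).mpr (lTensor_inj_tower u hp))
  exact (lTensor_baseChange_inj_iff u).mp ((hwu Q).mp (lTensor_inj_of_spreadout T₁ g hg huniv w hw Q))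

/-- Injectivity at `p` spreads to the modules killed by a finitely generated ideal of `A_p`. -/
theorem exists_ideal_lTensor_injective {A B : Type u} [CommRing A] [CommRing B] [Algebra A B]
    [Algebra.FinitePresentation A B] (T : Submonoid B)
    (N : Type u) [AddCommGroup N] [Module (Localization T) N] [Module B N] [Module A N]
    [IsScalarTower B (Localization T) N] [IsScalarTower A (Localization T) N] [IsScalarTower A B N]
    [Module.FinitePresentation (Localization T) N]
    {M : Type u} [AddCommGroup M] [Module A M] [Module.Flat A M] (u : N →ₗ[A] M) (p : Ideal A) [p.IsPrime]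
    (hp : Function.Injective (u.lTensor p.ResidueField)) :
    ∃ I : Ideal (Localization.AtPrime p), I.FG ∧ I ≤ IsLocalRing.maximalIdeal (Localization.AtPrime p) ∧
      ∀ (Q : Type u) [AddCommGroup Q] [Module A Q] [Module (Localization.AtPrime p ⧸ I) Q]
        [IsScalarTower A (Localization.AtPrime p ⧸ I) Q], Function.Injective (u.lTensor Q) := by
  obtain ⟨I, hI, hIm, hspread⟩ := Groth.Agent.S1294.result T N p
  refine ⟨I, hI, hIm, ?_⟩
  let P := Localization.AtPrime p
  let R := P ⧸ I
  haveI : Nontrivial R := Ideal.Quotient.nontrivial_iff.mpr fun he =>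
    (IsLocalRing.maximalIdeal.isMaximal P).ne_top (top_le_iff.mp (he ▸ hIm))
  haveI : IsLocalRing R := IsLocalRing.of_surjective' (Ideal.Quotient.mk I) Ideal.Quotient.mk_surjective
  haveI : IsScalarTower A B (R ⊗[A] B) := IsScalarTower.of_algebraMap_eq (R := A) (S := B) (A := (R ⊗[A] B)) fun a => by
    show algebraMap A R a ⊗ₜ[A] (1 : B) = (1 : R) ⊗ₜ[A] algebraMap A B a
    rw [Algebra.algebraMap_eq_smul_one, Algebra.algebraMap_eq_smul_one, TensorProduct.smul_tmul]
  haveI : Algebra.IsPushout A R B (R ⊗[A] B) := inferInstance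
  haveI : Algebra.IsPushout A B R (R ⊗[A] B) := Algebra.IsPushout.symm inferInstance
  intro Q _ _ _ _
  exact lTensor_injective_of_pushout T N u p hp I (B₁ := R ⊗[A] B) (fun N₁ => hspread (R ⊗[A] B) N₁) Q

end Groth.Agent.FlatMor.LinInjSpread
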