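import Groth.Agent.S1216
import Groth.Agent.FlatMor.LinInjSpread
import Groth.Agent.LocFlat.Artinian
import Mathlib.RingTheory.Valuation.LocalSubring
import Mathlib.RingTheory.Ideal.MinimalPrime.Localization

/-!
A linear map from a finite flat module over an essentially finite type local extension to a flat module which is
injective on the closed fibre is injective on every fibre and universally injective.
-/

set_option autoImplicit false
set_option linter.style.haveILetI false

universe u

open TensorProduct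

attribute [local instance] Algebra.TensorProduct.rightAlgebra

namespace Groth.Agent.FlatMor.LinInjMain

open Groth.Agent.FlatMor.LinInjSpread

/-- A localization of a valuation ring at a prime is a valuation ring. -/
theorem preValuationRing_atPrime (V : Type u) [CommRing V] [IsDomain V] [ValuationRing V] (P : Ideal V) [P.IsPrime] :
    PreValuationRing (Localization.AtPrime P) := by
  refine ⟨fun a b => ?_⟩
  obtain ⟨x, s, rfl⟩ := IsLocalization.exists_mk'_eq P.primeCompl a
  obtain ⟨y, t, rfl⟩ := IsLocalization.exists_mk'_eq P.primeCompl b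
  obtain ⟨c, hc | hc⟩ := ValuationRing.cond x y
  · refine ⟨IsLocalization.mk' _ (c * (s : V)) t, Or.inl ?_⟩
    rw [← IsLocalization.mk'_mul, IsLocalization.mk'_eq_iff_eq]
    congr 1
    rw [← hc, Submonoid.coe_mul]
    ring
  · refine ⟨IsLocalization.mk' _ (c * (t : V)) s, Or.inr ?_⟩
    rw [← IsLocalization.mk'_mul, IsLocalization.mk'_eq_iff_eq]
    congr 1
    rw [← hc, Submonoid.coe_mul]
    ring

/-- The content of an element in a localization. -/
theorem exists_content_aux {V C W VP Cz : Type u} [CommRing V] [CommRing C] [Algebra V C]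
    [AddCommGroup W] [Module C W] [Module V W] [IsScalarTower V C W] [Module.Finite C W] [Module.Flat V W]
    [CommRing VP] [IsDomain VP] [ValuationRing VP] [Algebra V VP] [CommRing Cz] [IsLocalRing Cz] [Algebra C Cz] [Algebra V Cz]
    [IsScalarTower V C Cz] [Algebra VP Cz] [IsScalarTower V VP Cz] [IsLocalHom (algebraMap VP Cz)]
    [Algebra.EssFiniteType VP Cz] (n : W) (P : Ideal V) [P.IsPrime] [IsLocalization.AtPrime VP P]
    (z : Ideal C) [z.IsPrime] [IsLocalization.AtPrime Cz z] :
    ∃ ε : V, (∃ s ∉ z, ∃ w : W, s • n = ε • w) ∧ ((∀ s ∉ z, s • n ≠ 0) →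
      ε ≠ 0 ∧ ∀ b : W, n = ε • b → ∀ s ∉ z, s • b ∉ P • (⊤ : Submodule V W)) := by
  let Wz := Cz ⊗[C] W
  letI : Module VP Wz := TensorProduct.leftModule
  haveI : IsScalarTower VP Cz Wz := ⟨fun r c v => by
    induction v using TensorProduct.induction_on with
    | zero => simp only [smul_zero]
    | tmul x n => simp only [TensorProduct.smul_tmul', smul_assoc]
    | add x y hx hy => simp only [smul_add, hx, hy]⟩
  haveI : IsScalarTower V Cz Wz := ⟨fun r c v => by
    induction v using TensorProduct.induction_on with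
    | zero => simp only [smul_zero]
    | tmul x n => simp only [TensorProduct.smul_tmul', smul_assoc]
    | add x y hx hy => simp only [smul_add, hx, hy]⟩
  haveI : IsScalarTower V VP Wz := ⟨fun r c v => by
    induction v using TensorProduct.induction_on with
    | zero => simp only [smul_zero]
    | tmul x n => simp only [TensorProduct.smul_tmul', smul_assoc]
    | add x y hx hy => simp only [smul_add, hx, hy]⟩
  haveI : Module.Flat C Cz := IsLocalization.flat Cz z.primeCompl
  haveI : Module.Flat V Wz := Content.flat_tensor_of_flat V C Cz W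
  haveI : Module.Flat VP Wz := (Module.flat_iff_of_isLocalization VP P.primeCompl Wz).mpr inferInstance
  let ι : W →ₗ[C] Wz := TensorProduct.mk C Cz W 1
  haveI : IsLocalizedModule z.primeCompl ι :=
    (isLocalizedModule_iff_isBaseChange z.primeCompl Cz ι).mpr (TensorProduct.isBaseChange C W Cz)
  have hιV : ∀ (a : V) (w : W), ι (a • w) = a • ι w := fun a w => by
    rw [← algebraMap_smul C a w, map_smul, ← algebraMap_smul Cz (algebraMap V C a) (ι w),
      ← IsScalarTower.algebraMap_apply, algebraMap_smul]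
  obtain ⟨I, hI, hmem, hmin⟩ := S1216.result (A := VP) (B := Cz) Wz (ι n)
  obtain ⟨γ, hγ⟩ := hI.principal
  obtain ⟨a, σ, rfl⟩ := IsLocalization.exists_mk'_eq P.primeCompl γ
  have hIa : I = Ideal.span {algebraMap V VP a} := by
    rw [hγ]
    exact Ideal.span_singleton_eq_span_singleton.mpr ⟨(IsLocalization.map_units VP σ).unit, IsLocalization.mk'_spec VP a σ⟩
  obtain ⟨w, hw⟩ : ∃ w : Wz, ι n = a • w := by
    rw [hIa, Submodule.ideal_span_singleton_smul] at hmem
    obtain ⟨w, -, hw⟩ := hmem
    refine ⟨w, hw.symm.trans ?_⟩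
    show algebraMap V VP a • w = a • w
    rw [algebraMap_smul]
  refine ⟨a, ?_, fun hne => ⟨fun ha => ?_, fun b hb s hs hsb => ?_⟩⟩
  · obtain ⟨⟨w₀, s⟩, hws⟩ := IsLocalizedModule.surj z.primeCompl ι w
    have h1 : ι ((s : C) • n) = ι (a • w₀) := by
      rw [map_smul, hw, hιV, ← hws, smul_comm]
      rfl
    obtain ⟨s', hs'⟩ := IsLocalizedModule.exists_of_eq (S := z.primeCompl) h1
    refine ⟨(s' : C) * s, (s' * s).2, (s' : C) • w₀, ?_⟩
    rw [mul_smul, smul_comm a (s' : C) w₀]
    exact hs'
  · rw [ha, zero_smul] at hw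
    obtain ⟨s, hs⟩ := (IsLocalizedModule.eq_zero_iff z.primeCompl ι).mp hw
    exact hne s s.2 hs
  · let mP := IsLocalRing.maximalIdeal VP
    have h1 : (s : C) • ι b ∈ mP • (⊤ : Submodule VP Wz) := by
      rw [← map_smul]
      refine Submodule.smul_induction_on hsb (fun c hc y _ => ?_) fun y y' hy hy' => by rw [map_add]; exact add_mem hy hy'
      rw [hιV, ← algebraMap_smul VP c (ι y)]
      exact Submodule.smul_mem_smul ((IsLocalization.AtPrime.to_map_mem_maximal_iff VP P c).mpr hc) trivial
    have h2 : ι b ∈ mP • (⊤ : Submodule VP Wz) := by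
      obtain ⟨v, hv⟩ := (IsLocalization.map_units Cz (⟨s, hs⟩ : z.primeCompl)).exists_left_inv
      have h3 : v • (s • ι b) = ι b := by
        rw [← algebraMap_smul Cz s (ι b), smul_smul]
        exact (congrArg (· • ι b) hv).trans (one_smul _ _)
      rw [← h3]
      refine Submodule.smul_induction_on h1 (fun c hc y _ => ?_) fun y y' hy hy' => by rw [smul_add]; exact add_mem hy hy'
      rw [smul_comm]
      exact Submodule.smul_mem_smul hc trivial
    have h4 : ι n ∈ (I * mP) • (⊤ : Submodule VP Wz) := by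
      rw [Submodule.mul_smul, hb, hιV, ← algebraMap_smul VP a (ι b)]
      exact Submodule.smul_mem_smul (hIa ▸ Ideal.mem_span_singleton_self _) h2
    have hI0 : I = ⊥ := by
      refine Submodule.eq_bot_of_le_smul_of_le_jacobson_bot mP I (hIa ▸ Submodule.fg_span_singleton _) ?_
        (IsLocalRing.jacobson_eq_maximalIdeal (R := VP) ⊥ bot_ne_top).ge
      rw [smul_eq_mul, mul_comm]
      exact hmin _ h4
    have h5 : ι n = 0 := by
      have h := hmem
      rwa [hI0, Submodule.bot_smul, Submodule.mem_bot] at h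
    obtain ⟨s', hs'⟩ := (IsLocalizedModule.eq_zero_iff z.primeCompl ι).mp h5
    exact hne s' s'.2 hs'

/-- The content of an element at a prime. -/
theorem exists_content {V C W : Type u} [CommRing V] [IsDomain V] [ValuationRing V] [CommRing C] [Algebra V C]
    [Algebra.EssFiniteType V C] [AddCommGroup W] [Module C W] [Module V W] [IsScalarTower V C W] [Module.Finite C W]
    [Module.Flat V W] (n : W) (z : Ideal C) [z.IsPrime] :
    ∃ ε : V, (∃ s ∉ z, ∃ w : W, s • n = ε • w) ∧ ((∀ s ∉ z, s • n ≠ 0) →
      ε ≠ 0 ∧ ∀ b : W, n = ε • b → ∀ s ∉ z, s • b ∉ z.comap (algebraMap V C) • (⊤ : Submodule V W)) := by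
  let P := z.comap (algebraMap V C)
  let VP := Localization.AtPrime P
  let Cz := Localization.AtPrime z
  haveI : IsDomain VP := IsLocalization.isDomain_localization P.primeCompl_le_nonZeroDivisors
  haveI : PreValuationRing VP := preValuationRing_atPrime V P
  haveI : ValuationRing VP := { }
  let β : VP →+* Cz := Localization.localRingHom P z (algebraMap V C) rfl
  letI : Algebra VP Cz := β.toAlgebra
  haveI : IsLocalHom (algebraMap VP Cz) := Localization.isLocalHom_localRingHom P z (algebraMap V C) rfl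
  haveI : IsScalarTower V VP Cz := IsScalarTower.of_algebraMap_eq fun a =>
    ((Localization.localRingHom_to_map P z (algebraMap V C) rfl a).trans (IsScalarTower.algebraMap_apply V C Cz a).symm).symm
  haveI : Algebra.EssFiniteType C Cz := .of_isLocalization Cz z.primeCompl
  haveI : Algebra.EssFiniteType V Cz := Algebra.EssFiniteType.comp V C Cz
  haveI : Algebra.EssFiniteType VP Cz := Algebra.EssFiniteType.of_comp V VP Cz
  exact exists_content_aux (VP := VP) (Cz := Cz) n P z

/-- An element with nonzero content somewhere is a scalar multiple of one which does not vanish on some fibre. -/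
theorem exists_normalisation {V C W : Type u} [CommRing V] [IsDomain V] [ValuationRing V] [CommRing C] [Algebra V C]
    [Algebra.EssFiniteType V C] [AddCommGroup W] [Module C W] [Module V W] [IsScalarTower V C W] [Module.Finite C W]
    [Module.Flat V W] (n : W) (z₀ : Ideal C) [z₀.IsPrime] (hP₀ : z₀.comap (algebraMap V C) ≠ ⊥)
    (hn₀ : ∀ s ∉ z₀, s • n ≠ 0) :
    ∃ (ε : V) (b : W) (P : Ideal V), P.IsPrime ∧ ε ≠ 0 ∧ P ≠ ⊥ ∧ n = ε • b ∧
      ∀ c : V, c ∉ P → c • b ∉ P • (⊤ : Submodule V W) := by
  classical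
  choose ε hmem hmin using fun z : PrimeSpectrum C => exists_content (V := V) n z.asIdeal
  let z₀' : PrimeSpectrum C := ⟨z₀, inferInstance⟩
  let good : PrimeSpectrum C → Prop := fun z => (z.asIdeal.comap (algebraMap V C) ≠ ⊥ ∧ ∀ s ∉ z.asIdeal, s • n ≠ 0)
  let E : PrimeSpectrum C → V := fun z => if good z then ε z else ε z₀'
  let f : V → Ideal C := fun e =>
    { carrier := {s | ∃ w : W, s • n = e • w}
      zero_mem' := ⟨0, by rw [zero_smul, smul_zero]⟩
      add_mem' := by
        rintro s t ⟨w, hw⟩ ⟨w', hw'⟩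
        exact ⟨w + w', by rw [add_smul, hw, hw', smul_add]⟩
      smul_mem' := by
        rintro c s ⟨w, hw⟩
        exact ⟨c • w, by rw [smul_eq_mul, mul_smul, hw, smul_comm]⟩ }
  have hε₀ : ε z₀' ≠ 0 := (hmin z₀' hn₀).1
  have hE : ∀ z, E z ≠ 0 := fun z => by
    by_cases h : good z
    · simp only [E, if_pos h]
      exact (hmin z h.2).1
    · simp only [E, if_neg h]
      exact hε₀
  have htop : (⊤ : Ideal C) ≤ ⨆ z, f (E z) := by
    rw [top_le_iff]
    by_contra hne
    obtain ⟨M, hM, hle⟩ := Ideal.exists_le_maximal _ hne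
    let z : PrimeSpectrum C := ⟨M, hM.isPrime⟩
    have hs : ∃ s ∉ M, s ∈ f (E z) := by
      by_cases h : good z
      · simp only [E, if_pos h]
        exact hmem z
      · simp only [E, if_neg h]
        by_cases hzero : ∃ s ∉ M, s • n = 0
        · obtain ⟨s, hs, hsn⟩ := hzero
          exact ⟨s, hs, 0, by rw [hsn, smul_zero]⟩
        · push Not at hzero
          have hP : M.comap (algebraMap V C) = ⊥ := by
            by_contra hP
            exact h ⟨hP, hzero⟩
          refine ⟨algebraMap V C (ε z₀'), fun hm => hε₀ ?_, n, algebraMap_smul C _ _⟩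
          rw [← Ideal.mem_bot, ← hP]
          exact hm
    obtain ⟨s, hs, hsf⟩ := hs
    exact hs (hle (le_iSup (fun z => f (E z)) z hsf))
  obtain ⟨F, hF⟩ := Submodule.mem_iSup_iff_exists_finset.mp (htop (Submodule.mem_top : (1 : C) ∈ ⊤))
  obtain ⟨z, -, hz⟩ : ∃ z ∈ insert z₀' F, ∀ z' ∈ insert z₀' F, E z ∣ E z' := by
    have : ∀ G : Finset (PrimeSpectrum C), G.Nonempty → ∃ z ∈ G, ∀ z' ∈ G, E z ∣ E z' := fun G hG => by
      induction hG using Finset.Nonempty.cons_induction with
      | singleton a => exact ⟨a, Finset.mem_singleton_self a, fun z' hz' => (Finset.mem_singleton.mp hz') ▸ dvd_rfl⟩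
      | cons a G ha hG ih =>
        obtain ⟨z, hz, hmin⟩ := ih
        obtain ⟨c, hc | hc⟩ := ValuationRing.cond (E a) (E z)
        · refine ⟨a, Finset.mem_cons_self a G, fun z' hz' => ?_⟩
          rcases Finset.mem_cons.mp hz' with rfl | hz'
          · exact dvd_rfl
          · exact (Dvd.intro c hc).trans (hmin z' hz')
        · refine ⟨z, Finset.mem_cons.mpr (Or.inr hz), fun z' hz' => ?_⟩
          rcases Finset.mem_cons.mp hz' with rfl | hz'
          · exact Dvd.intro c hc
          · exact hmin z' hz'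
    exact this _ ⟨z₀', Finset.mem_insert_self _ _⟩
  obtain ⟨b, hb⟩ : (1 : C) ∈ f (E z) := by
    have hle : (⨆ z' ∈ F, f (E z')) ≤ f (E z) := iSup₂_le fun z' hz' => ?_
    · exact hle hF
    rintro s ⟨w, hw⟩
    obtain ⟨c, hc⟩ := hz z' (Finset.mem_insert_of_mem hz')
    exact ⟨c • w, by rw [hw, hc, mul_smul]⟩
  rw [one_smul] at hb
  obtain ⟨z₁, hz₁, hEz⟩ : ∃ z₁, good z₁ ∧ E z = ε z₁ := by
    by_cases h : good z
    · exact ⟨z, h, by simp only [E, if_pos h]⟩
    · exact ⟨z₀', ⟨hP₀, hn₀⟩, by simp only [E, if_neg h]⟩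
  refine ⟨E z, b, z₁.asIdeal.comap (algebraMap V C), Ideal.comap_isPrime _ _, hE z, hz₁.1, hb, fun c hc hcb => ?_⟩
  rw [← algebraMap_smul C c b] at hcb
  exact (hmin z₁ hz₁.2).2 b (hEz ▸ hb) _ hc hcb

section Fibres

variable {A N M : Type u} [CommRing A] [AddCommGroup N] [Module A N] [AddCommGroup M] [Module A M]

/-- Denominators in a residue field. -/
theorem exists_smul_eq_one_tmul (t : Ideal A) [t.IsPrime] (x : t.ResidueField ⊗[A] N) :
    ∃ c ∉ t, ∃ n : N, c • x = (1 : t.ResidueField) ⊗ₜ[A] n := by
  induction x using TensorProduct.induction_on with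
  | zero => exact ⟨1, fun h => ‹t.IsPrime›.ne_top ((Ideal.eq_top_iff_one _).2 h), 0, by rw [smul_zero, tmul_zero]⟩
  | tmul r n =>
    obtain ⟨r, rfl⟩ := IsLocalRing.residue_surjective r
    obtain ⟨⟨a, c⟩, hac⟩ := IsLocalization.surj t.primeCompl r
    refine ⟨c, c.2, a • n, ?_⟩
    rw [TensorProduct.smul_tmul', ← TensorProduct.smul_tmul]
    congr 1
    rw [Algebra.smul_def, Algebra.smul_def, mul_one, IsScalarTower.algebraMap_apply A (Localization.AtPrime t) t.ResidueField,
      IsScalarTower.algebraMap_apply A (Localization.AtPrime t) t.ResidueField, ← hac, map_mul, mul_comm]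
    rfl
  | add y z hy hz =>
    obtain ⟨c, hc, n, hn⟩ := hy
    obtain ⟨d, hd, n', hn'⟩ := hz
    refine ⟨c * d, fun h => (‹t.IsPrime›.mem_or_mem h).elim hc hd, d • n + c • n', ?_⟩
    rw [tmul_add, tmul_smul, tmul_smul, ← hn, ← hn', smul_add, smul_smul, smul_smul, mul_comm d c]

theorem eq_zero_of_smul_eq_zero (t : Ideal A) [t.IsPrime] {c : A} (hc : c ∉ t) {x : t.ResidueField ⊗[A] N}
    (h : c • x = 0) : x = 0 := by
  rw [← algebraMap_smul t.ResidueField c x] at h
  refine (IsUnit.smul_eq_zero (isUnit_iff_ne_zero.mpr ?_)).mp h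
  rwa [Ne, Ideal.algebraMap_residueField_eq_zero]

end Fibres

section Main

variable {A B N M : Type u} [CommRing A] [IsLocalRing A] [CommRing B] [IsLocalRing B] [Algebra A B]
  [IsLocalHom (algebraMap A B)] [Algebra.EssFiniteType A B]
  [AddCommGroup N] [Module A N] [Module B N] [IsScalarTower A B N] [Module.Finite B N] [Module.Flat A N]
  [AddCommGroup M] [Module A M] [Module.Flat A M] (u : N →ₗ[A] M)

include B in
/-- Injectivity on the fibres strictly above a non closed prime passes to that prime. -/
theorem good_of_forall_gt (t : Ideal A) [t.IsPrime] (htm : t ≠ IsLocalRing.maximalIdeal A)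
    (hgood : ∀ t' : Ideal A, ∀ [t'.IsPrime], t < t' → Function.Injective (u.lTensor t'.ResidueField)) :
    Function.Injective (u.lTensor t.ResidueField) := by
  classical
  rw [injective_iff_map_eq_zero]
  intro x hx
  by_contra hx0
  let K := t.ResidueField
  obtain ⟨c, hc, n, hn⟩ := exists_smul_eq_one_tmul t x
  have hn0 : (1 : K) ⊗ₜ[A] n ≠ 0 := fun h => hx0 (eq_zero_of_smul_eq_zero t hc (hn.trans h))
  have hun : (1 : K) ⊗ₜ[A] u n = 0 := by
    rw [← LinearMap.lTensor_tmul, ← hn, map_smul, hx, smul_zero]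
  let J : Ideal B :=
    { carrier := {b | (1 : K) ⊗ₜ[A] (b • n) = 0}
      zero_mem' := by simp
      add_mem' := by
        intro a b ha hb
        simp only [Set.mem_setOf_eq] at ha hb ⊢
        rw [add_smul, tmul_add, ha, hb, add_zero]
      smul_mem' := by
        intro b a ha
        simp only [Set.mem_setOf_eq] at ha ⊢
        have h := congrArg (((LinearMap.lsmul B N b).restrictScalars A).lTensor K) ha
        rw [map_zero, LinearMap.lTensor_tmul] at h
        rw [smul_eq_mul, mul_smul]
        exact h }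
  have hJ : J ≠ ⊤ := fun h => hn0 (by
    have h1 : (1 : B) ∈ J := h ▸ Submodule.mem_top
    simpa [J] using h1)
  obtain ⟨⟨q, hq⟩⟩ := Ideal.nonempty_minimalPrimes hJ
  haveI : q.IsPrime := hq.1.1
  have hqt : t = q.comap (algebraMap A B) := by
    refine le_antisymm (fun a ha => hq.1.2 ?_) fun a ha => by_contra fun hat => ?_
    · show (1 : K) ⊗ₜ[A] (algebraMap A B a • n) = 0
      rw [algebraMap_smul, tmul_smul, ← algebraMap_smul K a, Ideal.algebraMap_residueField_eq_zero.mpr ha, zero_smul]
    · obtain ⟨y, hy, hay⟩ := Ideal.exists_mul_mem_of_mem_minimalPrimes hq (Ideal.mem_comap.mp ha)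
      refine hy (eq_zero_of_smul_eq_zero t hat ?_)
      rw [← tmul_smul, ← algebraMap_smul B a (y • n), smul_smul]
      exact hay
  let L := q.ResidueField
  let j : K →+* L := Ideal.ResidueField.map t q (algebraMap A B) hqt
  have hjA : ∀ a : A, j (algebraMap A K a) = algebraMap B L (algebraMap A B a) := fun a =>
    Ideal.ResidueField.map_algebraMap _ _ _ _ a
  obtain ⟨Vb, hVb⟩ := (LocalSubring.range (algebraMap B L)).exists_le_valuationSubring
  obtain ⟨hle, hloc⟩ := hVb
  have hBVb : ∀ b : B, algebraMap B L b ∈ Vb := fun b => hle ⟨b, rfl⟩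
  have hBloc : ∀ b : B, b ∈ IsLocalRing.maximalIdeal B → (⟨algebraMap B L b, hBVb b⟩ : Vb) ∈ IsLocalRing.maximalIdeal Vb := by
    intro b hb hu
    haveI := hloc
    let bb : (LocalSubring.range (algebraMap B L)).toSubring := ⟨algebraMap B L b, b, rfl⟩
    have h1 : IsUnit bb := isUnit_of_map_unit (Subring.inclusion hle) bb hu
    obtain ⟨⟨_, b', rfl⟩, hb'⟩ := h1.exists_right_inv
    have h2 : algebraMap B L (b * b' - 1) = 0 := by
      rw [map_sub, map_mul, map_one, sub_eq_zero]
      exact congrArg Subtype.val hb'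
    rw [Ideal.algebraMap_residueField_eq_zero] at h2
    have hqm : q ≤ IsLocalRing.maximalIdeal B := IsLocalRing.le_maximalIdeal (Ideal.IsPrime.ne_top ‹_›)
    exact (IsLocalRing.maximalIdeal.isMaximal B).ne_top
      ((Ideal.eq_top_iff_one _).mpr (by simpa using sub_mem (Ideal.mul_mem_right b' _ hb) (hqm h2)))
  let V : ValuationSubring K := Vb.comap j
  have hAV : ∀ a : A, algebraMap A K a ∈ V := fun a => by
    rw [ValuationSubring.mem_comap, hjA]
    exact hBVb _
  letI : Algebra A V := ((algebraMap A K).codRestrict V.toSubring hAV).toAlgebra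
  haveI : IsScalarTower A V K := IsScalarTower.of_algebraMap_eq fun _ => rfl
  let jV : V →+* Vb := (j.comp V.subtype).codRestrict Vb.toSubring fun v => v.2
  have hjVA : ∀ a : A, jV (algebraMap A V a) = ⟨algebraMap B L (algebraMap A B a), hBVb _⟩ := fun a => Subtype.ext (hjA a)
  letI : Algebra A Vb := (jV.comp (algebraMap A V)).toAlgebra
  let gV : V →ₐ[A] Vb := { toRingHom := jV, commutes' := fun a => rfl }
  let gB : B →ₐ[A] Vb :=
    { toRingHom := (algebraMap B L).codRestrict Vb.toSubring hBVb, commutes' := fun a => (hjVA a).symm }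
  let C := V ⊗[A] B
  haveI : IsScalarTower A B C := IsScalarTower.of_algebraMap_eq (R := A) (S := B) (A := C) fun a => by
    show algebraMap A V a ⊗ₜ[A] (1 : B) = (1 : V) ⊗ₜ[A] algebraMap A B a
    rw [Algebra.algebraMap_eq_smul_one, Algebra.algebraMap_eq_smul_one, TensorProduct.smul_tmul]
  let χ : C →ₐ[A] Vb := Algebra.TensorProduct.lift gV gB fun _ _ => Commute.all _ _
  let z₀ : Ideal C := (IsLocalRing.maximalIdeal Vb).comap χ.toRingHom
  haveI : z₀.IsPrime := Ideal.comap_isPrime _ _
  haveI : Algebra.IsPushout A V B C := inferInstance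
  haveI : Algebra.EssFiniteType V C := inferInstance
  let W := C ⊗[B] N
  let e : W ≃ₗ[V] V ⊗[A] N := Algebra.IsPushout.cancelBaseChange A V B C N
  haveI : Module.Flat V W := Module.Flat.of_linearEquiv e
  have he1 : ∀ m : N, e ((1 : C) ⊗ₜ[B] m) = (1 : V) ⊗ₜ[A] m := fun m => Algebra.IsPushout.cancelBaseChange_tmul A V B C N m
  let vK : V →ₗ[A] K := (IsScalarTower.toAlgHom A V K).toLinearMap
  have hvinj : ∀ (X : Type u) [AddCommGroup X] [Module A X] [Module.Flat A X], Function.Injective (vK.rTensor X) :=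
    fun X _ _ _ => Module.Flat.rTensor_preserves_injective_linearMap vK Subtype.val_injective
  let n' : W := (1 : C) ⊗ₜ[B] n
  have hP₀ : z₀.comap (algebraMap V C) ≠ ⊥ := by
    obtain ⟨a, ha, hat⟩ := SetLike.exists_of_lt
      (lt_of_le_of_ne (IsLocalRing.le_maximalIdeal (Ideal.IsPrime.ne_top ‹t.IsPrime›)) htm)
    intro hbot
    have h1 : algebraMap A V a ∈ z₀.comap (algebraMap V C) := by
      show χ (algebraMap A V a ⊗ₜ[A] (1 : B)) ∈ IsLocalRing.maximalIdeal Vb
      rw [Algebra.TensorProduct.lift_tmul, map_one, mul_one]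
      show jV (algebraMap A V a) ∈ _
      rw [hjVA]
      refine hBloc _ ?_
      rw [← Ideal.mem_comap, IsLocalRing.maximalIdeal_comap]
      exact ha
    rw [hbot, Ideal.mem_bot] at h1
    exact hat (Ideal.algebraMap_residueField_eq_zero.mp (congrArg Subtype.val h1))
  have hn₀ : ∀ s ∉ z₀, s • n' ≠ 0 := by
    intro s hs hsn
    obtain ⟨d, hd, b, hb⟩ : ∃ d ∉ t, ∃ b : B, d • s = (1 : V) ⊗ₜ[A] b := by
      clear hs hsn
      induction s using TensorProduct.induction_on with
      | zero => exact ⟨1, fun h => ‹t.IsPrime›.ne_top ((Ideal.eq_top_iff_one _).2 h), 0, by rw [smul_zero, tmul_zero]⟩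
      | tmul v b =>
        obtain ⟨r, hr⟩ := IsLocalRing.residue_surjective (v : K)
        obtain ⟨⟨a, c⟩, hac⟩ := IsLocalization.surj t.primeCompl r
        refine ⟨c, c.2, a • b, ?_⟩
        rw [TensorProduct.smul_tmul', ← TensorProduct.smul_tmul]
        congr 1
        rw [Algebra.smul_def, Algebra.smul_def, mul_one]
        apply Subtype.ext
        show algebraMap A K c * (v : K) = algebraMap A K a
        rw [← hr, IsScalarTower.algebraMap_apply A (Localization.AtPrime t) K,
          IsScalarTower.algebraMap_apply A (Localization.AtPrime t) K, ← hac, map_mul, mul_comm]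
        rfl
      | add y z hy hz =>
        obtain ⟨c, hc, m, hm⟩ := hy
        obtain ⟨d, hd, m', hm'⟩ := hz
        refine ⟨c * d, fun h => (‹t.IsPrime›.mem_or_mem h).elim hc hd, d • m + c • m', ?_⟩
        rw [tmul_add, tmul_smul, tmul_smul, ← hm, ← hm', smul_add, smul_smul, smul_smul, mul_comm d c]
    have h1 : e ((1 : C) ⊗ₜ[B] (b • n)) = 0 := by
      rw [tmul_smul, ← algebraMap_smul C b, show algebraMap B C b = (1 : V) ⊗ₜ[A] b from rfl, ← hb, smul_assoc]
      show e (d • s • n') = 0
      rw [hsn, smul_zero, map_zero]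
    have h2 : b ∈ J := by
      show (1 : K) ⊗ₜ[A] (b • n) = 0
      have h3 := congrArg (vK.rTensor N) ((he1 (b • n)).symm.trans h1)
      rw [map_zero, LinearMap.rTensor_tmul] at h3
      exact h3
    have h4 : algebraMap A Vb d * χ s = gB b := by
      rw [← Algebra.smul_def, ← map_smul, hb, Algebra.TensorProduct.lift_tmul, map_one, one_mul]
    have h5 : gB b = 0 := Subtype.ext (Ideal.algebraMap_residueField_eq_zero.mpr (hq.1.2 h2))
    rw [h5, mul_eq_zero] at h4
    rcases h4 with h4 | h4
    · refine hd (Ideal.algebraMap_residueField_eq_zero.mp (j.injective ?_))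
      rw [map_zero]
      exact congrArg Subtype.val h4
    · exact hs (show χ s ∈ IsLocalRing.maximalIdeal Vb by rw [h4]; exact zero_mem _)
  obtain ⟨ε, b, P, hP, hε, hPbot, hnb, hb⟩ := exists_normalisation n' z₀ hP₀ hn₀
  haveI := hP
  let w : W →ₗ[V] V ⊗[A] M := (u.baseChange V) ∘ₗ e.toLinearMap
  haveI : Module.Flat V (V ⊗[A] M) := Module.Flat.baseChange A V M
  have hwb : w b = 0 := by
    have h1 : w n' = 0 := by
      show u.baseChange V (e n') = 0
      rw [he1, LinearMap.baseChange_tmul]
      apply hvinj M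
      rw [LinearMap.rTensor_tmul, map_zero]
      exact (congrArg (fun r : K => r ⊗ₜ[A] u n) (map_one (IsScalarTower.toAlgHom A V K))).trans hun
    rw [hnb, map_smul] at h1
    exact (smul_eq_zero.mp h1).resolve_left hε
  let κ := P.ResidueField
  let t' : Ideal A := P.comap (algebraMap A V)
  have hlt : t < t' := by
    refine lt_of_le_of_ne (fun a ha => ?_) fun heq => hPbot ((Submodule.eq_bot_iff _).mpr fun v hv => ?_)
    · show algebraMap A V a ∈ P
      rw [show algebraMap A V a = 0 from Subtype.ext (Ideal.algebraMap_residueField_eq_zero.mpr ha)]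
      exact zero_mem _
    · obtain ⟨r, hr⟩ := IsLocalRing.residue_surjective (v : K)
      obtain ⟨⟨a, c⟩, hac⟩ := IsLocalization.surj t.primeCompl r
      have hmul : algebraMap A V c * v = algebraMap A V a := Subtype.ext (by
        show algebraMap A K c * (v : K) = algebraMap A K a
        rw [← hr, IsScalarTower.algebraMap_apply A (Localization.AtPrime t) K,
          IsScalarTower.algebraMap_apply A (Localization.AtPrime t) K, ← hac, map_mul, mul_comm]
        rfl)
      have hat : a ∈ t' := by
        show algebraMap A V a ∈ P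
        rw [← hmul]
        exact P.mul_mem_left _ hv
      rw [← heq] at hat
      have h0 : algebraMap A V a = 0 := Subtype.ext (Ideal.algebraMap_residueField_eq_zero.mpr hat)
      rw [h0, mul_eq_zero] at hmul
      exact hmul.resolve_left fun h => c.2 (Ideal.algebraMap_residueField_eq_zero.mp (congrArg Subtype.val h))
  letI : Algebra t'.ResidueField κ := (Ideal.ResidueField.map t' P (algebraMap A V) rfl).toAlgebra
  haveI : IsScalarTower A t'.ResidueField κ := IsScalarTower.of_algebraMap_eq fun a => by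
    show algebraMap A κ a = Ideal.ResidueField.map t' P (algebraMap A V) rfl (algebraMap A t'.ResidueField a)
    rw [Ideal.ResidueField.map_algebraMap, ← IsScalarTower.algebraMap_apply]
  have hκ : Function.Injective (w.lTensor κ) := by
    rw [LinearMap.lTensor_comp, LinearMap.coe_comp]
    exact ((lTensor_baseChange_inj_iff u).mpr (lTensor_inj_tower u (hgood t' hlt))).comp
      (LinearEquiv.lTensor κ e).injective
  have h0 : (1 : κ) ⊗ₜ[V] b = 0 := hκ (by rw [map_zero, LinearMap.lTensor_tmul, hwb, tmul_zero])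
  -- back to a membership
  let VP := Localization.AtPrime P
  let ιW : W →ₗ[V] VP ⊗[V] W := TensorProduct.mk V VP W 1
  have h1 : ιW b ∈ IsLocalRing.maximalIdeal VP • (⊤ : Submodule VP (VP ⊗[V] W)) := by
    refine Groth.Agent.LocFlat.Artinian.mem_smul_top_of_tmul_eq_zero (R := VP) (X := VP ⊗[V] W) _ _ ?_
    let ec := AlgebraTensorModule.cancelBaseChange V VP VP (IsLocalRing.ResidueField VP) W
    show (1 : IsLocalRing.ResidueField VP) ⊗ₜ[VP] ((1 : VP) ⊗ₜ[V] b) = 0
    apply ec.injective
    rw [map_zero, AlgebraTensorModule.cancelBaseChange_tmul, one_smul]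
    exact h0
  obtain ⟨c, hc, hcb⟩ : ∃ c ∉ P, c • b ∈ P • (⊤ : Submodule V W) := by
    have hloc : IsLocalizedModule P.primeCompl ιW :=
      (isLocalizedModule_iff_isBaseChange P.primeCompl VP ιW).mpr (TensorProduct.isBaseChange V W VP)
    suffices ∀ y ∈ IsLocalRing.maximalIdeal VP • (⊤ : Submodule VP (VP ⊗[V] W)),
        ∃ c ∉ P, ∃ w ∈ P • (⊤ : Submodule V W), c • y = ιW w by
      obtain ⟨c, hc, w', hw', hcw⟩ := this _ h1
      rw [← map_smul] at hcw
      obtain ⟨s, hs⟩ := IsLocalizedModule.exists_of_eq (S := P.primeCompl) hcw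
      refine ⟨(s : V) * c, fun h => (hP.mem_or_mem h).elim s.2 hc, ?_⟩
      rw [mul_smul]
      exact (show (s : V) • c • b = (s : V) • w' from hs) ▸ Submodule.smul_mem _ _ hw'
    intro y hy
    refine Submodule.smul_induction_on hy (fun r hr y _ => ?_) fun y y' hy hy' => ?_
    · obtain ⟨⟨r₀, s⟩, hrs⟩ := IsLocalization.surj P.primeCompl r
      obtain ⟨⟨w₀, s'⟩, hws⟩ := IsLocalizedModule.surj P.primeCompl ιW y
      have hr₀ : r₀ ∈ P := by
        rw [← IsLocalization.AtPrime.to_map_mem_maximal_iff VP P, ← hrs]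
        exact Ideal.mul_mem_right _ _ hr
      refine ⟨(s : V) * s', (s * s').2, r₀ • w₀, Submodule.smul_mem_smul hr₀ trivial, ?_⟩
      rw [map_smul, ← algebraMap_smul VP r₀ (ιW w₀), ← hrs, ← hws, mul_smul, mul_comm r, mul_smul,
        algebraMap_smul]
      exact congrArg ((s : V) • ·) (smul_comm (s' : V) r y)
    · obtain ⟨c, hc, w, hw, hcy⟩ := hy
      obtain ⟨c', hc', w', hw', hcy'⟩ := hy'
      refine ⟨c * c', fun h => (hP.mem_or_mem h).elim hc hc', c' • w + c • w',
        add_mem (Submodule.smul_mem _ _ hw) (Submodule.smul_mem _ _ hw'), ?_⟩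
      rw [map_add, map_smul, map_smul, ← hcy, ← hcy', smul_add, smul_smul, smul_smul, mul_comm c' c]
  exact hb c hc hcb

include B in
/-- Injectivity on all fibres, given the spreading property. -/
theorem good_all (h : Function.Injective (u.lTensor (IsLocalRing.ResidueField A)))
    (hs : ∀ (p : Ideal A) [p.IsPrime], Function.Injective (u.lTensor p.ResidueField) →
      ∃ I : Ideal (Localization.AtPrime p), I.FG ∧ I ≤ IsLocalRing.maximalIdeal (Localization.AtPrime p) ∧
      ∀ (Q : Type u) [AddCommGroup Q] [Module A Q] [Module (Localization.AtPrime p ⧸ I) Q]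
        [IsScalarTower A (Localization.AtPrime p ⧸ I) Q], Function.Injective (u.lTensor Q))
    (t : Ideal A) [t.IsPrime] : Function.Injective (u.lTensor t.ResidueField) := by
  classical
  let S : Set (Ideal A) := {t | ∃ _ : t.IsPrime, ¬ Function.Injective (u.lTensor t.ResidueField)}
  by_contra hbad
  obtain ⟨t₁, -, ⟨ht₁, hbad₁⟩, hmax⟩ := zorn_le_nonempty₀ S (fun c hcS hc y hy => by
    let U : Ideal A := sSup c
    have hmemU : ∀ x, x ∈ U ↔ ∃ i ∈ c, x ∈ i := fun x => Submodule.mem_sSup_of_directed ⟨y, hy⟩ hc.directedOn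
    haveI hUp : U.IsPrime := by
      refine ⟨fun htop => ?_, fun {a b} hab => ?_⟩
      · obtain ⟨i, hi, h1⟩ := (hmemU 1).mp (htop ▸ Submodule.mem_top)
        exact (hcS hi).1.ne_top ((Ideal.eq_top_iff_one _).mpr h1)
      · obtain ⟨i, hi, h1⟩ := (hmemU _).mp hab
        exact ((hcS hi).1.mem_or_mem h1).imp (fun h => (hmemU _).mpr ⟨i, hi, h⟩) fun h => (hmemU _).mpr ⟨i, hi, h⟩
    refine ⟨U, ⟨hUp, fun hU => ?_⟩, fun i hi => le_sSup hi⟩
    obtain ⟨I, hI, hIm, hQ⟩ := hs U hU
    obtain ⟨G, hG⟩ := hI
    choose k hk using fun g : Localization.AtPrime U => IsLocalization.surj U.primeCompl g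
    have hkU : ∀ g ∈ G, (k g).1 ∈ U := fun g hg => by
      rw [← IsLocalization.AtPrime.to_map_mem_maximal_iff (Localization.AtPrime U) U, ← hk g]
      exact Ideal.mul_mem_right _ _ (hIm (hG ▸ Submodule.subset_span hg))
    obtain ⟨i, hi, hGi⟩ : ∃ i ∈ c, ∀ g ∈ G, (k g).1 ∈ i := by
      clear hG
      induction G using Finset.induction_on with
      | empty => exact ⟨y, hy, fun g hg => absurd hg (Finset.notMem_empty g)⟩
      | @insert g G _ ih =>
        obtain ⟨i, hi, hGi⟩ := ih fun g' hg' => hkU g' (Finset.mem_insert_of_mem hg')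
        obtain ⟨i', hi', hgi⟩ := (hmemU _).mp (hkU g (Finset.mem_insert_self g G))
        obtain ⟨j, hj, h1, h2⟩ := hc.directedOn i hi i' hi'
        refine ⟨j, hj, fun g' hg' => ?_⟩
        rcases Finset.mem_insert.mp hg' with rfl | hg'
        · exact h2 hgi
        · exact h1 (hGi g' hg')
    haveI := (hcS hi).1
    have hu : ∀ s : U.primeCompl, IsUnit (algebraMap A i.ResidueField s) := fun s => isUnit_iff_ne_zero.mpr fun h0 =>
      s.2 (le_sSup (s := c) hi (Ideal.algebraMap_residueField_eq_zero.mp h0))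
    let φ : Localization.AtPrime U →+* i.ResidueField := IsLocalization.lift hu
    have hφ : ∀ r ∈ I, φ r = 0 := by
      intro r hr
      rw [← hG] at hr
      refine (Submodule.span_le (p := RingHom.ker φ)).mpr (fun g hg => ?_) hr
      have h0 : φ g * φ (algebraMap A _ ((k g).2 : A)) = 0 := by
        rw [← map_mul, hk g, IsLocalization.lift_eq, Ideal.algebraMap_residueField_eq_zero]
        exact hGi g hg
      rw [IsLocalization.lift_eq] at h0
      exact (IsUnit.mul_left_eq_zero (hu (k g).2)).mp h0
    letI : Algebra (Localization.AtPrime U ⧸ I) i.ResidueField := (Ideal.Quotient.lift I φ hφ).toAlgebra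
    haveI : IsScalarTower A (Localization.AtPrime U ⧸ I) i.ResidueField := IsScalarTower.of_algebraMap_eq fun a => by
      show _ = Ideal.Quotient.lift I φ hφ (Ideal.Quotient.mk I (algebraMap A (Localization.AtPrime U) a))
      rw [Ideal.Quotient.lift_mk, IsLocalization.lift_eq]
    exact (hcS hi).2 (hQ i.ResidueField)) t ⟨inferInstance, hbad⟩
  haveI := ht₁
  refine hbad₁ ?_
  by_cases htm : t₁ = IsLocalRing.maximalIdeal A
  · subst htm
    let kA := IsLocalRing.ResidueField A
    letI : Algebra kA (IsLocalRing.maximalIdeal A).ResidueField :=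
      (Ideal.Quotient.lift (IsLocalRing.maximalIdeal A) (algebraMap A (IsLocalRing.maximalIdeal A).ResidueField)
        fun a ha => Ideal.algebraMap_residueField_eq_zero.mpr ha : kA →+* _).toAlgebra
    haveI : IsScalarTower A kA (IsLocalRing.maximalIdeal A).ResidueField := IsScalarTower.of_algebraMap_eq fun _ => rfl
    exact lTensor_inj_tower u h
  · exact good_of_forall_gt (B := B) u t₁ htm fun t' ht' hlt => by_contra fun hc =>
      hlt.not_ge (hmax ⟨ht', hc⟩ hlt.le)

end Main

section Univ

variable {A N M : Type u} [CommRing A] [AddCommGroup N] [Module A N] [Module.Flat A N]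
  [AddCommGroup M] [Module A M] [Module.Flat A M] (u : N →ₗ[A] M)

/-- Universal injectivity from the spreading property at every prime. -/
theorem univInj_of_spread
    (hs : ∀ (p : Ideal A) [p.IsPrime],
      ∃ I : Ideal (Localization.AtPrime p), I.FG ∧ I ≤ IsLocalRing.maximalIdeal (Localization.AtPrime p) ∧
      ∀ (Q : Type u) [AddCommGroup Q] [Module A Q] [Module (Localization.AtPrime p ⧸ I) Q]
        [IsScalarTower A (Localization.AtPrime p ⧸ I) Q], Function.Injective (u.lTensor Q))
    (Q : Type u) [AddCommGroup Q] [Module A Q] : Function.Injective (u.lTensor Q) := by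
  classical
  rw [injective_iff_map_eq_zero]
  intro x hx
  by_contra hx0
  let J₀ : Ideal A := LinearMap.ker (LinearMap.toSpanSingleton A (Q ⊗[A] N) x)
  have hJ₀ : J₀ ≠ ⊤ := fun h => hx0 (by
    have h1 : (1 : A) ∈ J₀ := h ▸ Submodule.mem_top
    simpa [J₀, LinearMap.mem_ker] using h1)
  obtain ⟨⟨p, hp⟩⟩ := Ideal.nonempty_minimalPrimes hJ₀
  haveI : p.IsPrime := hp.1.1
  obtain ⟨I, hI, hIm, hQ⟩ := hs p
  let P := Localization.AtPrime p
  let Y := P ⊗[A] Q
  let assoc : Y ⊗[A] N ≃ₗ[P] P ⊗[A] (Q ⊗[A] N) := AlgebraTensorModule.assoc A A P P Q N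
  let y : Y ⊗[A] N := assoc.symm ((1 : P) ⊗ₜ[A] x)
  have hy0 : y ≠ 0 := fun h => by
    have h1 : TensorProduct.mk A P (Q ⊗[A] N) 1 x = 0 := by
      simpa [y] using congrArg assoc h
    haveI : IsLocalizedModule p.primeCompl (TensorProduct.mk A P (Q ⊗[A] N) 1) :=
      (isLocalizedModule_iff_isBaseChange p.primeCompl P _).mpr (TensorProduct.isBaseChange A (Q ⊗[A] N) P)
    obtain ⟨s, hs'⟩ := (IsLocalizedModule.eq_zero_iff p.primeCompl _).mp h1
    exact s.2 (hp.1.2 (show (s : A) • x = 0 from hs'))
  have huy : u.lTensor Y y = 0 := by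
    have hnat : ∀ z : P ⊗[A] (Q ⊗[A] N), u.lTensor Y (assoc.symm z) =
        (AlgebraTensorModule.assoc A A P P Q M).symm ((u.lTensor Q).lTensor P z) := fun z => by
      induction z using TensorProduct.induction_on with
      | zero => simp
      | tmul r z =>
        induction z using TensorProduct.induction_on with
        | zero => simp
        | tmul q n =>
          rfl
        | add a b ha hb => simp only [tmul_add, map_add, ha, hb]
      | add a b ha hb => simp only [map_add, ha, hb]
    rw [hnat, LinearMap.lTensor_tmul, hx, tmul_zero, map_zero]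
  let J : Ideal P := LinearMap.ker (LinearMap.toSpanSingleton P (Y ⊗[A] N) y)
  have hJ : IsLocalRing.maximalIdeal P ≤ J.radical := by
    rw [← IsLocalization.AtPrime.map_eq_maximalIdeal p P, ← IsLocalization.AtPrime.radical_map_of_mem_minimalPrimes (A := P) p J₀ hp]
    refine Ideal.radical_mono (Ideal.map_le_iff_le_comap.mpr fun a ha => ?_)
    have ha' : a • x = 0 := by simpa [J₀, LinearMap.mem_ker] using ha
    show algebraMap A P a • y = 0
    rw [← map_smul assoc.symm, algebraMap_smul, ← tmul_smul, ha', tmul_zero, map_zero]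
  obtain ⟨k, hk⟩ := Ideal.exists_pow_le_of_le_radical_of_fg (hIm.trans hJ) hI
  obtain ⟨G, hG⟩ := hI
  suffices key : ∀ v : Y ⊗[A] N, (∀ a ∈ I, a • v = 0) → u.lTensor Y v = 0 → v = 0 by
    have hsmul : ∀ (a : P) (v : Y ⊗[A] N), u.lTensor Y (a • v) = a • u.lTensor Y v := fun a v => by
      induction v using TensorProduct.induction_on with
      | zero => rw [smul_zero, map_zero, smul_zero]
      | tmul q n => simp only [TensorProduct.smul_tmul', LinearMap.lTensor_tmul]
      | add a b ha hb => simp only [smul_add, map_add, ha, hb]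
    have hrec : ∀ (k : ℕ) (v : Y ⊗[A] N), (∀ a ∈ I ^ k, a • v = 0) → u.lTensor Y v = 0 → v = 0 := by
      intro k
      induction k with
      | zero => exact fun v hv _ => (one_smul P v).symm.trans (hv 1 (by rw [pow_zero, Ideal.one_eq_top]; trivial))
      | succ k ih =>
        intro v hv huv
        refine key v (fun a ha => ih (a • v) (fun c hc => ?_) ?_) huv
        · rw [smul_smul]
          exact hv _ (by rw [pow_succ]; exact Ideal.mul_mem_mul hc ha)
        · rw [hsmul, huv, smul_zero]
    exact hy0 (hrec k y (fun a ha => hk ha) huy)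
  intro v hv huv
  let f : Y →ₗ[A] (↥G → Y) := LinearMap.pi fun g => ((LinearMap.lsmul P Y (g : P)).restrictScalars A)
  have hex : Function.Exact ((LinearMap.ker f).subtype.rTensor N) (f.rTensor N) := by
    refine Module.Flat.rTensor_exact N (N := ↥(LinearMap.ker f)) (N' := Y) (N'' := ↥G → Y) ?_
    exact fun w => ⟨fun h => ⟨⟨w, h⟩, rfl⟩, fun ⟨⟨_, h⟩, e⟩ => e ▸ h⟩
  have hfv : f.rTensor N v = 0 := by
    apply (TensorProduct.piLeft (R := A) (M := fun _ : G => Y) (N := N)).injective
    rw [map_zero]
    funext g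
    have hcomp : ∀ z : Y ⊗[A] N, TensorProduct.piLeft (R := A) (M := fun _ : G => Y) (N := N) (f.rTensor N z) g =
        (g : P) • z := fun z => by
      induction z using TensorProduct.induction_on with
      | zero => simp
      | tmul q n => simp [f, TensorProduct.smul_tmul']
      | add a b ha hb => simp only [map_add, Pi.add_apply, smul_add, ha, hb]
    rw [hcomp]
    exact hv _ (hG ▸ Submodule.subset_span g.2)
  obtain ⟨z, rfl⟩ := (hex v).mp hfv
  let Y' := LinearMap.ker f
  let Y'' : Submodule P Y :=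
    { carrier := Y'
      zero_mem' := zero_mem Y'
      add_mem' := fun ha hb => add_mem ha hb
      smul_mem' := fun a q hq => by
        rw [SetLike.mem_coe, LinearMap.mem_ker] at hq ⊢
        funext g
        have h1 := congrFun hq g
        simp only [f, LinearMap.pi_apply, LinearMap.restrictScalars_apply, LinearMap.lsmul_apply, Pi.zero_apply] at h1 ⊢
        rw [smul_comm, h1, smul_zero] }
  have htors : Module.IsTorsionBySet P Y'' (I : Set P) := fun q a => by
    obtain ⟨a, ha⟩ := a
    have ha' : a ∈ Submodule.span P (G : Set P) := by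
      rw [← hG] at ha
      exact ha
    refine Submodule.span_induction (p := fun a _ => a • q = 0) ?_ (zero_smul _ _)
      (fun a b _ _ ha hb => by rw [add_smul, ha, hb, add_zero]) (fun c a _ ha => by rw [smul_eq_mul, mul_smul, ha, smul_zero]) ha'
    intro g hg
    refine Subtype.ext ?_
    have h1 := congrFun (LinearMap.mem_ker.mp (show (q : Y) ∈ Y' from q.2)) ⟨g, hg⟩
    simpa [f] using h1
  letI : Module (P ⧸ I) Y'' := Module.IsTorsionBySet.module (R := P) (M := Y'') (I := I) htors
  haveI : IsScalarTower A (P ⧸ I) Y'' := IsScalarTower.of_algebraMap_smul (R := A) (A := P ⧸ I) (M := Y'') fun a q => by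
    show algebraMap A P a • q = a • q
    rw [algebraMap_smul]
  let i' : Y'' →ₗ[A] Y := Y''.subtype.restrictScalars A
  let e' : Y' →ₗ[A] Y'' := { toFun := fun q => ⟨q.1, q.2⟩, map_add' := fun _ _ => rfl, map_smul' := fun _ _ => rfl }
  have hsub : Y'.subtype = i' ∘ₗ e' := rfl
  have hnat : ∀ z : Y'' ⊗[A] N, u.lTensor Y (i'.rTensor N z) = i'.rTensor M (u.lTensor Y'' z) := fun z => by
    induction z using TensorProduct.induction_on with
    | zero => simp
    | tmul q n => simp
    | add a b ha hb => simp only [map_add, ha, hb]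
  rw [hsub, LinearMap.rTensor_comp, LinearMap.comp_apply] at huv ⊢
  rw [hnat] at huv
  have h1 : u.lTensor Y'' (e'.rTensor N z) = 0 :=
    Module.Flat.rTensor_preserves_injective_linearMap i' Subtype.val_injective (huv.trans (map_zero _).symm)
  have h2 : e'.rTensor N z = 0 := hQ Y'' (h1.trans (map_zero _).symm)
  rw [h2, map_zero]

end Univ

end Groth.Agent.FlatMor.LinInjMain
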