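import Groth.Agent.HP.SepMain
import Groth.Agent.RGFlat.Loc
import Groth.Agent.LocFlat.Basic
import Groth.Agent.LocFlat.Artinian
import Mathlib.RingTheory.Nakayama
import Mathlib.RingTheory.EssentialFiniteness

/-!
A map from a finite module to a flat module over a local homomorphism essentially of finite type
which is injective modulo the maximal ideal of the base is injective with flat cokernel
(non-Noetherian version).
-/

set_option autoImplicit false

universe u

open TensorProduct Function

namespace Groth.Agent.FlatMor.LocalInj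

section Local

variable {A B : Type u} [CommRing A] [IsLocalRing A] [CommRing B] [IsLocalRing B] [Algebra A B]
  [IsLocalHom (algebraMap A B)] [Algebra.EssFiniteType A B]

/-- A finite module over a local ring essentially of finite type over a local ring which is flat over
the base is finitely presented. -/
theorem finitePresentation_of_flat (N : Type u) [AddCommGroup N] [Module A N] [Module B N]
    [IsScalarTower A B N] [Module.Finite B N] [Module.Flat A N] : Module.FinitePresentation B N := by
  let S := Algebra.EssFiniteType.subalgebra A B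
  let q : Ideal S := (IsLocalRing.maximalIdeal B).comap (algebraMap S B)
  haveI : q.IsPrime := Ideal.comap_isPrime _ _
  let M₀ := Algebra.EssFiniteType.submonoid A B
  have hM₀ : M₀ ≤ q.primeCompl := fun s hs hsq =>
    IsLocalRing.notMem_maximalIdeal.mpr (IsLocalization.map_units B (⟨s, hs⟩ : M₀)) hsq
  haveI : IsLocalization.AtPrime B q :=
    IsLocalization.isLocalization_of_is_exists_mul_mem B M₀ q.primeCompl hM₀ fun s => by
      obtain ⟨v, hv⟩ := (IsLocalRing.notMem_maximalIdeal.mp s.2 : IsUnit (algebraMap S B s)).exists_left_inv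
      obtain ⟨⟨a, t⟩, ht⟩ := IsLocalization.surj M₀ v
      refine ⟨a, ?_⟩
      have heq : algebraMap S B (a * (s : S)) = algebraMap S B t := by
        rw [map_mul, ← ht, mul_comm v, mul_assoc, hv, mul_one]
      rw [show (a * (s : S)) = t from Subtype.ext (by simpa using heq)]
      exact t.2
  exact RGFlat.fp_of_flat (R := A) q B N

variable {N M : Type u} [AddCommGroup N] [Module A N] [AddCommGroup M] [Module A M]

/-- Injectivity modulo `J` of a linear map, elementwise. -/
theorem lTensor_injective_of_mem {R : Type u} [CommRing R] {N M : Type u} [AddCommGroup N] [Module R N]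
    [AddCommGroup M] [Module R M] (u : N →ₗ[R] M) (J : Ideal R)
    (h : ∀ n, u n ∈ J • (⊤ : Submodule R M) → n ∈ J • (⊤ : Submodule R N)) :
    Injective (u.lTensor (R ⧸ J)) := by
  rw [injective_iff_map_eq_zero]
  intro x hx
  obtain ⟨q, hq⟩ := Submodule.mkQ_surjective _ (TensorProduct.quotTensorEquivQuotSMul N J x)
  obtain rfl : x = (Submodule.Quotient.mk 1 : R ⧸ J) ⊗ₜ[R] q := by
    apply (TensorProduct.quotTensorEquivQuotSMul N J).injective
    rw [← hq]
    refine Eq.trans ?_ (TensorProduct.quotTensorEquivQuotSMul_mk_tmul J 1 q).symm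
    rw [one_smul]
    rfl
  rw [LinearMap.lTensor_tmul] at hx
  apply (TensorProduct.quotTensorEquivQuotSMul N J).injective
  rw [map_zero]
  refine (TensorProduct.quotTensorEquivQuotSMul_mk_tmul J 1 q).trans ?_
  rw [one_smul, Submodule.Quotient.mk_eq_zero]
  exact h q (LocFlat.Artinian.mem_smul_top_of_tmul_eq_zero J (u q) hx)

/-- The elementwise form of injectivity modulo `J`. -/
theorem mem_of_lTensor_injective {R : Type u} [CommRing R] {N M : Type u} [AddCommGroup N] [Module R N]
    [AddCommGroup M] [Module R M] (u : N →ₗ[R] M) (J : Ideal R)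
    (h : Injective (u.lTensor (R ⧸ J))) (n : N) (hn : u n ∈ J • (⊤ : Submodule R M)) :
    n ∈ J • (⊤ : Submodule R N) := by
  refine LocFlat.Artinian.mem_smul_top_of_tmul_eq_zero J n (h ?_)
  rw [LinearMap.lTensor_tmul, map_zero]
  apply (TensorProduct.quotTensorEquivQuotSMul M J).injective
  rw [map_zero]
  refine (TensorProduct.quotTensorEquivQuotSMul_mk_tmul J 1 (u n)).trans ?_
  rw [one_smul, Submodule.Quotient.mk_eq_zero]
  exact hn

variable [Module B N] [IsScalarTower A B N] [Module.Finite B N] [Module B M] [IsScalarTower A B M]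
  [Module.Flat A M]

/-- Injective modulo the maximal ideal implies injective. -/
theorem injective_of_mem (u : N →ₗ[B] M)
    (h : ∀ n, u n ∈ IsLocalRing.maximalIdeal A • (⊤ : Submodule A M) →
      n ∈ IsLocalRing.maximalIdeal A • (⊤ : Submodule A N)) : Injective u := by
  set m := IsLocalRing.maximalIdeal A
  let r : N →ₗ[B] LinearMap.range u := u.rangeRestrict
  have hr : Surjective r := u.surjective_rangeRestrict
  haveI : Module.Finite B (LinearMap.range u) := Module.Finite.of_surjective r hr
  haveI : Module.Flat A (LinearMap.range u) :=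
    HP.Sep.flat_of_map (B := B) ((LinearMap.range u).subtype.restrictScalars A)
      (lTensor_injective_of_mem _ m fun y hy => by
        obtain ⟨n, rfl⟩ := hr y
        have h1 := Submodule.mem_map_of_mem (f := r.restrictScalars A) (h n hy)
        rw [Submodule.map_smul''] at h1
        exact Submodule.smul_mono le_rfl le_top h1)
  haveI : Module.FinitePresentation B (LinearMap.range u) := finitePresentation_of_flat (A := A) _
  have hfg : (LinearMap.ker r).FG := Module.FinitePresentation.fg_ker r hr
  have hle : (LinearMap.ker r).restrictScalars A ≤ m • (LinearMap.ker r).restrictScalars A :=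
    LocFlat.Artinian.ker_le_smul (g := r.restrictScalars A) m hr fun n hn => by
      refine h n ?_
      have : u n = 0 := congrArg Subtype.val (show r n = 0 from hn)
      rw [this]
      exact zero_mem _
  have hker : LinearMap.ker r = ⊥ := by
    refine Submodule.eq_bot_of_le_smul_of_le_jacobson_bot (IsLocalRing.maximalIdeal B) _ hfg
      (fun n hn => ?_) (by rw [IsLocalRing.jacobson_eq_maximalIdeal ⊥ bot_ne_top])
    refine Submodule.smul_induction_on (hle hn) (fun a ha y hy => ?_) (fun y z hy hz => add_mem hy hz)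
    rw [← algebraMap_smul B a y]
    refine Submodule.smul_mem_smul ?_ hy
    simp only [m] at ha
    rw [← IsLocalRing.maximalIdeal_comap (algebraMap A B)] at ha
    exact ha
  intro x y hxy
  have : x - y ∈ LinearMap.ker r := Subtype.ext (by simp [r, hxy])
  rw [hker, Submodule.mem_bot] at this
  exact sub_eq_zero.mp this

end Local

section Quot

variable {A B : Type u} [CommRing A] [IsLocalRing A] [CommRing B] [IsLocalRing B] [Algebra A B]
  [IsLocalHom (algebraMap A B)] [Algebra.EssFiniteType A B]
  {N M : Type u} [AddCommGroup N] [Module A N] [AddCommGroup M] [Module A M]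
  [Module B N] [IsScalarTower A B N] [Module.Finite B N] [Module B M] [IsScalarTower A B M]
  [Module.Flat A M]

/-- Injective modulo the maximal ideal implies injective modulo every ideal. -/
theorem mem_of_mem (u : N →ₗ[B] M)
    (h : ∀ n, u n ∈ IsLocalRing.maximalIdeal A • (⊤ : Submodule A M) →
      n ∈ IsLocalRing.maximalIdeal A • (⊤ : Submodule A N))
    (J : Ideal A) (n : N) (hn : u n ∈ J • (⊤ : Submodule A M)) : n ∈ J • (⊤ : Submodule A N) := by
  by_cases hJ : J = ⊤
  · rw [hJ, Submodule.top_smul]; trivial
  set JB : Ideal B := J.map (algebraMap A B) with hJB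
  have hJBtop : JB ≠ ⊤ := fun h0 => (IsLocalRing.maximalIdeal.isMaximal B).ne_top
    (top_le_iff.mp (h0 ▸ Ideal.map_le_iff_le_comap.mpr ((IsLocalRing.le_maximalIdeal hJ).trans
      (IsLocalRing.maximalIdeal_comap (algebraMap A B)).ge)))
  haveI : Nontrivial (A ⧸ J) := Ideal.Quotient.nontrivial_iff.mpr hJ
  haveI : Nontrivial (B ⧸ JB) := Ideal.Quotient.nontrivial_iff.mpr hJBtop
  haveI : IsLocalRing (A ⧸ J) := IsLocalRing.of_surjective' (Ideal.Quotient.mk J) Ideal.Quotient.mk_surjective
  haveI : IsLocalRing (B ⧸ JB) := IsLocalRing.of_surjective' (Ideal.Quotient.mk JB) Ideal.Quotient.mk_surjective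
  haveI : IsLocalHom (algebraMap (A ⧸ J) (B ⧸ JB)) := ⟨fun a ha => by
    obtain ⟨a, rfl⟩ := Ideal.Quotient.mk_surjective a
    refine IsUnit.map _ (isUnit_of_map_unit (algebraMap A B) a ?_)
    haveI : IsLocalHom (Ideal.Quotient.mk JB) :=
      IsLocalHom.of_surjective _ Ideal.Quotient.mk_surjective
    exact isUnit_of_map_unit (Ideal.Quotient.mk JB) _ ha⟩
  haveI : Algebra.EssFiniteType A (B ⧸ JB) := Algebra.EssFiniteType.comp A B (B ⧸ JB)
  haveI : Algebra.EssFiniteType (A ⧸ J) (B ⧸ JB) := Algebra.EssFiniteType.of_comp A (A ⧸ J) (B ⧸ JB)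
  let PN : Submodule B N := JB • ⊤
  let PM : Submodule B M := JB • ⊤
  have ePN : PN.restrictScalars A = J • ⊤ := (Ideal.smul_restrictScalars J ⊤).trans (by rw [Submodule.restrictScalars_top])
  have ePM : PM.restrictScalars A = J • ⊤ := (Ideal.smul_restrictScalars J ⊤).trans (by rw [Submodule.restrictScalars_top])
  letI : Module (A ⧸ J) (N ⧸ PN) := Module.compHom _ (algebraMap (A ⧸ J) (B ⧸ JB))
  letI : Module (A ⧸ J) (M ⧸ PM) := Module.compHom _ (algebraMap (A ⧸ J) (B ⧸ JB))
  haveI : IsScalarTower (A ⧸ J) (B ⧸ JB) (N ⧸ PN) := IsScalarTower.of_algebraMap_smul fun _ _ => rfl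
  haveI : IsScalarTower (A ⧸ J) (B ⧸ JB) (M ⧸ PM) := IsScalarTower.of_algebraMap_smul fun _ _ => rfl
  haveI : Module.Finite (B ⧸ JB) (N ⧸ PN) := Module.Finite.of_restrictScalars_finite B _ _
  have hsmulN : ∀ (a : A) (y : N ⧸ PN), Ideal.Quotient.mk J a • y = a • y := fun a y => by
    obtain ⟨y, rfl⟩ := Submodule.Quotient.mk_surjective PN y
    show Submodule.Quotient.mk (algebraMap A B a • y) = Submodule.Quotient.mk (a • y)
    rw [algebraMap_smul]
  have hsmulM : ∀ (a : A) (y : M ⧸ PM), Ideal.Quotient.mk J a • y = a • y := fun a y => by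
    obtain ⟨y, rfl⟩ := Submodule.Quotient.mk_surjective PM y
    show Submodule.Quotient.mk (algebraMap A B a • y) = Submodule.Quotient.mk (a • y)
    rw [algebraMap_smul]
  haveI : IsScalarTower A (A ⧸ J) (M ⧸ PM) := IsScalarTower.of_algebraMap_smul hsmulM
  haveI : Module.Flat (A ⧸ J) (M ⧸ PM) := by
    haveI : Module.Flat (A ⧸ J) ((A ⧸ J) ⊗[A] M) := Module.Flat.baseChange A (A ⧸ J) M
    let e : (A ⧸ J) ⊗[A] M ≃ₗ[A] (M ⧸ PM) :=
      (TensorProduct.quotTensorEquivQuotSMul M J).trans ((Submodule.quotEquivOfEq _ _ ePM.symm).trans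
        (Submodule.Quotient.restrictScalarsEquiv A PM))
    exact Module.Flat.of_linearEquiv (e.extendScalarsOfSurjective Ideal.Quotient.mk_surjective).symm
  have hle : PN ≤ PM.comap u := by
    rw [← Submodule.map_le_iff_le_comap, Submodule.map_smul'']
    exact Submodule.smul_mono le_rfl le_top
  let v₀ : (N ⧸ PN) →ₗ[B] (M ⧸ PM) := PN.mapQ PM u hle
  let v : (N ⧸ PN) →ₗ[B ⧸ JB] (M ⧸ PM) := v₀.extendScalarsOfSurjective Ideal.Quotient.mk_surjective
  have hmax : ∀ a : A, a ∈ IsLocalRing.maximalIdeal A ↔
      Ideal.Quotient.mk J a ∈ IsLocalRing.maximalIdeal (A ⧸ J) := fun a => by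
    haveI : IsLocalHom (Ideal.Quotient.mk J) := IsLocalHom.of_surjective _ Ideal.Quotient.mk_surjective
    simp only [IsLocalRing.mem_maximalIdeal, mem_nonunits_iff, isUnit_map_iff (Ideal.Quotient.mk J)]
  set m := IsLocalRing.maximalIdeal A
  have hJm : J ≤ m := IsLocalRing.le_maximalIdeal hJ
  have hinj : Injective v := injective_of_mem (A := A ⧸ J) v fun y hy => by
    obtain ⟨y, rfl⟩ := Submodule.Quotient.mk_surjective PN y
    let πM : M →ₗ[A] (M ⧸ PM) := PM.mkQ.restrictScalars A
    let πN : N →ₗ[A] (N ⧸ PN) := PN.mkQ.restrictScalars A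
    have h1 : (πM (u y) : M ⧸ PM) ∈ Submodule.map πM (m • ⊤) := by
      refine Submodule.smul_induction_on hy (fun a ha z _ => ?_) fun z w hz hw => add_mem hz hw
      obtain ⟨a, rfl⟩ := Ideal.Quotient.mk_surjective a
      obtain ⟨z, rfl⟩ := Submodule.Quotient.mk_surjective PM z
      exact ⟨a • z, Submodule.smul_mem_smul ((hmax a).mpr ha) trivial, by rw [hsmulM]; rfl⟩
    obtain ⟨z, hz, hzy⟩ := h1
    have h2 : z - u y ∈ PM.restrictScalars A := (Submodule.Quotient.eq PM).mp hzy
    rw [ePM] at h2
    have h3 : u y ∈ m • (⊤ : Submodule A M) := by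
      have := sub_mem hz (Submodule.smul_mono_left hJm h2)
      rwa [sub_sub_cancel] at this
    refine Submodule.smul_induction_on (p := fun z => πN z ∈ IsLocalRing.maximalIdeal (A ⧸ J) • (⊤ : Submodule (A ⧸ J) (N ⧸ PN)))
      (h y h3) (fun a ha z _ => ?_) fun z w hz hw => by rw [map_add]; exact add_mem hz hw
    rw [map_smul, ← hsmulN]
    exact Submodule.smul_mem_smul ((hmax a).mp ha) trivial
  have h4 : v (Submodule.Quotient.mk n) = 0 := by
    show (Submodule.Quotient.mk (u n) : M ⧸ PM) = 0
    rw [Submodule.Quotient.mk_eq_zero]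
    exact (ePM ▸ hn : u n ∈ PM.restrictScalars A)
  have h5 : n ∈ PN.restrictScalars A :=
    (Submodule.Quotient.mk_eq_zero PN).mp (hinj (h4.trans (map_zero v).symm))
  rwa [ePN] at h5

/-- A map from a finite module to a flat module which is injective on the closed fibre is injective,
with flat cokernel, and universally injective; the source is flat and finitely presented. -/
theorem main (u : N →ₗ[B] M)
    (hu : Injective ((u.restrictScalars A).lTensor (IsLocalRing.ResidueField A))) :
    Injective u ∧ Module.Flat A (M ⧸ LinearMap.range (u.restrictScalars A)) ∧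
      Module.Flat A N ∧ Module.FinitePresentation B N := by
  have h : ∀ n, u n ∈ IsLocalRing.maximalIdeal A • (⊤ : Submodule A M) →
      n ∈ IsLocalRing.maximalIdeal A • (⊤ : Submodule A N) :=
    fun n => mem_of_lTensor_injective (u.restrictScalars A) (IsLocalRing.maximalIdeal A) hu n
  haveI : Module.Flat A N := HP.Sep.flat_of_map (B := B) (u.restrictScalars A) hu
  refine ⟨injective_of_mem u h, ?_, inferInstance, finitePresentation_of_flat (A := A) N⟩
  rw [Module.Flat.iff_lTensor_injective']
  intro J
  exact lTensor_injective_of_exact_of_exact_of_rTensor_injective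
    (u.restrictScalars A).exact_map_mkQ_range (Submodule.mkQ_surjective _)
    (LinearMap.exact_subtype_mkQ J) (Submodule.mkQ_surjective J)
    ((LinearMap.lTensor_inj_iff_rTensor_inj _ _).mp
      (lTensor_injective_of_mem (u.restrictScalars A) J fun n hn => mem_of_mem u h J n hn))
    (Module.Flat.lTensor_preserves_injective_linearMap _ Subtype.val_injective)

end Quot

end Groth.Agent.FlatMor.LocalInj
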