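import Mathlib.AlgebraicGeometry.Pullbacks
import Mathlib.AlgebraicGeometry.AffineScheme
import Mathlib.RingTheory.TensorProduct.Maps

/-!
# The cartesian square of a model of an affine morphism
-/

set_option autoImplicit false
universe u

open CategoryTheory AlgebraicGeometry Limits
open scoped TensorProduct

namespace Groth.Agent.FlatMor.ModelSquare

/-- `B₀ → Γ(X)` from a model. -/
noncomputable def modelMap {A A₀ B B₀ : Type u} [CommRing A] [CommRing A₀] [CommRing B] [CommRing B₀]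
    [Algebra A₀ A] [Algebra A₀ B₀] [Algebra A B] (e : A ⊗[A₀] B₀ ≃ₐ[A] B) : B₀ →+* B :=
  e.toAlgHom.toRingHom.comp (Algebra.TensorProduct.includeRight : B₀ →ₐ[A₀] A ⊗[A₀] B₀).toRingHom

set_option backward.isDefEq.respectTransparency false in
theorem isPullback {X S : Scheme.{u}} (f : X ⟶ S) [IsAffine X] [IsAffine S]
    (A₀ B₀ : Type u) [CommRing A₀] [CommRing B₀] [Algebra A₀ Γ(S, ⊤)] [Algebra A₀ B₀]
    (e : letI := f.appTop.hom.toAlgebra; Γ(S, ⊤) ⊗[A₀] B₀ ≃ₐ[Γ(S, ⊤)] Γ(X, ⊤)) :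
    IsPullback (letI := f.appTop.hom.toAlgebra
      X.isoSpec.hom ≫ Spec.map (CommRingCat.ofHom (modelMap e))) f
      (Spec.map (CommRingCat.ofHom (algebraMap A₀ B₀)))
      (S.isoSpec.hom ≫ Spec.map (CommRingCat.ofHom (algebraMap A₀ Γ(S, ⊤)))) := by
  let _ := f.appTop.hom.toAlgebra
  have hpo := CommRingCat.isPushout_tensorProduct A₀ Γ(S, ⊤) B₀
  have h1 := (isPullback_SpecMap_of_isPushout _ _ _ _ hpo).flip
  let eI : CommRingCat.of (Γ(S, ⊤) ⊗[A₀] B₀) ≅ Γ(X, ⊤) := e.toRingEquiv.toCommRingCatIso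
  refine IsPullback.of_iso h1 (asIso (Spec.map eI.inv) ≪≫ X.isoSpec.symm)
    (Iso.refl _) S.isoSpec.symm (Iso.refl _) ?_ ?_ ?_ ?_
  · simp only [Iso.trans_hom, asIso_hom, Iso.symm_hom, Iso.refl_hom]
    simp only [Category.comp_id, Category.assoc, Iso.inv_hom_id_assoc]
    rw [← Spec.map_comp]
    congr 1
    refine CommRingCat.hom_ext (RingHom.ext fun b ↦ ?_)
    exact (e.symm_apply_apply _).symm
  · simp only [Iso.trans_hom, asIso_hom, Iso.symm_hom]
    rw [Category.assoc, ← Scheme.isoSpec_inv_naturality f, ← Category.assoc, ← Spec.map_comp]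
    congr 2
    ext a
    show _ = e.symm (algebraMap Γ(S, ⊤) Γ(X, ⊤) a)
    rw [e.symm.commutes]
    rfl
  · simp
  · simp

end Groth.Agent.FlatMor.ModelSquare
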