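/-
Base change of presentations along a cocartesian square of rings (helper33).
-/
import Groth.Prelude.Def_SheafNL
import Mathlib.RingTheory.IsTensorProduct

set_option autoImplicit false
universe u
open TensorProduct MvPolynomial

namespace Groth.Agent.NLBC

variable {R S R' S' : Type u} [CommRing R] [CommRing S] [CommRing R']
  [CommRing S'] [Algebra R S] [Algebra R' S'] [Algebra R R'] [Algebra S S'] [Algebra R S']
  [IsScalarTower R R' S'] [IsScalarTower R S S']
  {ι : Type u}

/-- The kernel of a base-changed presentation is generated by the image of the kernel. -/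
theorem ker_le_span_image [Algebra.IsPushout R R' S S'] (G : Algebra.Generators R S ι)
    (G' : Algebra.Generators R' S' ι) (h : ∀ i, G'.val i = algebraMap S S' (G.val i)) :
    G'.ker ≤ Ideal.span ((NLCx.sameVarsHom G G' h).toAlgHom '' (G.ker : Set G.Ring)) := by
  set f := (NLCx.sameVarsHom G G' h).toAlgHom with hf
  set J : Ideal G'.Ring := Ideal.span (f '' (G.ker : Set G.Ring)) with hJ
  -- the map from `S` to the quotient
  let q : G.Ring →ₐ[R] G'.Ring ⧸ J := (Ideal.Quotient.mkₐ R J).comp f
  have hsurj : Function.Surjective (MvPolynomial.aeval (R := R) G.val) := fun s ↦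
    ⟨G.σ s, G.aeval_val_σ s⟩
  have hq : RingHom.ker (MvPolynomial.aeval (R := R) G.val) ≤ RingHom.ker q := by
    intro x hx
    rw [← G.ker_eq_ker_aeval_val] at hx
    simp only [RingHom.mem_ker, q, AlgHom.comp_apply, Ideal.Quotient.mkₐ_eq_mk,
      Ideal.Quotient.eq_zero_iff_mem]
    exact Ideal.subset_span ⟨x, hx, rfl⟩
  let gS : S →ₐ[R] G'.Ring ⧸ J :=
    AlgHom.liftOfSurjective _ hsurj q hq
  let gR : R' →ₐ[R] G'.Ring ⧸ J := IsScalarTower.toAlgHom R R' _
  let Θ : S' →ₐ[R] G'.Ring ⧸ J := Algebra.pushoutDesc S' gR gS (fun x y ↦ mul_comm _ _)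
  have key : ∀ y : G'.Ring, Θ (MvPolynomial.aeval G'.val y) = Ideal.Quotient.mk J y := by
    intro y
    induction y using MvPolynomial.induction_on with
    | C r =>
      rw [aeval_C, Algebra.pushoutDesc_left]
      rfl
    | add x y hx hy => simp only [map_add, hx, hy]
    | mul_X p i hp =>
      rw [map_mul, map_mul, hp, aeval_X, h, Algebra.pushoutDesc_right, map_mul]
      congr 1
      have : gS (MvPolynomial.aeval G.val (MvPolynomial.X i : G.Ring)) = q (MvPolynomial.X i) :=
        AlgHom.liftOfSurjective_apply _ hsurj q hq _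
      rw [aeval_X] at this
      rw [this]
      simp [q, hf, NLCx.sameVarsHom]
  intro y hy
  rw [G'.ker_eq_ker_aeval_val, RingHom.mem_ker] at hy
  rw [← Ideal.Quotient.eq_zero_iff_mem, ← key, hy, map_zero]

/-- Every element of `S'` is a polynomial over `R'` in the images of generators of `S`. -/
theorem aeval_surjective_of_isPushout [Algebra.IsPushout R R' S S'] (G : Algebra.Generators R S ι) :
    Function.Surjective (MvPolynomial.aeval (R := R') (fun i ↦ algebraMap S S' (G.val i))) := by
  intro z
  have hb : IsBaseChange R' (IsScalarTower.toAlgHom R S S').toLinearMap :=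
    ‹Algebra.IsPushout R R' S S'›.out
  induction z using hb.inductionOn with
  | zero => exact ⟨0, map_zero _⟩
  | tmul s =>
    refine ⟨MvPolynomial.map (algebraMap R R') (G.σ s), ?_⟩
    rw [aeval_def, eval₂_map, ← IsScalarTower.algebraMap_eq, AlgHom.toLinearMap_apply,
      IsScalarTower.coe_toAlgHom']
    conv_rhs => rw [← G.aeval_val_σ s]
    rw [aeval_def, hom_eval₂, ← IsScalarTower.algebraMap_eq]
  | smul r x hx =>
    obtain ⟨p, rfl⟩ := hx
    exact ⟨r • p, map_smul _ _ _⟩
  | add x y hx hy =>
    obtain ⟨p, rfl⟩ := hx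
    obtain ⟨q, rfl⟩ := hy
    exact ⟨p + q, map_add _ _ _⟩

/-- On the kernels of the tensored differentials the induced map does not depend on the hom. -/
theorem bcH1Map_eq {P : Algebra.Extension.{u} R S} {P' : Algebra.Extension.{u} R' S'}
    (f g : P.Hom P') : NLCx.bcH1Map f = NLCx.bcH1Map g := by
  have key : LinearMap.liftBaseChange S' (Algebra.Extension.Cotangent.map f) -
      LinearMap.liftBaseChange S' (Algebra.Extension.Cotangent.map g) =
      LinearMap.liftBaseChange S' (f.sub g) ∘ₗ P.cotangentComplex.baseChange S' := by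
    refine TensorProduct.AlgebraTensorModule.ext fun a x ↦ ?_
    simp only [LinearMap.sub_apply, LinearMap.comp_apply, LinearMap.baseChange_tmul,
      LinearMap.liftBaseChange_tmul, ← smul_sub]
    exact congr(a • $(LinearMap.congr_fun (Algebra.Extension.Cotangent.map_sub_map f g) x))
  refine LinearMap.ext fun ⟨x, hx⟩ ↦ ?_
  apply Subtype.ext
  have hx' : P.cotangentComplex.baseChange S' x = 0 := hx
  have := congr($key x)
  simp only [LinearMap.sub_apply, LinearMap.comp_apply, hx', map_zero, sub_eq_zero] at this
  exact this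

/-- The map of cotangent spaces for base-changed presentations is bijective. -/
theorem bijective_cotangentSpace (G : Algebra.Generators R S ι)
    (G' : Algebra.Generators R' S' ι) (h : ∀ i, G'.val i = algebraMap S S' (G.val i)) :
    Function.Bijective (LinearMap.liftBaseChange S'
      (Algebra.Extension.CotangentSpace.map (NLCx.sameVarsHom G G' h).toExtensionHom)) := by
  set Ψ := LinearMap.liftBaseChange S'
      (Algebra.Extension.CotangentSpace.map (NLCx.sameVarsHom G G' h).toExtensionHom)
  have hΨ : Ψ = ((G.cotangentSpaceBasis.baseChange S').equiv G'.cotangentSpaceBasis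
      (Equiv.refl _)).toLinearMap := by
    refine (G.cotangentSpaceBasis.baseChange S').ext fun i ↦ ?_
    rw [LinearEquiv.coe_coe, Module.Basis.equiv_apply, Equiv.refl_apply,
      Module.Basis.baseChange_apply]
    simp only [Ψ, LinearMap.liftBaseChange_tmul, one_smul,
      Algebra.Generators.cotangentSpaceBasis_apply]
    erw [Algebra.Extension.CotangentSpace.map_tmul]
    rw [map_one]
    congr 1
    congr 1
    exact Algebra.Generators.Hom.toAlgHom_X _ _
  rw [hΨ]
  exact (LinearEquiv.bijective _)

/-- The map of conormal modules for base-changed presentations is surjective. -/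
theorem map_mem_ker (G : Algebra.Generators R S ι)
    (G' : Algebra.Generators R' S' ι) (f : G.Hom G') {c : G.Ring} (hc : c ∈ G.ker) :
    f.toAlgHom c ∈ G'.ker := by
  rw [G.ker_eq_ker_aeval_val, RingHom.mem_ker] at hc
  rw [G'.ker_eq_ker_aeval_val, RingHom.mem_ker, Algebra.Generators.Hom.algebraMap_toAlgHom, hc,
    map_zero]

theorem surjective_cotangent [Algebra.IsPushout R R' S S'] (G : Algebra.Generators R S ι)
    (G' : Algebra.Generators R' S' ι) (h : ∀ i, G'.val i = algebraMap S S' (G.val i)) :
    Function.Surjective (LinearMap.liftBaseChange S'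
      (Algebra.Extension.Cotangent.map (NLCx.sameVarsHom G G' h).toExtensionHom)) := by
  set Φ := LinearMap.liftBaseChange S'
      (Algebra.Extension.Cotangent.map (NLCx.sameVarsHom G G' h).toExtensionHom)
  intro z
  obtain ⟨⟨y, hy⟩, rfl⟩ := Algebra.Extension.Cotangent.mk_surjective z
  have hy' := ker_le_span_image G G' h hy
  revert hy
  induction hy' using Submodule.span_induction with
  | mem a ha =>
    obtain ⟨b, hb, rfl⟩ := ha
    intro hy
    refine ⟨1 ⊗ₜ Algebra.Extension.Cotangent.mk ⟨b, hb⟩, ?_⟩
    simp only [Φ, LinearMap.liftBaseChange_tmul, one_smul, Algebra.Extension.Cotangent.map_mk]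
    rfl
  | zero => exact fun _ ↦ ⟨0, by simp; rfl⟩
  | add a b ha hb iha ihb =>
    intro hy
    have ha' : a ∈ G'.ker := by
      have := ha
      refine Ideal.span_le.mpr ?_ this
      rintro _ ⟨c, hc, rfl⟩
      exact map_mem_ker G G' _ hc
    obtain ⟨u, hu⟩ := iha ha'
    obtain ⟨v, hv⟩ := ihb ((Submodule.add_mem_iff_right _ ha').mp hy)
    refine ⟨u + v, ?_⟩
    rw [map_add, hu, hv, ← map_add]
    rfl
  | smul c a ha iha =>
    intro hy
    have ha' : a ∈ G'.ker := by
      refine Ideal.span_le.mpr ?_ ha
      rintro _ ⟨c, hc, rfl⟩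
      exact map_mem_ker G G' _ hc
    obtain ⟨u, hu⟩ := iha ha'
    refine ⟨algebraMap G'.toExtension.Ring S' c • u, ?_⟩
    rw [map_smul, hu, algebraMap_smul, ← map_smul]
    rfl

theorem bcH1Map_sameVars_surjective [Algebra.IsPushout R R' S S'] (G : Algebra.Generators R S ι)
    (G' : Algebra.Generators R' S' ι) (h : ∀ i, G'.val i = algebraMap S S' (G.val i)) :
    Function.Surjective (NLCx.bcH1Map (NLCx.sameVarsHom G G' h).toExtensionHom) := by
  set f := (NLCx.sameVarsHom G G' h).toExtensionHom
  rintro ⟨y, hy⟩
  obtain ⟨x, hx⟩ := surjective_cotangent G G' h y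
  have key : G'.toExtension.cotangentComplex ∘ₗ
      LinearMap.liftBaseChange S' (Algebra.Extension.Cotangent.map f) =
      LinearMap.liftBaseChange S' (Algebra.Extension.CotangentSpace.map f) ∘ₗ
        G.toExtension.cotangentComplex.baseChange S' := by
    ext z
    simpa using (Algebra.Extension.CotangentSpace.map_cotangentComplex f z).symm
  have hx0 : G.toExtension.cotangentComplex.baseChange S' x = 0 := by
    apply (bijective_cotangentSpace G G' h).1
    rw [map_zero]
    have := congr($key x)
    simp only [LinearMap.comp_apply] at this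
    rw [← this]
    exact LinearMap.mem_ker.mp (hx ▸ hy)
  exact ⟨⟨x, hx0⟩, Subtype.ext hx⟩

theorem bcH1Map_self_surjective [Algebra.IsPushout R R' S S'] :
    Function.Surjective (NLCx.bcH1Map
      ((Algebra.Generators.self R S).defaultHom (Algebra.Generators.self R' S')).toExtensionHom) := by
  let G := Algebra.Generators.self R S
  let G' : Algebra.Generators R' S' S :=
    Algebra.Generators.ofSurjective (fun i ↦ algebraMap S S' (G.val i))
      (aeval_surjective_of_isPushout G)
  have h : ∀ i, G'.val i = algebraMap S S' (G.val i) := fun i ↦ rfl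
  let T := Algebra.Generators.self R' S'
  let k := (G'.defaultHom T).toExtensionHom
  let f₁ := (NLCx.sameVarsHom G G' h).toExtensionHom
  rw [bcH1Map_eq _ (k.comp f₁)]
  intro y
  obtain ⟨z, hz⟩ := (Algebra.Generators.H1Cotangent.equiv G' T).surjective y
  obtain ⟨x, hx⟩ := bcH1Map_sameVars_surjective G G' h z
  refine ⟨x, ?_⟩
  have hcomp : LinearMap.liftBaseChange S' (Algebra.Extension.Cotangent.map (k.comp f₁)) =
      Algebra.Extension.Cotangent.map k ∘ₗ
        LinearMap.liftBaseChange S' (Algebra.Extension.Cotangent.map f₁) := by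
    ext w
    simp [Algebra.Extension.Cotangent.map_comp]
  rw [← hz, ← hx]
  apply Subtype.ext
  exact congr($hcomp x.1)

end Groth.Agent.NLBC
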