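/-
Bijectivity of the base change map of conormal modules of presentations (helper33).
-/
import Groth.Agent.FlatMor.NLBaseChange
import Mathlib.RingTheory.TensorProduct.MvPolynomial
import Mathlib.RingTheory.Flat.Equalizer

set_option autoImplicit false
universe u
open TensorProduct MvPolynomial

namespace Groth.Agent.NLBC

variable {R S R' S' : Type u} [CommRing R] [CommRing S] [CommRing R']
  [CommRing S'] [Algebra R S] [Algebra R' S'] [Algebra R R'] [Algebra S S'] [Algebra R S']
  [IsScalarTower R R' S'] [IsScalarTower R S S']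
  {ι : Type u}

omit [Algebra R S'] [IsScalarTower R R' S'] [IsScalarTower R S S'] in
theorem sameVars_toAlgHom_eq (G : Algebra.Generators R S ι) (G' : Algebra.Generators R' S' ι)
    (h : ∀ i, G'.val i = algebraMap S S' (G.val i)) (x : MvPolynomial ι R) :
    (NLCx.sameVarsHom G G' h).toAlgHom x = MvPolynomial.map (algebraMap R R') x := by
  induction x using MvPolynomial.induction_on with
  | C r =>
    rw [MvPolynomial.map_C]
    exact Algebra.Generators.Hom.toAlgHom_C _ r
  | add x y hx hy => simp only [map_add, hx, hy]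
  | mul_X p i hp =>
    rw [map_mul, map_mul, hp, MvPolynomial.map_X, Algebra.Generators.Hom.toAlgHom_X]
    rfl

/-- The injectivity hypothesis holds if `R'` is flat over `R` or if `S` is flat over `R`. -/
theorem lTensor_ker_injective_of_flat_base [Module.Flat R R'] (G : Algebra.Generators R S ι) :
    Function.Injective (((G.ker.restrictScalars R).subtype).lTensor R') :=
  Module.Flat.lTensor_preserves_injective_linearMap _ Subtype.val_injective

theorem lTensor_ker_injective_of_flat_quotient [Module.Flat R S] (G : Algebra.Generators R S ι) :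
    Function.Injective (((G.ker.restrictScalars R).subtype).lTensor R') := by
  refine LinearMap.lTensor_injective_of_exact_of_flat
    (MvPolynomial.aeval (R := R) G.val).toLinearMap (fun s ↦ ⟨G.σ s, G.aeval_val_σ s⟩)
    _ Subtype.val_injective ?_ R'
  intro x
  change MvPolynomial.aeval G.val x = 0 ↔ x ∈ Set.range _
  rw [Submodule.coe_subtype, Subtype.range_coe_subtype]
  simp [G.ker_eq_ker_aeval_val]

theorem injective_cotangent [Algebra.IsPushout R R' S S'] (G : Algebra.Generators R S ι)
    (G' : Algebra.Generators R' S' ι) (h : ∀ i, G'.val i = algebraMap S S' (G.val i))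
    (hinj : Function.Injective (((G.ker.restrictScalars R).subtype).lTensor R')) :
    Function.Injective (LinearMap.liftBaseChange S'
      (Algebra.Extension.Cotangent.map (NLCx.sameVarsHom G G' h).toExtensionHom)) := by
  set f := (NLCx.sameVarsHom G G' h).toAlgHom with hf
  set Φ := LinearMap.liftBaseChange S'
      (Algebra.Extension.Cotangent.map (NLCx.sameVarsHom G G' h).toExtensionHom)
  set I : Submodule R (MvPolynomial ι R) := G.ker.restrictScalars R
  -- embedding of `R' ⊗ I` into the polynomial ring over `R'`
  let e : R' ⊗[R] I →ₗ[R'] MvPolynomial ι R' :=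
    (MvPolynomial.algebraTensorAlgEquiv R R').toLinearMap ∘ₗ I.subtype.baseChange R'
  have he_tmul : ∀ (r : R') (a : I), e (r ⊗ₜ a) = r • f a.1 := by
    intro r a
    simp only [e, LinearMap.comp_apply, LinearMap.baseChange_tmul, AlgEquiv.toLinearMap_apply,
      Submodule.coe_subtype, MvPolynomial.algebraTensorAlgEquiv_tmul]
    rw [sameVars_toAlgHom_eq]
  have he : Function.Injective e :=
    (MvPolynomial.algebraTensorAlgEquiv R R').injective.comp hinj
  have hmemR : ∀ (a : I), f a.1 ∈ G'.ker := fun a ↦ map_mem_ker G G' _ a.2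
  have he_mem : ∀ w, e w ∈ G'.ker := by
    intro w
    induction w using TensorProduct.induction_on with
    | zero => simp
    | tmul r a => rw [he_tmul]; exact Submodule.smul_of_tower_mem _ r (hmemR a)
    | add x y hx hy => rw [map_add]; exact add_mem hx hy
  -- the range of `e` is an ideal
  have hrange_mul : ∀ (p : MvPolynomial ι R') (w : R' ⊗[R] I), ∃ w', e w' = p * e w := by
    intro p
    induction p using MvPolynomial.induction_on with
    | C r => exact fun w ↦ ⟨r • w, by rw [map_smul, MvPolynomial.smul_eq_C_mul]⟩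
    | add p q hp hq =>
      intro w
      obtain ⟨a, ha⟩ := hp w
      obtain ⟨b, hb⟩ := hq w
      exact ⟨a + b, by rw [map_add, ha, hb, add_mul]⟩
    | mul_X p i hp =>
      intro w
      suffices ∃ w', e w' = MvPolynomial.X i * e w by
        obtain ⟨w', hw'⟩ := this
        obtain ⟨w'', hw''⟩ := hp w'
        exact ⟨w'', by rw [hw'', hw', mul_assoc]⟩
      induction w using TensorProduct.induction_on with
      | zero => exact ⟨0, by simp⟩
      | tmul r a =>
        refine ⟨r ⊗ₜ ⟨MvPolynomial.X i * a.1, G.ker.mul_mem_left _ a.2⟩, ?_⟩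
        rw [he_tmul, he_tmul]
        simp only [map_mul, hf, Algebra.Generators.Hom.toAlgHom_X, mul_smul_comm]
        rfl
      | add x y hx hy =>
        obtain ⟨a, ha⟩ := hx
        obtain ⟨b, hb⟩ := hy
        exact ⟨a + b, by rw [map_add, ha, hb, map_add, mul_add]⟩
  have hrange : ∀ y ∈ G'.ker, ∃ w, e w = y := by
    intro y hy
    have hy' := ker_le_span_image G G' h hy
    clear hy
    induction hy' using Submodule.span_induction with
    | mem a ha =>
      obtain ⟨b, hb, rfl⟩ := ha
      exact ⟨1 ⊗ₜ ⟨b, hb⟩, by rw [he_tmul, one_smul]⟩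
    | zero => exact ⟨0, map_zero _⟩
    | add a b _ _ iha ihb =>
      obtain ⟨u, hu⟩ := iha
      obtain ⟨v, hv⟩ := ihb
      exact ⟨u + v, by rw [map_add, hu, hv]⟩
    | smul c a _ iha =>
      obtain ⟨u, hu⟩ := iha
      obtain ⟨v, hv⟩ := hrange_mul c u
      exact ⟨v, by rw [hv, hu]; rfl⟩
  -- lift of the tensored conormal module
  let ψ : R' ⊗[R] I →ₗ[R'] S' ⊗[S] G.toExtension.Cotangent :=
    LinearMap.liftBaseChange R'
      { toFun := fun a ↦ 1 ⊗ₜ Algebra.Extension.Cotangent.mk ⟨a.1, a.2⟩
        map_add' := fun a b ↦ by rw [← TensorProduct.tmul_add, ← map_add]; rfl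
        map_smul' := fun r a ↦ by
          rw [RingHom.id_apply, ← TensorProduct.tmul_smul, ← LinearMap.map_smul_of_tower]
          rfl }
  have hψ_tmul : ∀ (r : R') (a : I),
      ψ (r ⊗ₜ a) = r • ((1 : S') ⊗ₜ[S] Algebra.Extension.Cotangent.mk ⟨a.1, a.2⟩) := fun r a ↦ rfl
  have hψsurj : Function.Surjective ψ := by
    intro z
    induction z using TensorProduct.induction_on with
    | zero => exact ⟨0, map_zero _⟩
    | add x y hx hy =>
      obtain ⟨a, ha⟩ := hx
      obtain ⟨b, hb⟩ := hy
      exact ⟨a + b, by rw [map_add, ha, hb]⟩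
    | tmul s c =>
      have hb : IsBaseChange R' (IsScalarTower.toAlgHom R S S').toLinearMap :=
        ‹Algebra.IsPushout R R' S S'›.out
      induction s using hb.inductionOn generalizing c with
      | zero => exact ⟨0, by simp⟩
      | tmul t =>
        obtain ⟨a, rfl⟩ := Algebra.Extension.Cotangent.mk_surjective c
        let a' : MvPolynomial ι R := a.1
        refine ⟨1 ⊗ₜ ⟨G.σ t * a', G.ker.mul_mem_left _ a.2⟩, ?_⟩
        rw [hψ_tmul, one_smul, AlgHom.toLinearMap_apply, IsScalarTower.coe_toAlgHom',
          Algebra.algebraMap_eq_smul_one, TensorProduct.smul_tmul]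
        congr 1
      | smul r x hx =>
        obtain ⟨a, ha⟩ := hx c
        exact ⟨r • a, by rw [map_smul, ha, TensorProduct.smul_tmul']⟩
      | add x y hx hy =>
        obtain ⟨a, ha⟩ := hx c
        obtain ⟨b, hb⟩ := hy c
        exact ⟨a + b, by rw [map_add, ha, hb, TensorProduct.add_tmul]⟩
  have hcomm : ∀ w, Φ (ψ w) = Algebra.Extension.Cotangent.mk ⟨e w, he_mem w⟩ := by
    intro w
    induction w using TensorProduct.induction_on with
    | zero =>
      rw [map_zero, map_zero]
      simp only [map_zero]
      exact (map_zero Algebra.Extension.Cotangent.mk).symm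
    | tmul r a =>
      rw [hψ_tmul, ← algebraMap_smul S' r, map_smul, algebraMap_smul]
      simp only [Φ, LinearMap.liftBaseChange_tmul, one_smul, Algebra.Extension.Cotangent.map_mk]
      rw [← algebraMap_smul G'.toExtension.Ring r, ← map_smul]
      congr 1
      refine Subtype.ext ?_
      refine Eq.trans ?_ (he_tmul r a).symm
      rw [SetLike.val_smul, algebraMap_smul]
      rfl
    | add x y hx hy =>
      rw [map_add, map_add, hx, hy, ← map_add]
      congr 1
      exact Subtype.ext (map_add e x y).symm
  rw [injective_iff_map_eq_zero]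
  intro z hz
  obtain ⟨w, rfl⟩ := hψsurj z
  rw [hcomm] at hz
  have hw2 : e w ∈ G'.ker ^ 2 := by
    have := congr_arg Algebra.Extension.Cotangent.val hz
    rwa [Algebra.Extension.Cotangent.val_mk, Algebra.Extension.Cotangent.val_zero,
      Ideal.toCotangent_eq_zero] at this
  have main : ∀ y ∈ G'.ker ^ 2, ∃ w', e w' = y ∧ ψ w' = 0 := by
    intro y hy
    rw [pow_two] at hy
    induction hy using Submodule.mul_induction_on' with
    | mem_mul_mem p hp q hq =>
      obtain ⟨w₁, rfl⟩ := hrange p hp
      obtain ⟨w₂, rfl⟩ := hrange q hq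
      induction w₁ using TensorProduct.induction_on with
      | zero => exact ⟨0, by simp, map_zero _⟩
      | add x y hx hy =>
        obtain ⟨a, ha, ha'⟩ := hx (he_mem x)
        obtain ⟨b, hb, hb'⟩ := hy (he_mem y)
        exact ⟨a + b, by rw [map_add, ha, hb, map_add, add_mul], by rw [map_add, ha', hb', add_zero]⟩
      | tmul r a =>
        induction w₂ using TensorProduct.induction_on with
        | zero => exact ⟨0, by simp, map_zero _⟩
        | add x y hx hy =>
          obtain ⟨c, hc, hc'⟩ := hx (he_mem x)
          obtain ⟨d, hd, hd'⟩ := hy (he_mem y)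
          exact ⟨c + d, by rw [map_add, hc, hd, map_add, mul_add],
            by rw [map_add, hc', hd', add_zero]⟩
        | tmul s b =>
          have hab : a.1 * b.1 ∈ G.ker := G.ker.mul_mem_left _ b.2
          refine ⟨(r * s) ⊗ₜ ⟨a.1 * b.1, hab⟩, ?_, ?_⟩
          · rw [he_tmul, he_tmul, he_tmul]
            simp only [map_mul, smul_mul_assoc, mul_smul_comm, smul_smul, mul_comm r s]
          · rw [hψ_tmul]
            have : Algebra.Extension.Cotangent.mk (P := G.toExtension) ⟨a.1 * b.1, hab⟩ = 0 := by
              rw [Algebra.Extension.Cotangent.mk_eq_zero_iff, pow_two]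
              exact Ideal.mul_mem_mul a.2 b.2
            rw [this, TensorProduct.tmul_zero, smul_zero]
    | add p _ q _ hp hq =>
      obtain ⟨a, ha, ha'⟩ := hp
      obtain ⟨b, hb, hb'⟩ := hq
      exact ⟨a + b, by rw [map_add, ha, hb], by rw [map_add, ha', hb', add_zero]⟩
  obtain ⟨w', hw', hw''⟩ := main _ hw2
  rw [← he hw', hw'']

theorem bijective_cotangent [Algebra.IsPushout R R' S S'] (G : Algebra.Generators R S ι)
    (G' : Algebra.Generators R' S' ι) (h : ∀ i, G'.val i = algebraMap S S' (G.val i))
    (hinj : Function.Injective (((G.ker.restrictScalars R).subtype).lTensor R')) :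
    Function.Bijective (LinearMap.liftBaseChange S'
      (Algebra.Extension.Cotangent.map (NLCx.sameVarsHom G G' h).toExtensionHom)) :=
  ⟨injective_cotangent G G' h hinj, surjective_cotangent G G' h⟩

end Groth.Agent.NLBC
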