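/-
Chain-level lemmas for the naive cotangent complexes of presentations (helper33).
-/
import Groth.Agent.FlatMor.NLFlatBC
import Mathlib.Algebra.Homology.Homotopy

set_option autoImplicit false
universe u
open TensorProduct CategoryTheory CategoryTheory.Limits

attribute [local instance] HasDerivedCategory.standard

namespace Groth.Agent.NLBC

section Double

variable {C : Type*} [Category* C] [Preadditive C] [HasZeroObject C]

/-- A map between two-term complexes is an isomorphism if it is one in both degrees. -/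
theorem isIso_double {X₀ X₁ Y₀ Y₁ : C} {φ : X₀ ⟶ X₁} {ψ : Y₀ ⟶ Y₁}
    {h h' : (ComplexShape.up ℤ).Rel (-1) 0}
    (F : HomologicalComplex.double φ h ⟶ HomologicalComplex.double ψ h')
    (h₀ : IsIso (F.f (-1))) (h₁ : IsIso (F.f 0)) : IsIso F := by
  have : ∀ i, IsIso (F.f i) := by
    intro i
    by_cases hi : i = -1
    · subst hi; exact h₀
    by_cases hi' : i = 0
    · subst hi'; exact h₁
    exact (HomologicalComplex.isZero_double_X _ _ i hi hi').isIso
      (HomologicalComplex.isZero_double_X _ _ i hi hi') _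
  exact HomologicalComplex.Hom.isIso_of_components F

/-- A homotopy between two maps of two-term complexes. -/
noncomputable def homotopyDouble {X₀ X₁ Y₀ Y₁ : C} {φ : X₀ ⟶ X₁} {ψ : Y₀ ⟶ Y₁}
    {h h' : (ComplexShape.up ℤ).Rel (-1) 0}
    (F G : HomologicalComplex.double φ h ⟶ HomologicalComplex.double ψ h')
    (s : X₁ ⟶ Y₀)
    (e₀ : F.f (-1) = (HomologicalComplex.doubleXIso₀ φ h).hom ≫ φ ≫ s ≫
      (HomologicalComplex.doubleXIso₀ ψ h').inv + G.f (-1))
    (e₁ : F.f 0 = (HomologicalComplex.doubleXIso₁ φ h (by decide)).hom ≫ s ≫ ψ ≫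
      (HomologicalComplex.doubleXIso₁ ψ h' (by decide)).inv + G.f 0) :
    Homotopy F G where
  hom i j :=
    if hij : i = 0 ∧ j = -1 then
      eqToHom (by rw [hij.1]) ≫ (HomologicalComplex.doubleXIso₁ φ h (by decide)).hom ≫ s ≫
        (HomologicalComplex.doubleXIso₀ ψ h').inv ≫ eqToHom (by rw [hij.2])
    else 0
  zero i j hij := by
    rw [dif_neg]
    rintro ⟨rfl, rfl⟩
    exact hij h
  comm i := by
    rw [dNext_eq _ (show (ComplexShape.up ℤ).Rel i (i + 1) from rfl),
      prevD_eq _ (show (ComplexShape.up ℤ).Rel (i - 1) i from sub_add_cancel i 1)]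
    by_cases hi : i = -1
    · subst hi
      rw [dif_pos ⟨by norm_num, rfl⟩, dif_neg (by omega), zero_comp, add_zero, e₀]
      congr 1
      simp [HomologicalComplex.double_d φ h (by decide)]
    by_cases hi' : i = 0
    · subst hi'
      rw [dif_neg (by omega), dif_pos ⟨rfl, by norm_num⟩, comp_zero, zero_add, e₁]
      congr 1
      simp [HomologicalComplex.double_d ψ h' (by decide)]
    exact (HomologicalComplex.isZero_double_X _ _ i hi hi').eq_of_tgt _ _

end Double

theorem ofHom_comp_assoc' {A M N P : Type u} [CommRing A] [AddCommGroup M] [AddCommGroup N]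
    [AddCommGroup P] [Module A M] [Module A N] [Module A P] {Z : ModuleCat.{u} A}
    (f : M →ₗ[A] N) (g : N →ₗ[A] P) (h : ModuleCat.of A P ⟶ Z) :
    ModuleCat.ofHom (g ∘ₗ f) ≫ h = ModuleCat.ofHom f ≫ ModuleCat.ofHom g ≫ h := by
  rw [ModuleCat.ofHom_comp, Category.assoc]

variable {R S R' S' : Type u} [CommRing R] [CommRing S] [CommRing R']
  [CommRing S'] [Algebra R S] [Algebra R' S'] [Algebra R R'] [Algebra S S'] [Algebra R S']
  [IsScalarTower R R' S'] [IsScalarTower R S S']

omit [IsScalarTower R S S'] in
theorem bcMap_f₀ {P : Algebra.Extension.{u} R S} {P' : Algebra.Extension.{u} R' S'}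
    (f : P.Hom P') : (NLCx.bcMap f).f (-1) =
      (HomologicalComplex.doubleXIso₀ _ _).hom ≫
        ModuleCat.ofHom (LinearMap.liftBaseChange S' (Algebra.Extension.Cotangent.map f)) ≫
          (HomologicalComplex.doubleXIso₀ (ModuleCat.ofHom P'.cotangentComplex) _).inv :=
  HomologicalComplex.mkHomFromDouble_f₀ ..

omit [IsScalarTower R S S'] in
theorem bcMap_f₁ {P : Algebra.Extension.{u} R S} {P' : Algebra.Extension.{u} R' S'}
    (f : P.Hom P') : (NLCx.bcMap f).f 0 =
      (HomologicalComplex.doubleXIso₁ _ _ (by decide)).hom ≫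
        ModuleCat.ofHom (LinearMap.liftBaseChange S' (Algebra.Extension.CotangentSpace.map f)) ≫
          (HomologicalComplex.doubleXIso₁ (ModuleCat.ofHom P'.cotangentComplex) _ (by decide)).inv :=
  HomologicalComplex.mkHomFromDouble_f₁ ..

section SameTop

variable [Algebra R' S] [IsScalarTower R R' S]

theorem map_f₀ {P : Algebra.Extension.{u} R S} {P' : Algebra.Extension.{u} R' S}
    (f : P.Hom P') : (NLCx.map f).f (-1) =
      (HomologicalComplex.doubleXIso₀ _ _).hom ≫
        ModuleCat.ofHom (Algebra.Extension.Cotangent.map f) ≫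
          (HomologicalComplex.doubleXIso₀ (ModuleCat.ofHom P'.cotangentComplex) _).inv :=
  HomologicalComplex.mkHomFromDouble_f₀ ..

theorem map_f₁ {P : Algebra.Extension.{u} R S} {P' : Algebra.Extension.{u} R' S}
    (f : P.Hom P') : (NLCx.map f).f 0 =
      (HomologicalComplex.doubleXIso₁ _ _ (by decide)).hom ≫
        ModuleCat.ofHom (Algebra.Extension.CotangentSpace.map f) ≫
          (HomologicalComplex.doubleXIso₁ (ModuleCat.ofHom P'.cotangentComplex) _ (by decide)).inv :=
  HomologicalComplex.mkHomFromDouble_f₁ ..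

end SameTop

theorem isIso_bcMap {P : Algebra.Extension.{u} R S} {P' : Algebra.Extension.{u} R' S'}
    (f : P.Hom P')
    (h₀ : Function.Bijective (LinearMap.liftBaseChange S' (Algebra.Extension.Cotangent.map f)))
    (h₁ : Function.Bijective
      (LinearMap.liftBaseChange S' (Algebra.Extension.CotangentSpace.map f))) :
    IsIso (NLCx.bcMap f) := by
  have := (ConcreteCategory.isIso_iff_bijective
    (ModuleCat.ofHom (LinearMap.liftBaseChange S' (Algebra.Extension.Cotangent.map f)))).mpr h₀
  have := (ConcreteCategory.isIso_iff_bijective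
    (ModuleCat.ofHom (LinearMap.liftBaseChange S' (Algebra.Extension.CotangentSpace.map f)))).mpr h₁
  refine isIso_double _ ?_ ?_
  · rw [bcMap_f₀]; infer_instance
  · rw [bcMap_f₁]; infer_instance

/-- Two homs of extensions over a square give homotopic tensored chain maps. -/
noncomputable def bcMapHomotopy {P : Algebra.Extension.{u} R S} {P' : Algebra.Extension.{u} R' S'}
    (f g : P.Hom P') : Homotopy (NLCx.bcMap f) (NLCx.bcMap g) :=
  homotopyDouble _ _ (ModuleCat.ofHom (LinearMap.liftBaseChange S' (f.sub g)))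
    (by
      rw [bcMap_f₀, bcMap_f₀, ← sub_eq_iff_eq_add, ← Preadditive.comp_sub, ← Preadditive.sub_comp,
        ← ofHom_comp_assoc']
      congr 2
      refine ModuleCat.hom_ext (TensorProduct.AlgebraTensorModule.ext fun a x ↦ ?_)
      simp only [ModuleCat.hom_sub, ModuleCat.hom_ofHom, LinearMap.sub_apply, LinearMap.comp_apply,
        LinearMap.baseChange_tmul, LinearMap.liftBaseChange_tmul, ← smul_sub]
      exact congr(a • $(LinearMap.congr_fun (Algebra.Extension.Cotangent.map_sub_map f g) x)))
    (by
      rw [bcMap_f₁, bcMap_f₁, ← sub_eq_iff_eq_add, ← Preadditive.comp_sub, ← Preadditive.sub_comp,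
        ← ofHom_comp_assoc']
      congr 2
      refine ModuleCat.hom_ext (TensorProduct.AlgebraTensorModule.ext fun a x ↦ ?_)
      simp only [ModuleCat.hom_sub, ModuleCat.hom_ofHom, LinearMap.sub_apply, LinearMap.comp_apply,
        LinearMap.liftBaseChange_tmul, ← smul_sub, map_smul]
      exact congr(a • $(LinearMap.congr_fun (Algebra.Extension.CotangentSpace.map_sub_map f g) x)))

theorem map_id (P : Algebra.Extension.{u} R S) :
    NLCx.map (Algebra.Extension.Hom.id P) = 𝟙 (NLCx.cx P) := by
  refine HomologicalComplex.from_double_hom_ext ?_ ?_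
  · rw [map_f₀, Algebra.Extension.Cotangent.map_id]
    simp only [NLCx.cx, ModuleCat.ofHom_id, Category.id_comp, Iso.hom_inv_id,
      HomologicalComplex.id_f]
  · rw [map_f₁, Algebra.Extension.CotangentSpace.map_id]
    simp only [NLCx.cx, ModuleCat.ofHom_id, Category.id_comp, Iso.hom_inv_id,
      HomologicalComplex.id_f]

theorem map_comp {P₁ P₂ P₃ : Algebra.Extension.{u} R S} (f : P₁.Hom P₂) (g : P₂.Hom P₃) :
    NLCx.map (g.comp f) = NLCx.map f ≫ NLCx.map g := by
  refine HomologicalComplex.from_double_hom_ext ?_ ?_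
  · rw [HomologicalComplex.comp_f, map_f₀, map_f₀, map_f₀, Algebra.Extension.Cotangent.map_comp]
    simp only [NLCx.cx, Category.assoc, Iso.inv_hom_id_assoc]
    rw [← ofHom_comp_assoc']
    rfl
  · rw [HomologicalComplex.comp_f, map_f₁, map_f₁, map_f₁,
      Algebra.Extension.CotangentSpace.map_comp]
    simp only [NLCx.cx, Category.assoc, Iso.inv_hom_id_assoc]
    rw [← ofHom_comp_assoc']
    rfl

theorem bcMap_comp {P : Algebra.Extension.{u} R S} {P' P'' : Algebra.Extension.{u} R' S'}
    (f : P.Hom P') (g : P'.Hom P'') :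
    NLCx.bcMap (g.comp f) = NLCx.bcMap f ≫ NLCx.map g := by
  refine HomologicalComplex.from_double_hom_ext ?_ ?_
  · rw [HomologicalComplex.comp_f, bcMap_f₀, bcMap_f₀, map_f₀]
    simp only [NLCx.cx, NLCx.bcCx, Category.assoc, Iso.inv_hom_id_assoc]
    rw [← ofHom_comp_assoc']
    congr 3
    refine TensorProduct.AlgebraTensorModule.ext fun a x ↦ ?_
    simp [Algebra.Extension.Cotangent.map_comp]
  · rw [HomologicalComplex.comp_f, bcMap_f₁, bcMap_f₁, map_f₁]
    simp only [NLCx.cx, NLCx.bcCx, Category.assoc, Iso.inv_hom_id_assoc]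
    rw [← ofHom_comp_assoc']
    congr 3
    refine TensorProduct.AlgebraTensorModule.ext fun a x ↦ ?_
    simp [Algebra.Extension.CotangentSpace.map_comp]

/-- Two homs of extensions of the same algebra give homotopic chain maps. -/
noncomputable def mapHomotopy {P P' : Algebra.Extension.{u} R S}
    (f g : P.Hom P') : Homotopy (NLCx.map f) (NLCx.map g) :=
  homotopyDouble _ _ (ModuleCat.ofHom (f.sub g))
    (by
      rw [map_f₀, map_f₀, ← sub_eq_iff_eq_add, ← Preadditive.comp_sub, ← Preadditive.sub_comp,
        ← ofHom_comp_assoc']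
      congr 2
      exact ModuleCat.hom_ext (Algebra.Extension.Cotangent.map_sub_map f g))
    (by
      rw [map_f₁, map_f₁, ← sub_eq_iff_eq_add, ← Preadditive.comp_sub, ← Preadditive.sub_comp,
        ← ofHom_comp_assoc']
      congr 2
      exact ModuleCat.hom_ext (Algebra.Extension.CotangentSpace.map_sub_map f g))

/-- Two presentations of an algebra have homotopy equivalent complexes. -/
noncomputable def mapHomotopyEquiv {P P' : Algebra.Extension.{u} R S}
    (f : P.Hom P') (g : P'.Hom P) : HomotopyEquiv (NLCx.cx P) (NLCx.cx P') where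
  hom := NLCx.map f
  inv := NLCx.map g
  homotopyHomInvId := (Homotopy.ofEq (map_comp f g).symm).trans
    ((mapHomotopy (g.comp f) (Algebra.Extension.Hom.id P)).trans (Homotopy.ofEq (map_id P)))
  homotopyInvHomId := (Homotopy.ofEq (map_comp g f).symm).trans
    ((mapHomotopy (f.comp g) (Algebra.Extension.Hom.id P')).trans (Homotopy.ofEq (map_id P')))

theorem exists_homotopyEquiv_self [Algebra.IsPushout R R' S S']
    (hinj : Function.Injective ((((Algebra.Generators.self R S).ker.restrictScalars R).subtype).lTensor R')) :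
    ∃ e : HomotopyEquiv (NLCx.bcCx (Algebra.Generators.self R S).toExtension S')
        (NLCx.cx (Algebra.Generators.self R' S').toExtension),
      e.hom = NLCx.bcMapSelf R S R' S' := by
  let G := Algebra.Generators.self R S
  let G' : Algebra.Generators R' S' S :=
    Algebra.Generators.ofSurjective (fun i ↦ algebraMap S S' (G.val i))
      (aeval_surjective_of_isPushout G)
  have h : ∀ i, G'.val i = algebraMap S S' (G.val i) := fun i ↦ rfl
  let T := Algebra.Generators.self R' S'
  let k := (G'.defaultHom T).toExtensionHom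
  let k' := (T.defaultHom G').toExtensionHom
  let f₁ := (NLCx.sameVarsHom G G' h).toExtensionHom
  have : IsIso (NLCx.bcMap (S' := S') f₁) :=
    isIso_bcMap f₁ (bijective_cotangent G G' h hinj) (bijective_cotangentSpace G G' h)
  let E : HomotopyEquiv (NLCx.bcCx G.toExtension S') (NLCx.cx T.toExtension) :=
    (HomotopyEquiv.ofIso (asIso (NLCx.bcMap (S' := S') f₁))).trans (mapHomotopyEquiv k k')
  let H : Homotopy (NLCx.bcMapSelf R S R' S') E.hom :=
    (bcMapHomotopy _ (k.comp f₁)).trans (Homotopy.ofEq (bcMap_comp f₁ k))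
  exact ⟨{ hom := NLCx.bcMapSelf R S R' S'
           inv := E.inv
           homotopyHomInvId := (H.compRight E.inv).trans E.homotopyHomInvId
           homotopyInvHomId := (H.compLeft E.inv).trans E.homotopyInvHomId }, rfl⟩

end Groth.Agent.NLBC
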