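import Mathlib.RingTheory.RingHom.Smooth
import Mathlib.RingTheory.Kaehler.Basic
import Mathlib.RingTheory.TensorProduct.Quotient
import Mathlib.RingTheory.Nakayama
import Mathlib.RingTheory.LocalRing.ResidueField.Basic
import Mathlib.AlgebraicGeometry.Fiber
import Mathlib.AlgebraicGeometry.Noetherian
import Mathlib.AlgebraicGeometry.Morphisms.FiniteType

/-!
At a point with separable residue extension which is not generic in its fibre some function in the
maximal ideal has nonzero differential at the point.
-/

universe u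

open TensorProduct IsLocalRing AlgebraicGeometry CategoryTheory Limits

namespace Groth.Agent.FlatMor.SepDiff

theorem exists_D_ne_zero {R L : Type u} [CommRing R] [CommRing L] [Algebra R L]
    [IsLocalRing R] [IsLocalRing L] [IsLocalHom (algebraMap R L)]
    (hsep : (ResidueField.map (algebraMap R L)).FormallySmooth)
    {F : Type u} [CommRing F] [IsLocalRing F] [IsNoetherianRing F] (φ : L →+* F)
    (hφ : Function.Surjective φ) (hker : ∀ a ∈ maximalIdeal R, φ (algebraMap R L a) = 0)
    (hF : maximalIdeal F ≠ ⊥) :
    ∃ h ∈ maximalIdeal L, (1 : ResidueField L) ⊗ₜ[L] KaehlerDifferential.D R L h ≠ 0 := by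
  by_contra hcon
  push_neg at hcon
  let J : Ideal L := (maximalIdeal R).map (algebraMap R L) ⊔ maximalIdeal L ^ 2
  have hRL : (maximalIdeal R).map (algebraMap R L) ≤ maximalIdeal L :=
    ((local_hom_TFAE (algebraMap R L)).out 0 2).mp ‹_›
  have hJ : J ≤ maximalIdeal L := sup_le hRL (Ideal.pow_le_self two_ne_zero)
  let ρ : (L ⧸ J) →+* ResidueField L := Ideal.Quotient.factor hJ
  have hρ : Function.Surjective ρ := Ideal.Quotient.factor_surjective hJ
  let _ : Algebra (ResidueField R) (L ⧸ J) :=
    (Ideal.Quotient.lift (maximalIdeal R) ((Ideal.Quotient.mk J).comp (algebraMap R L)) fun a ha => by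
      exact Ideal.Quotient.eq_zero_iff_mem.mpr (Ideal.mem_sup_left (Ideal.mem_map_of_mem _ ha))).toAlgebra
  let _ : Algebra (ResidueField R) (ResidueField L) := (ResidueField.map (algebraMap R L)).toAlgebra
  have : Algebra.FormallySmooth (ResidueField R) (ResidueField L) := hsep
  let ρₐ : (L ⧸ J) →ₐ[ResidueField R] ResidueField L := { ρ with
    commutes' := fun a => by
      obtain ⟨a, rfl⟩ := residue_surjective a
      rfl }
  have hnil : IsNilpotent (RingHom.ker ρₐ.toRingHom) := by
    refine ⟨2, eq_bot_iff.mpr ?_⟩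
    rw [pow_two, Ideal.mul_le]
    intro a ha b hb
    obtain ⟨a, rfl⟩ := Ideal.Quotient.mk_surjective a
    obtain ⟨b, rfl⟩ := Ideal.Quotient.mk_surjective b
    rw [Ideal.mem_bot, ← map_mul, Ideal.Quotient.eq_zero_iff_mem]
    refine Ideal.mem_sup_right ?_
    rw [pow_two]
    exact Ideal.mul_mem_mul (Ideal.Quotient.eq_zero_iff_mem.mp ha) (Ideal.Quotient.eq_zero_iff_mem.mp hb)
  let σ := Algebra.FormallySmooth.liftOfSurjective (AlgHom.id (ResidueField R) (ResidueField L)) ρₐ hρ hnil
  have hσ : ∀ x, ρ (σ x) = x := fun x =>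
    Algebra.FormallySmooth.liftOfSurjective_apply _ ρₐ hρ hnil x
  -- the derivation measuring the failure of `σ`
  let δ : L → L ⧸ J := fun a => Ideal.Quotient.mk J a - σ (residue L a)
  have hδ : ∀ a, ρ (δ a) = 0 := fun a => by
    rw [map_sub, hσ]; exact sub_self _
  have hk : ∀ a, a ∈ maximalIdeal L → ∀ t, ρ t = 0 → Ideal.Quotient.mk J a * t = 0 := by
    intro a ha t ht
    obtain ⟨t, rfl⟩ := Ideal.Quotient.mk_surjective t
    rw [← map_mul, Ideal.Quotient.eq_zero_iff_mem]
    refine Ideal.mem_sup_right ?_
    rw [pow_two]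
    exact Ideal.mul_mem_mul ha (Ideal.Quotient.eq_zero_iff_mem.mp ht)
  let D' : Derivation R L (L ⧸ J) :=
    Derivation.mk'
      { toFun := δ
        map_add' := fun a b => by simp only [δ, map_add]; ring
        map_smul' := fun r a => by
          have hr : σ (residue L (algebraMap R L r)) = Ideal.Quotient.mk J (algebraMap R L r) :=
            σ.commutes (residue R r)
          rw [RingHom.id_apply, Algebra.smul_def, Algebra.smul_def,
            IsScalarTower.algebraMap_apply R L (L ⧸ J), Ideal.Quotient.algebraMap_eq]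
          show Ideal.Quotient.mk J (algebraMap R L r * a) - σ (residue L (algebraMap R L r * a)) =
            Ideal.Quotient.mk J (algebraMap R L r) * δ a
          simp only [δ, map_mul, hr]
          ring }
      fun a b => by
        show δ (a * b) = Ideal.Quotient.mk J a * δ b + Ideal.Quotient.mk J b * δ a
        have h1 : (σ (residue L b) - Ideal.Quotient.mk J b) * δ a = 0 := by
          obtain ⟨c, hc⟩ := Ideal.Quotient.mk_surjective (σ (residue L b) - Ideal.Quotient.mk J b)
          rw [← hc]
          refine hk c ?_ _ (hδ a)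
          rw [← residue_eq_zero_iff]
          show ρ (Ideal.Quotient.mk J c) = 0
          rw [hc, map_sub, hσ]
          exact sub_self _
        simp only [δ, map_mul] at h1 ⊢
        linear_combination h1
  have hm : ∀ h ∈ maximalIdeal L, h ∈ J := by
    intro h hh
    rw [← Ideal.Quotient.eq_zero_iff_mem]
    have h0 : δ h = 0 := by
      let ℓ := D'.liftKaehlerDifferential
      have hker0 : ∀ w : Ω[L⁄R], ρ (ℓ w) = 0 := by
        intro w
        have hw : w ∈ Submodule.span L (Set.range (KaehlerDifferential.D R L)) := by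
          rw [KaehlerDifferential.span_range_derivation]; trivial
        induction hw using Submodule.span_induction with
        | mem y hy =>
          obtain ⟨a, rfl⟩ := hy
          rw [Derivation.liftKaehlerDifferential_comp_D]
          exact hδ a
        | zero => simp
        | add y z _ _ hy hz => rw [map_add, map_add, hy, hz, add_zero]
        | smul c y _ hy =>
          rw [map_smul]
          show ρ (Ideal.Quotient.mk J c * ℓ y) = 0
          rw [map_mul, hy, mul_zero]
      have h1 : maximalIdeal L • (⊤ : Submodule L Ω[L⁄R]) ≤ LinearMap.ker ℓ := by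
        rw [Submodule.smul_le]
        intro a ha w _
        rw [LinearMap.mem_ker, map_smul]
        exact hk a ha _ (hker0 w)
      have h2 : KaehlerDifferential.D R L h ∈ maximalIdeal L • (⊤ : Submodule L Ω[L⁄R]) := by
        have h3 : TensorProduct.quotTensorEquivQuotSMul (Ω[L⁄R]) (maximalIdeal L)
            ((Ideal.Quotient.mk (maximalIdeal L) 1) ⊗ₜ[L] KaehlerDifferential.D R L h) = 0 :=
          (congrArg (TensorProduct.quotTensorEquivQuotSMul (Ω[L⁄R]) (maximalIdeal L)) (hcon h hh)).trans
            (LinearEquiv.map_zero _)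
        rw [← Submodule.Quotient.mk_eq_zero, ← h3]
        exact (TensorProduct.quotTensorEquivQuotSMul_mk_tmul _ 1 _).trans (by rw [one_smul]) |>.symm
      have h4 := h1 h2
      rw [LinearMap.mem_ker, Derivation.liftKaehlerDifferential_comp_D] at h4
      exact h4
    have : residue L h = 0 := (residue_eq_zero_iff h).mpr hh
    simpa [δ, this] using h0
  apply hF
  have hφm : ∀ a ∈ maximalIdeal L, φ a ∈ maximalIdeal F := fun a ha => by
    have := Function.Surjective.isLocalHom φ hφ
    exact map_nonunit φ a ha
  have hle : maximalIdeal F ≤ maximalIdeal F • maximalIdeal F := by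
    intro y hy
    obtain ⟨a, rfl⟩ := hφ y
    have ha : a ∈ maximalIdeal L := by
      by_contra hc
      exact hy ((notMem_maximalIdeal.mp hc).map φ)
    have h5 : φ a ∈ J.map φ := Ideal.mem_map_of_mem _ (hm a ha)
    refine SetLike.le_def.mp ?_ h5
    rw [Ideal.map_sup, sup_le_iff, Ideal.map_map, Ideal.map_pow, smul_eq_mul, ← pow_two]
    constructor
    · rw [Ideal.map_le_iff_le_comap]
      intro r hr
      rw [Ideal.mem_comap, RingHom.comp_apply, hker r hr]
      exact zero_mem _
    · exact Ideal.pow_right_mono (Ideal.map_le_iff_le_comap.mpr hφm) 2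
  exact Submodule.eq_bot_of_le_smul_of_le_jacobson_bot _ _ (IsNoetherian.noetherian _) hle
    (maximalIdeal_le_jacobson _)

theorem isNoetherianRing_fibre_stalk {X S : Scheme.{u}} (f : X ⟶ S) (x : X) {W : X.Opens}
    (hxW : x ∈ W) [LocallyOfFiniteType (W.ι ≫ f)] :
    IsNoetherianRing ((f.fiber (f x)).presheaf.stalk (f.asFiber x)) := by
  let k := S.fromSpecResidueField (f x)
  let j := pullback.snd W.ι (pullback.fst f k)
  let e := pullbackRightPullbackFstIso f k W.ι
  have h1 : LocallyOfFiniteType (pullback.snd (W.ι ≫ f) k) := MorphismProperty.pullback_snd _ _ ‹_›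
  have h2 : IsLocallyNoetherian (pullback (W.ι ≫ f) k) :=
    LocallyOfFiniteType.isLocallyNoetherian (pullback.snd (W.ι ≫ f) k)
  have h3 : IsLocallyNoetherian (pullback W.ι (pullback.fst f k)) :=
    isLocallyNoetherian_of_isOpenImmersion e.hom
  obtain ⟨z, -, hz⟩ := Scheme.Pullback.exists_preimage_pullback (f := W.ι) (g := pullback.fst f k)
    ⟨x, hxW⟩ (f.asFiber x) (f.fiberι_asFiber x).symm
  have : IsIso (j.stalkMap z) := inferInstance
  have h4 := isNoetherianRing_of_ringEquiv _ (asIso (j.stalkMap z)).commRingCatIsoToRingEquiv.symm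
  exact @isNoetherianRing_of_ringEquiv _ _ _ _
    ((f.fiber (f x)).presheaf.stalkCongr (.of_eq hz)).commRingCatIsoToRingEquiv h4

theorem maximalIdeal_stalk_spec_field {K : CommRingCat.{u}} (hK : IsField K) (p : Spec K) :
    maximalIdeal ((Spec K).presheaf.stalk p) = ⊥ := by
  let := hK.toField
  rw [← isField_iff_maximalIdeal_eq]
  refine MulEquiv.isField ?_ (Spec.stalkIso K p).commRingCatIsoToRingEquiv.toMulEquiv
  exact MulEquiv.isField hK (RingEquiv.ofBijective (algebraMap K (Localization.AtPrime p.asIdeal))
    (IsField.localization_map_bijective (M := p.asIdeal.primeCompl)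
      (fun h => h (Submodule.zero_mem _)) hK)).symm.toMulEquiv

theorem stalkMap_fiberι_kills {X S : Scheme.{u}} (f : X ⟶ S) (s : S) (y : f.fiber s)
    (a : S.presheaf.stalk (f (f.fiberι s y))) (ha : a ∈ maximalIdeal _) :
    (f.fiberι s).stalkMap y (f.stalkMap (f.fiberι s y) a) = 0 := by
  rw [← CommRingCat.comp_apply, ← Scheme.Hom.stalkMap_comp,
    Scheme.Hom.stalkMap_congr_hom _ _ (f.fiber_fac s), Scheme.Hom.stalkMap_comp]
  have h0 : ∀ b ∈ maximalIdeal (S.presheaf.stalk (S.fromSpecResidueField s (f.fiberToSpecResidueField s y))),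
      (S.fromSpecResidueField s).stalkMap (f.fiberToSpecResidueField s y) b = 0 := by
    intro b hb
    have := map_nonunit ((S.fromSpecResidueField s).stalkMap (f.fiberToSpecResidueField s y)).hom b hb
    rw [maximalIdeal_stalk_spec_field (Field.toIsField _)] at this
    exact (Submodule.mem_bot _).mp this
  refine (congrArg ((f.fiberToSpecResidueField s).stalkMap y) (h0 _ ?_)).trans (map_zero _)
  exact map_nonunit (S.presheaf.stalkCongr _).hom.hom a ha

end Groth.Agent.FlatMor.SepDiff
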