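import Groth.Agent.FlatMor.PureSplit
import Mathlib.RingTheory.Spectrum.Prime.Topology
import Mathlib.RingTheory.Idempotents

/-!
# Étale splitting of a finite algebra into geometrically single pieces
-/

set_option autoImplicit false
set_option linter.style.haveILetI false
universe u

open CategoryTheory AlgebraicGeometry Limits
open scoped TensorProduct

namespace Groth.Agent.FlatMor.SplitFinite

open Groth.Agent.Wt Groth.Agent.Wt.EtNbhd Groth.Agent.Wt.Parts Groth.Agent.Wt.Split

set_option backward.isDefEq.respectTransparency false in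
/-- After an étale extension of the base a finite algebra splits by idempotents into pieces having one
geometric point over the chosen prime each. -/
theorem exists_split_finite (R S : Type u) [CommRing R] [CommRing S] [Algebra R S] [Module.Finite R S]
    (p : PrimeSpectrum R) :
    ∃ (R' : Type u) (_ : CommRing R') (_ : Algebra R R') (_ : Algebra.Etale R R') (p' : PrimeSpectrum R'),
      p'.asIdeal.comap (algebraMap R R') = p.asIdeal ∧
      ∃ (m : ℕ) (e : Fin m → R' ⊗[R] S), CompleteOrthogonalIdempotents e ∧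
        (∀ j, ∃ r : PrimeSpectrum (R' ⊗[R] S), e j ∉ r.asIdeal ∧
          r.asIdeal.comap (algebraMap R' (R' ⊗[R] S)) = p'.asIdeal) ∧
        ∀ (j : Fin m) (K : Type u) [Field K] (a b : R' ⊗[R] S →+* K),
          a.comp (algebraMap R' _) = b.comp (algebraMap R' _) →
          (RingHom.ker a).comap (algebraMap R' _) = p'.asIdeal → a (e j) = 1 → b (e j) = 1 → a = b := by
  classical
  let f := Spec.map (CommRingCat.ofHom (algebraMap R S))
  haveI : IsFinite f := (IsFinite.SpecMap_iff _).mpr (RingHom.finite_algebraMap.mpr ‹_›)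
  let A : Set ↥(Spec (CommRingCat.of S)) := f ⁻¹' {p}
  obtain ⟨U, g, u, _, hgu, J, W, hJ, hJW, hdis, hcov⟩ := PureSplit.exists_pureParts_sep f p A
    (f.finite_preimage_singleton p) (fun _ h => h) (fun x _ => f.quasiFiniteAt x)
  let q := pullback.snd f g
  haveI : IsFinite q := inferInstance
  -- the closed image of the leftover
  let Junk : Set ↥(pullback f g) := (⋃ z ∈ J, (W z : Set ↥(pullback f g)))ᶜ
  have hJunk : IsClosed Junk := (isOpen_biUnion fun z _ => (W z).2).isClosed_compl
  have hu : u ∉ q '' Junk := by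
    rintro ⟨w, hw, hwu⟩
    refine hw (Set.mem_biUnion (hcov w hwu ?_) ?_)
    · show f (pullback.fst f g w) = p
      rw [← Scheme.Hom.comp_apply, pullback.condition, Scheme.Hom.comp_apply]
      exact (congrArg g hwu).trans hgu
    · exact (hJW w (hcov w hwu (by
        show f (pullback.fst f g w) = p
        rw [← Scheme.Hom.comp_apply, pullback.condition, Scheme.Hom.comp_apply]
        exact (congrArg g hwu).trans hgu))).1.mem
  obtain ⟨R'c, j, hj, ⟨p', hp'⟩, hjsub⟩ := Scheme.exists_affine_mem_range_and_range_subset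
    (show u ∈ (⟨_, (q.isClosedMap _ hJunk).isOpen_compl⟩ : U.Opens) from hu)
  obtain ⟨φ, hφ⟩ := Spec.map_surjective (j ≫ g)
  let R' : Type u := R'c
  letI : Algebra R R' := φ.hom.toAlgebra
  haveI hEt : Algebra.Etale R R' := by
    rw [← RingHom.etale_algebraMap, RingHom.algebraMap_toAlgebra]
    rw [← HasRingHomProperty.Spec_iff (P := @Etale), hφ]
    infer_instance
  let T := R' ⊗[R] S
  let g' := Spec.map (CommRingCat.ofHom (algebraMap R R'))
  have hg' : j ≫ g = g' := hφ.symm
  let θ : Spec (CommRingCat.of T) ≅ pullback f g' :=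
    (pullbackSpecIso R R' S).symm ≪≫ pullbackSymmetry _ _
  let ψ : Spec (CommRingCat.of T) ⟶ pullback f g := θ.hom ≫ bcMap f j hg'
  have hψ : ψ ≫ q = Spec.map (CommRingCat.ofHom (algebraMap R' T)) ≫ j := by
    simp only [ψ, θ, q, Category.assoc, Iso.trans_hom, Iso.symm_hom, bcMap_snd]
    rw [← Category.assoc (pullbackSymmetry _ _).hom, pullbackSymmetry_hom_comp_snd, ← Category.assoc,
      pullbackSpecIso_inv_fst]
    rfl
  have hsq : IsPullback ψ (Spec.map (CommRingCat.ofHom (algebraMap R' T))) q j := by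
    refine (isPullback_bcMap f j hg').of_iso θ.symm (Iso.refl _) (Iso.refl _) (Iso.refl _) ?_ ?_ ?_ ?_
    · simp [ψ]
    · simp only [θ, Iso.trans_symm, Iso.symm_symm_eq, Iso.trans_hom, Iso.refl_hom, Category.comp_id,
        Category.assoc, Iso.symm_hom]
      rw [← pullbackSymmetry_inv_comp_fst]
      exact congrArg (_ ≫ ·) (pullbackSpecIso_hom_fst R R' S).symm
    · simp [q]
    · simp
  haveI : IsOpenImmersion ψ := MorphismProperty.of_isPullback hsq.flip inferInstance
  have hcomap : p'.asIdeal.comap (algebraMap R R') = p.asIdeal := by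
    have h1 : g' p' = p := by
      rw [← hg', Scheme.Hom.comp_apply]
      exact (congrArg g hp').trans hgu
    exact congrArg PrimeSpectrum.asIdeal h1
  haveI : Finite J := hJ.to_subtype
  let m := Nat.card J
  let J' : Fin m → J := (Finite.equivFin J).symm
  have hclop : ∀ i : Fin m, IsClopen (ψ ⁻¹' (W (J' i) : Set ↥(pullback f g))) := fun i =>
    (hJW _ (J' i).2).2.2.2.preimage ψ.continuous
  choose e he hbo using fun i => PrimeSpectrum.exists_idempotent_basicOpen_eq_of_isClopen (hclop i)
  have hmem : ∀ (i : Fin m) (r : PrimeSpectrum T), e i ∉ r.asIdeal ↔ ψ r ∈ W (J' i) := fun i r =>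
    (Set.ext_iff.mp (hbo i) r).symm
  have hq' : ∀ r : PrimeSpectrum T,
      q (ψ r) = j (PrimeSpectrum.comap (algebraMap R' T) r) := fun r => by
    rw [← Scheme.Hom.comp_apply, hψ]
    rfl
  have hortho : ∀ i i', i ≠ i' → e i * e i' = 0 := by
    intro i i' hne
    refine (he i |>.mul (he i')).eq_zero_of_isNilpotent (mem_nilradical.mp ?_)
    rw [nilradical_eq_sInf, Ideal.mem_sInf]
    intro r hr
    by_contra hcon
    have h1 : e i ∉ r := fun h => hcon (Ideal.mul_mem_right _ _ h)
    have h2 : e i' ∉ r := fun h => hcon (Ideal.mul_mem_left _ _ h)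
    exact hne ((Finite.equivFin J).symm.injective (Subtype.ext (hdis _ (J' i).2 _ (J' i').2
      ⟨ψ ⟨r, hr⟩, (hmem i ⟨r, hr⟩).mp h1, (hmem i' ⟨r, hr⟩).mp h2⟩)))
  have hsum : ∀ r : PrimeSpectrum T, ∃ i, e i ∉ r.asIdeal := by
    intro r
    have h1 : ψ r ∉ Junk := fun hmemJ => by
      have : j (PrimeSpectrum.comap (algebraMap R' T) r) ∈ (q '' Junk)ᶜ := hjsub ⟨_, rfl⟩
      exact this ⟨ψ r, hmemJ, hq' r⟩
    simp only [Junk, Set.mem_compl_iff, not_not, Set.mem_iUnion] at h1
    obtain ⟨z, hz, hzr⟩ := h1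
    exact ⟨Finite.equivFin J ⟨z, hz⟩, (hmem _ r).mpr (by simpa [J'] using hzr)⟩
  have horth : OrthogonalIdempotents e := ⟨he, fun i i' h => hortho i i' h⟩
  have hcomplete : CompleteOrthogonalIdempotents e := by
    refine ⟨horth, ?_⟩
    have hid : IsIdempotentElem (1 - ∑ i, e i) := horth.isIdempotentElem_sum.one_sub
    refine (sub_eq_zero.mp (hid.eq_zero_of_isNilpotent (mem_nilradical.mp ?_))).symm
    rw [nilradical_eq_sInf, Ideal.mem_sInf]
    intro r hr
    haveI := hr.out
    obtain ⟨i, hi⟩ := hsum ⟨r, hr⟩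
    refine (hr.out.mem_or_mem (show e i * (1 - ∑ i, e i) ∈ r from ?_)).resolve_left hi
    rw [mul_sub, mul_one, horth.mul_sum_of_mem (Finset.mem_univ i), sub_self]
    exact zero_mem _
  refine ⟨R', inferInstance, inferInstance, hEt, p', hcomap, m, e, hcomplete, fun i => ?_, ?_⟩
  · obtain ⟨r, hr1, hr2⟩ := Scheme.exists_preimage_of_isPullback hsq (J' i).1 p'
      ((hJW _ (J' i).2).1.map_eq.trans hp'.symm)
    exact ⟨r, (hmem i r).mpr (hr1 ▸ (hJW _ (J' i).2).1.mem), congrArg PrimeSpectrum.asIdeal hr2⟩
  · intro i K _ a b hab hka hae hbe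
    let L := AlgebraicClosure K
    let α : (T →+* K) → (Spec (CommRingCat.of L) ⟶ Spec (CommRingCat.of T)) := fun c =>
      Spec.map (CommRingCat.ofHom ((algebraMap K L).comp c))
    have hpt : ∀ c : T →+* K, c.comp (algebraMap R' T) = a.comp (algebraMap R' T) → c (e i) = 1 →
        GeomPts.pt (α c ≫ ψ) = (J' i).1 := by
      intro c hc hce
      rw [GeomPts.pt_comp]
      let r : PrimeSpectrum T := GeomPts.pt (α c)
      have hr : r.asIdeal = RingHom.ker c := by
        ext x
        show x ∈ Ideal.comap ((algebraMap K L).comp c) _ ↔ _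
        simp only [Ideal.mem_comap, RingHom.comp_apply, RingHom.mem_ker]
        rw [show (IsLocalRing.closedPoint (CommRingCat.of L)).asIdeal = ⊥ from
          IsLocalRing.maximalIdeal_eq_bot, Ideal.mem_bot, map_eq_zero_iff _ (algebraMap K L).injective]
      have h1 : e i ∉ r.asIdeal := by
        rw [hr, RingHom.mem_ker, hce]; exact one_ne_zero
      refine (hJW _ (J' i).2).1.unique _ ((hmem i r).mp h1) ?_
      rw [hq' r]
      have h2 : PrimeSpectrum.comap (algebraMap R' T) r = p' := by
        refine PrimeSpectrum.ext ?_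
        show r.asIdeal.comap _ = _
        rw [hr, RingHom.comap_ker, hc, ← RingHom.comap_ker, hka]
      rw [h2, hp']
    have hcomp : (α a ≫ ψ) ≫ q = (α b ≫ ψ) ≫ q := by
      simp only [α, Category.assoc, hψ, ← Spec.map_comp_assoc]
      congr 2
      ext x
      exact congrArg (algebraMap K L) (congrArg (fun h => h x) hab)
    have := (hJW _ (J' i).2).2.1 L (α a ≫ ψ) (α b ≫ ψ) (hpt a rfl hae) (hpt b hab.symm hbe) hcomp
    rw [cancel_mono, Spec.map_inj] at this
    exact RingHom.ext fun x => (algebraMap K L).injective (congrArg (fun h => h.hom x) this)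

end Groth.Agent.FlatMor.SplitFinite
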