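import Mathlib.LinearAlgebra.SymmetricAlgebra.Basic
import Mathlib.RingTheory.Extension.Cotangent.Basic
import Mathlib.RingTheory.Flat.Basic
import Mathlib.Algebra.Module.Projective

/-!
Presentations of symmetric algebras.
-/

universe u

open MvPolynomial TensorProduct

namespace Groth.Agent.FlatMor.SymPres

variable {A M : Type u} [CommRing A] [AddCommGroup M] [Module A M] {m : ℕ} (x : Fin m → M)

/-- The linear form attached to a vector. -/
noncomputable def form : (Fin m → A) →ₗ[A] MvPolynomial (Fin m) A :=
  Fintype.linearCombination A (fun j => (X j : MvPolynomial (Fin m) A))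

theorem form_apply (k : Fin m → A) : form k = ∑ j, C (k j) * X j := by
  simp [form, Fintype.linearCombination_apply, MvPolynomial.smul_eq_C_mul]

theorem aeval_form (k : Fin m → A) :
    aeval (fun j => SymmetricAlgebra.ι A M (x j)) (form k) =
      SymmetricAlgebra.ι A M (Fintype.linearCombination A x k) := by
  simp [form, Fintype.linearCombination_apply, map_sum, map_smul]

/-- The kernel of the presentation is generated by the linear forms of relations. -/
theorem ker_eq (hx : Function.Surjective (Fintype.linearCombination A x)) :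
    RingHom.ker (aeval (fun j => SymmetricAlgebra.ι A M (x j)) :
      MvPolynomial (Fin m) A →ₐ[A] SymmetricAlgebra A M) =
    Ideal.span (form '' (LinearMap.ker (Fintype.linearCombination A x) : Set (Fin m → A))) := by
  set π := Fintype.linearCombination A x
  set J := Ideal.span (form '' (LinearMap.ker π : Set (Fin m → A)))
  apply le_antisymm
  · intro p hp
    rw [← Ideal.Quotient.eq_zero_iff_mem]
    have hle : LinearMap.ker π ≤ LinearMap.ker ((Ideal.Quotient.mkₐ A J).toLinearMap ∘ₗ form) :=
      fun k hk => Ideal.Quotient.eq_zero_iff_mem.mpr (Ideal.subset_span ⟨k, hk, rfl⟩)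
    let β : M →ₗ[A] MvPolynomial (Fin m) A ⧸ J :=
      Submodule.liftQ _ _ hle ∘ₗ (π.quotKerEquivOfSurjective hx).symm.toLinearMap
    have hβ : ∀ k, β (π k) = Ideal.Quotient.mk J (form k) := by
      intro k
      have : (π.quotKerEquivOfSurjective hx).symm (π k) = Submodule.Quotient.mk k := by
        rw [LinearEquiv.symm_apply_eq]; rfl
      simp [β, this]
    have key : (SymmetricAlgebra.lift β).comp (aeval fun j => SymmetricAlgebra.ι A M (x j)) =
        Ideal.Quotient.mkₐ A J := by
      refine MvPolynomial.algHom_ext fun j => ?_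
      simp only [AlgHom.comp_apply, aeval_X, SymmetricAlgebra.lift_ι_apply]
      have h1 : π (Pi.single j 1) = x j := by simp [π]
      rw [← h1, hβ]
      simp [form]
    have := congr($key p)
    rw [AlgHom.comp_apply, RingHom.mem_ker.mp hp, map_zero] at this
    exact this.symm
  · rw [Ideal.span_le]
    rintro _ ⟨k, hk, rfl⟩
    rw [SetLike.mem_coe, RingHom.mem_ker, aeval_form, LinearMap.mem_ker.mp hk, map_zero]

theorem form_smul (a : A) (k : Fin m → A) : form (a • k) = C a * form k := by
  rw [map_smul, MvPolynomial.smul_eq_C_mul]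

theorem aux {Cs : Type u} [CommRing Cs] [Algebra A Cs] (G : Algebra.Generators A Cs (Fin m))
    (K : Submodule A (Fin m → A))
    (hker : G.toExtension.ker = Ideal.span (form '' (K : Set (Fin m → A)))) :
    ∃ e : Cs ⊗[A] K →ₗ[Cs] G.toExtension.Cotangent,
      (∀ (k : K) (hk : form (k : Fin m → A) ∈ G.toExtension.ker),
        e (1 ⊗ₜ k) = Algebra.Extension.Cotangent.mk ⟨_, hk⟩) ∧
      Function.Surjective e ∧
      ((∃ r : (Fin m → A) →ₗ[A] K, r ∘ₗ K.subtype = LinearMap.id) → Function.Bijective e) := by
  have hmem : ∀ k : K, form (k : Fin m → A) ∈ G.toExtension.ker := fun k =>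
    hker.symm ▸ Ideal.subset_span ⟨k, k.2, rfl⟩
  let ν : K →ₗ[A] G.toExtension.ker.restrictScalars A :=
    LinearMap.codRestrict _ (form ∘ₗ K.subtype) hmem
  let mk' : G.toExtension.ker.restrictScalars A →ₗ[A] G.toExtension.Cotangent :=
    { toFun := fun z => Algebra.Extension.Cotangent.mk ⟨z.1, z.2⟩
      map_add' := fun z w => (congrArg Algebra.Extension.Cotangent.mk (Subtype.ext rfl)).trans
        (map_add Algebra.Extension.Cotangent.mk (⟨z.1, z.2⟩ : G.toExtension.ker) ⟨w.1, w.2⟩)
      map_smul' := fun a z => by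
        rw [RingHom.id_apply, ← IsScalarTower.algebraMap_smul G.toExtension.Ring a
          (Algebra.Extension.Cotangent.mk _), ← map_smul]
        congr 1
        exact Subtype.ext (Algebra.smul_def a z.1) }
  let μ : K →ₗ[A] G.toExtension.Cotangent := mk' ∘ₗ ν
  have hμ : ∀ k, μ k = Algebra.Extension.Cotangent.mk ⟨form (k : Fin m → A), hmem k⟩ := fun k => rfl
  let e := LinearMap.liftBaseChange Cs μ
  have he : ∀ k, e (1 ⊗ₜ k) = μ k := fun k => by simp [e]
  have hsurj : Function.Surjective e := by
    intro y
    obtain ⟨⟨p, hp⟩, rfl⟩ := Algebra.Extension.Cotangent.mk_surjective y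
    suffices H : ∀ q (hq : q ∈ Ideal.span (form '' (K : Set (Fin m → A)))),
        Algebra.Extension.Cotangent.mk ⟨q, hker.symm ▸ hq⟩ ∈ LinearMap.range e by
      exact H p (hker ▸ hp)
    intro q hq
    induction hq using Submodule.span_induction with
    | mem z hz =>
      obtain ⟨k, hk, rfl⟩ := hz
      exact ⟨1 ⊗ₜ ⟨k, hk⟩, (he _).trans (hμ _)⟩
    | zero => exact ⟨0, by rw [map_zero]; exact (map_zero (Algebra.Extension.Cotangent.mk (P := G.toExtension))).symm⟩
    | add a b ha hb iha ihb =>
      obtain ⟨a', ha'⟩ := iha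
      obtain ⟨b', hb'⟩ := ihb
      exact ⟨a' + b', by rw [map_add, ha', hb', ← map_add]; rfl⟩
    | smul r a ha iha =>
      obtain ⟨a', ha'⟩ := iha
      refine ⟨algebraMap G.toExtension.Ring Cs r • a', ?_⟩
      rw [LinearMap.map_smul, ha', IsScalarTower.algebraMap_smul]
      exact (LinearMap.map_smul (Algebra.Extension.Cotangent.mk (P := G.toExtension)) r
        (⟨a, hker.symm ▸ ha⟩ : G.toExtension.ker)).symm.trans
        (congrArg Algebra.Extension.Cotangent.mk (Subtype.ext rfl))
  refine ⟨e, fun k hk => (he k).trans (hμ k), hsurj, fun ⟨r, hr⟩ => ⟨?_, hsurj⟩⟩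
  let D : G.toExtension.Cotangent →ₗ[Cs] (Fin m → Cs) :=
    G.cotangentSpaceBasis.equivFun.toLinearMap ∘ₗ G.toExtension.cotangentComplex
  let L : (Fin m → Cs) →ₗ[Cs] Cs ⊗[A] K :=
    Fintype.linearCombination Cs (fun j => (1 : Cs) ⊗ₜ[A] r (Pi.single j 1))
  have hD : ∀ k : K, D (μ k) = fun i => algebraMap A Cs ((k : Fin m → A) i) := by
    intro k
    funext i
    show G.cotangentSpaceBasis.equivFun (G.toExtension.cotangentComplex _) i = _
    rw [Module.Basis.equivFun_apply]
    refine (G.cotangentSpaceBasis_repr_one_tmul (form (k : Fin m → A)) i).trans ?_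
    simp [form_apply, Pi.single_apply]
  have hLD : ∀ z, L (D (e z)) = z := by
    intro z
    induction z with
    | zero => simp
    | tmul c k =>
      have : c ⊗ₜ[A] k = c • ((1 : Cs) ⊗ₜ[A] k) := by rw [TensorProduct.smul_tmul', smul_eq_mul, mul_one]
      rw [this, map_smul, map_smul, map_smul, he, hD]
      congr 1
      simp only [L, Fintype.linearCombination_apply, algebraMap_smul, ← TensorProduct.tmul_smul,
        ← TensorProduct.tmul_sum, ← map_smul, ← map_sum]
      congr 1
      have hsum : ∑ j, (k : Fin m → A) j • (Pi.single j 1 : Fin m → A) = k := (pi_eq_sum_univ' _).symm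
      rw [hsum]
      exact congr($hr k)
    | add a b ha hb => rw [map_add, map_add, map_add, ha, hb]
  exact Function.HasLeftInverse.injective ⟨fun z => L (D z), hLD⟩

theorem main (hx : Function.Surjective (Fintype.linearCombination A x))
    (G : Algebra.Generators A (SymmetricAlgebra A M) (Fin m))
    (hG : ∀ j, G.val j = SymmetricAlgebra.ι A M (x j)) :
    ∃ e : SymmetricAlgebra A M ⊗[A] (LinearMap.ker (Fintype.linearCombination A x)) →ₗ[SymmetricAlgebra A M]
        G.toExtension.Cotangent,
      (∀ (k : LinearMap.ker (Fintype.linearCombination A x))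
        (hk : (∑ j, C ((k : Fin m → A) j) * X j : MvPolynomial (Fin m) A) ∈ G.toExtension.ker),
        e (1 ⊗ₜ k) = Algebra.Extension.Cotangent.mk ⟨_, hk⟩) ∧
      Function.Surjective e ∧ (Module.Projective A M → Function.Bijective e) := by
  have hker : G.toExtension.ker = Ideal.span (form '' (LinearMap.ker (Fintype.linearCombination A x) :
      Set (Fin m → A))) := by
    rw [← ker_eq x hx]
    change G.ker = _
    rw [G.ker_eq_ker_aeval_val, show G.val = fun j => SymmetricAlgebra.ι A M (x j) from funext hG]
  obtain ⟨e, h1, h2, h3⟩ := aux G _ hker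
  refine ⟨e, fun k hk => ?_, h2, fun hM => h3 ?_⟩
  · have hk' : form (k : Fin m → A) ∈ G.toExtension.ker := (form_apply (k : Fin m → A)).symm ▸ hk
    exact (h1 k hk').trans (congrArg _ (Subtype.ext (form_apply (k : Fin m → A))))
  · obtain ⟨s, hs⟩ := Module.projective_lifting_property (Fintype.linearCombination A x) LinearMap.id hx
    have hk' : ∀ k, (LinearMap.id - s ∘ₗ Fintype.linearCombination A x : (Fin m → A) →ₗ[A] _) k ∈
        LinearMap.ker (Fintype.linearCombination A x) := fun k => by
      simp only [LinearMap.mem_ker, LinearMap.sub_apply, LinearMap.id_coe, id_eq, LinearMap.comp_apply,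
        map_sub, show Fintype.linearCombination A x (s (Fintype.linearCombination A x k)) =
          Fintype.linearCombination A x k from congr($hs _), sub_self]
    refine ⟨LinearMap.codRestrict _ _ hk', LinearMap.ext fun k => Subtype.ext ?_⟩
    simp [LinearMap.mem_ker.mp k.2]

end Groth.Agent.FlatMor.SymPres
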