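import Groth.Agent.WN.Basic
import Mathlib.FieldTheory.PurelyInseparable.Basic
import Mathlib.RingTheory.Adjoin.Basic
import Mathlib.RingTheory.IntegralClosure.IsIntegralClosure.Basic

/-!
# A purely inseparable extension of the fraction field spreads out to a universal homeomorphism
-/

set_option autoImplicit false
universe u

namespace Groth.Agent.FlatMor.UnivHomeoOrder

open Groth.Agent.WN

lemma pow_expChar_inj {R F : Type*} [CommRing R] [Field F] (g : R →+* F) (q : ℕ) [hq : ExpChar R q]
    (n : ℕ) (x y : F) (hxy : x ^ q ^ n = y ^ q ^ n) : x = y := by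
  cases hq with
  | zero => simpa using hxy
  | prime hq =>
    haveI : CharP F q := (CharP.charP_iff_prime_eq_zero hq).2
      (by rw [← map_natCast g q, CharP.cast_eq_zero, map_zero])
    haveI : ExpChar F q := .prime hq
    exact iterateFrobenius_inj F q n (by simpa [iterateFrobenius_def] using hxy)

/-- A finite purely inseparable extension of the residue field of the unique minimal prime of `R`
is the fraction field of a domain finite over `R` whose spectrum is universally homeomorphic to
that of `R`. -/
theorem exists_univHomeo_order {R k L : Type u} [CommRing R] [Field k] [Field L] [Algebra k L]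
    [FiniteDimensional k L] [IsPurelyInseparable k L] (ρ : R →+* k)
    (hρ : ∀ x : k, ∃ a s : R, ρ s ≠ 0 ∧ x = ρ a / ρ s)
    (hmin : ∀ q : Ideal R, q.IsPrime → RingHom.ker ρ ≤ q) :
    ∃ (E : Type u) (_ : CommRing E) (_ : IsDomain E) (φ : R →+* E) (ψ : E →+* L),
      Function.Injective ψ ∧ φ.Finite ∧ IsRadHomeo φ ∧ ψ.comp φ = (algebraMap k L).comp ρ ∧
      Subfield.closure (Set.range ψ) = ⊤ := by
  classical
  letI : Algebra R L := ((algebraMap k L).comp ρ).toAlgebra
  have halg : ∀ r : R, algebraMap R L r = algebraMap k L (ρ r) := fun _ => rfl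
  let q := ringExpChar k
  haveI : ExpChar L q := expChar_of_injective_algebraMap (algebraMap k L).injective q
  -- elements some Frobenius power of which comes from `R`
  let P : Subalgebra R L :=
    { carrier := {x | ∃ n : ℕ, x ^ q ^ n ∈ (algebraMap R L).range}
      mul_mem' := by
        rintro x y ⟨n, hn⟩ ⟨m, hm⟩
        refine ⟨n + m, ?_⟩
        rw [mul_pow]
        refine mul_mem ?_ ?_
        · rw [pow_add, pow_mul]; exact pow_mem hn _
        · rw [add_comm, pow_add, pow_mul]; exact pow_mem hm _
      add_mem' := by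
        rintro x y ⟨n, hn⟩ ⟨m, hm⟩
        refine ⟨n + m, ?_⟩
        rw [add_pow_expChar_pow]
        refine add_mem ?_ ?_
        · rw [pow_add, pow_mul]; exact pow_mem hn _
        · rw [add_comm, pow_add, pow_mul]; exact pow_mem hm _
      algebraMap_mem' := fun r => ⟨0, by simp⟩ }
  have hscale : ∀ x : L, ∃ s : R, ρ s ≠ 0 ∧ algebraMap R L s * x ∈ P := by
    intro x
    obtain ⟨n, c, hc⟩ := IsPurelyInseparable.pow_mem k q x
    obtain ⟨a, s, hs, rfl⟩ := hρ c
    obtain ⟨N, hN⟩ : ∃ N, q ^ n = N + 1 := ⟨q ^ n - 1, by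
      have := pow_pos (expChar_pos k q) n; omega⟩
    refine ⟨s, hs, n, s ^ N * a, ?_⟩
    rw [mul_pow, ← hc, map_mul, map_pow, halg, halg, map_div₀, hN, pow_succ, mul_assoc]
    congr 1
    field_simp [(map_ne_zero (algebraMap k L)).mpr hs]
  choose s hs hsP using hscale
  let b := Module.finBasis k L
  let gens : Set L := Set.range fun i => algebraMap R L (s (b i)) * b i
  let E := Algebra.adjoin R gens
  have hEP : E ≤ P := Algebra.adjoin_le (by rintro _ ⟨i, rfl⟩; exact hsP _)
  have hint : ∀ x ∈ P, IsIntegral R x := by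
    rintro x ⟨n, r, hr⟩
    exact IsIntegral.of_pow (pow_pos (expChar_pos k q) n) (hr ▸ isIntegral_algebraMap)
  haveI : Module.Finite R E := Module.Finite.iff_fg.mpr
    (fg_adjoin_of_finite (Set.finite_range _) fun x hx => hint x (hEP (Algebra.subset_adjoin hx)))
  refine ⟨E, inferInstance, inferInstance, algebraMap R E, E.val.toRingHom, Subtype.val_injective,
    RingHom.finite_algebraMap.mpr ‹_›, ?_, rfl, ?_⟩
  · have hker : RingHom.ker (algebraMap R E) ≤ nilradical R := by
      rw [nilradical_eq_sInf]
      refine le_sInf fun Q hQ => fun r hr => hmin Q hQ ?_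
      have h : algebraMap R L r = 0 := congrArg Subtype.val (RingHom.mem_ker.mp hr)
      rw [halg, map_eq_zero] at h
      exact h
    refine ⟨algebraMap_isIntegral_iff.mpr inferInstance,
      surj_of_isIntegral_of_ker_le (algebraMap_isIntegral_iff.mpr inferInstance) hker, ?_⟩
    intro K _ g₁ g₂ hg
    ext x
    obtain ⟨n, r, hr⟩ := hEP x.2
    haveI : ExpChar E q := E.val.toRingHom.expChar Subtype.val_injective q
    have hx : x ^ q ^ n = algebraMap R E r := Subtype.ext hr.symm
    exact pow_expChar_inj g₁ q n _ _ (by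
      simp only [← map_pow, hx]
      exact RingHom.congr_fun hg r)
  · refine eq_top_iff.mpr fun x _ => ?_
    have hE : ∀ y ∈ E, y ∈ Subfield.closure (Set.range E.val.toRingHom) := fun y hy =>
      Subfield.subset_closure ⟨⟨y, hy⟩, rfl⟩
    have hk : ∀ c : k, algebraMap k L c ∈ Subfield.closure (Set.range E.val.toRingHom) := by
      intro c
      obtain ⟨a, t, _, rfl⟩ := hρ c
      rw [map_div₀]
      exact div_mem (hE _ (Subalgebra.algebraMap_mem E a)) (hE _ (Subalgebra.algebraMap_mem E t))
    have hb : ∀ i, b i ∈ Subfield.closure (Set.range E.val.toRingHom) := by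
      intro i
      have hne : algebraMap R L (s (b i)) ≠ 0 := (map_ne_zero (algebraMap k L)).mpr (hs _)
      rw [← mul_div_cancel_left₀ (b i) hne]
      exact div_mem (hE _ (Algebra.subset_adjoin ⟨i, rfl⟩)) (hE _ (Subalgebra.algebraMap_mem E _))
    rw [← b.sum_repr x]
    refine sum_mem fun i _ => ?_
    rw [Algebra.smul_def]
    exact mul_mem (hk _) (hb i)

end Groth.Agent.FlatMor.UnivHomeoOrder
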